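import Cfsg.Agent.MTwelveUnique.Recognise

set_option autoImplicit false
set_option maxRecDepth 10000

/-!
Replacing `g` by `g * w` exchanges the two remaining values of the loop word.
-/

namespace CfsgLib.MTwelveUnique

open CfsgLib.CosetEnum

namespace Frame

variable {G : Type*} [Group G] (F : Frame G)

theorem g_mul_w_eq : F.g * F.ι mw = F.ι mp * F.g * F.ι mp := by
  obtain ⟨-, c2, -, -⟩ := F.conj_letters
  have hp : F.ι mp * F.ι mp = 1 := by rw [← map_mul, ← map_one F.ι]; congr 1; decide +kernel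
  have h : F.ι mp * F.g = F.g * (F.ι mw * F.ι mp) := by rw [← c2]; group
  rw [h]
  simp only [mul_assoc, hp, mul_one]

/-- The configuration with `g * w` in place of `g`. -/
def twist : Frame G where
  ι := F.ι
  g := F.g * F.ι mw
  inj := F.inj
  range_eq := F.range_eq
  cube := by
    have hp : F.ι mp * F.ι mp = 1 := by rw [← map_mul, ← map_one F.ι]; congr 1; decide +kernel
    have h3 := F.cube
    rw [F.g_mul_w_eq]
    calc (F.ι mp * F.g * F.ι mp) ^ 3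
        = F.ι mp * F.g * (F.ι mp * F.ι mp) * F.g * (F.ι mp * F.ι mp) * F.g * F.ι mp := by
          simp only [pow_succ, pow_zero, one_mul, mul_assoc]
      _ = F.ι mp * F.g ^ 3 * F.ι mp := by
          rw [hp]; simp only [pow_succ, pow_zero, one_mul, mul_one, mul_assoc]
      _ = 1 := by rw [h3, mul_one, hp]
  conj_gen := by
    intro ab hab
    have h := F.conj_gen ab hab
    have hb : mw * ab.2 = ab.2 * mw :=
      (by decide +kernel : ∀ ab ∈ gGen, mw * ab.2 = ab.2 * mw) ab hab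
    calc (F.g * F.ι mw)⁻¹ * F.ι ab.1 * (F.g * F.ι mw)
        = (F.ι mw)⁻¹ * (F.g⁻¹ * F.ι ab.1 * F.g) * F.ι mw := by group
      _ = F.ι ab.2 := by
          rw [h, ← map_inv, ← map_mul, ← map_mul]
          congr 1
          rw [mul_assoc, ← hb, inv_mul_cancel_left]
  inClass_of_isConj := F.inClass_of_isConj

theorem twist_loop (hl : prodw F.gl loopWord = F.ι (wordM (loopVals.getD 4 []))) :
    prodw F.twist.gl loopWord = F.ι (wordM (loopVals.getD 0 [])) := by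
  obtain ⟨c1, c2, -, c4⟩ := F.conj_letters
  have hp : F.ι mp * F.ι mp = 1 := by rw [← map_mul, ← map_one F.ι]; congr 1; decide +kernel
  have hwi : (F.ι mw)⁻¹ = F.ι mw := by rw [← map_inv]; congr 1
  have hGw : F.g⁻¹ * F.ι mw = F.ι mp * F.g⁻¹ := by rw [← c1]; group
  have hGp : F.g⁻¹ * F.ι mp = F.ι mw * F.ι mp * F.g⁻¹ := by rw [← c2]; group
  have hGr : F.g⁻¹ * F.ι mr = F.ι mw * F.ι mr * F.g⁻¹ := by
    have h1 : F.g⁻¹ * (F.ι mp * F.ι mr) = F.ι mp * F.ι mr * F.g⁻¹ := by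
      conv_rhs => rw [← c4]
      group
    calc F.g⁻¹ * F.ι mr = F.g⁻¹ * F.ι mp * (F.ι mp * F.ι mr) := by
          rw [mul_assoc F.g⁻¹, ← mul_assoc (F.ι mp), hp, one_mul]
      _ = F.ι mw * F.ι mp * (F.g⁻¹ * (F.ι mp * F.ι mr)) := by rw [hGp]; group
      _ = F.ι mw * (F.ι mp * F.ι mp) * F.ι mr * F.g⁻¹ := by rw [h1]; group
      _ = F.ι mw * F.ι mr * F.g⁻¹ := by rw [hp, mul_one]
  have hA : F.ι mw * F.ι (wordM [2, 0, 4, 2]) = F.ι (wordM [2, 0, 4, 2]) * F.ι mw := by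
    rw [← map_mul, ← map_mul]; rfl
  have hB : F.ι mw * F.ι (wordM [2, 4, 0, 2]) = F.ι (wordM [2, 4, 0, 2]) * F.ι mw := by
    rw [← map_mul, ← map_mul]; rfl
  have hAp : F.ι (wordM [2, 0, 4, 2]) * F.ι mp = F.ι mr * F.ι (wordM [2, 0, 4, 2]) := by
    rw [← map_mul, ← map_mul]; congr 1; decide +kernel
  have e1 : prodw F.gl loopWord = F.g⁻¹ * F.ι (wordM [2, 0, 4, 2]) * F.g⁻¹ *
      F.ι (wordM [2, 4, 0, 2]) * F.g⁻¹ := by
    simp [loopWord, prodw, gl, letM, wordM, mul_assoc]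
  have e2 : prodw F.twist.gl loopWord = F.ι mw * F.g⁻¹ * F.ι (wordM [2, 0, 4, 2]) *
      (F.ι mw * F.g⁻¹) * F.ι (wordM [2, 4, 0, 2]) * (F.ι mw * F.g⁻¹) := by
    simp [loopWord, prodw, gl, twist, letM, wordM, mul_assoc, hwi]
  rw [e2]
  set A := F.ι (wordM [2, 0, 4, 2])
  set B := F.ι (wordM [2, 4, 0, 2])
  calc F.ι mw * F.g⁻¹ * A * (F.ι mw * F.g⁻¹) * B * (F.ι mw * F.g⁻¹)
      = F.ι mw * F.g⁻¹ * (A * F.ι mw) * F.g⁻¹ * (B * F.ι mw) * F.g⁻¹ := by group
    _ = F.ι mw * (F.g⁻¹ * F.ι mw) * A * (F.g⁻¹ * F.ι mw) * B * F.g⁻¹ := by rw [← hA, ← hB]; group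
    _ = F.ι mw * F.ι mp * F.g⁻¹ * (A * F.ι mp) * F.g⁻¹ * B * F.g⁻¹ := by rw [hGw]; group
    _ = F.ι mw * F.ι mp * (F.g⁻¹ * F.ι mr) * A * F.g⁻¹ * B * F.g⁻¹ := by rw [hAp]; group
    _ = F.ι mw * F.ι mp * F.ι mw * F.ι mr * (F.g⁻¹ * A * F.g⁻¹ * B * F.g⁻¹) := by rw [hGr]; group
    _ = F.ι mw * F.ι mp * F.ι mw * F.ι mr * F.ι (wordM (loopVals.getD 4 [])) := by rw [← e1, hl]
    _ = _ := by simp only [← map_mul]; congr 1; decide +kernel

-- Recognition of a simple group of order 95040 from a configuration.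
include F in
theorem nonempty_equiv [Finite G] [IsSimpleGroup G] (hcard : Nat.card G = 95040) :
    Nonempty (G ≃* tableGroup) := by
  rcases F.loop_zero_or_four with hl | hl
  · exact F.nonempty_equiv_of_loop hcard hl
  · exact F.twist.nonempty_equiv_of_loop hcard (F.twist_loop hl)

end Frame

end CfsgLib.MTwelveUnique
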