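import Cfsg.Agent.MTwelveUnique.ExistsFrame
import Cfsg.Agent.MTwelveUnique.Twist
import Cfsg.Agent.Mathieu.General

/-!
Simple groups of order 95040 are isomorphic to each other and to the Mathieu group of degree twelve.
-/

set_option autoImplicit false

open Cfsg

namespace CfsgLib.MTwelveUnique

/-- A simple group of order 95040 is isomorphic to the group of the table. -/
theorem nonempty_mulEquiv_table {G : Type*} [Group G] [Finite G] [IsSimpleGroup G]
    (hG : Nat.card G = 95040) : Nonempty (G ≃* tableGroup) := by
  obtain ⟨F⟩ := nonempty_frame hG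
  exact F.nonempty_equiv hG

/-- Simple groups of order 95040 are isomorphic. -/
theorem nonempty_mulEquiv_of_simple {G H : Type*} [Group G] [Finite G] [IsSimpleGroup G]
    (hG : Nat.card G = 95040) [Group H] [Finite H] [IsSimpleGroup H] (hH : Nat.card H = 95040) :
    Nonempty (G ≃* H) := by
  obtain ⟨e⟩ := nonempty_mulEquiv_table hG
  obtain ⟨f⟩ := nonempty_mulEquiv_table hH
  exact ⟨e.trans f.symm⟩

/-- A simple group of order 95040 is isomorphic to the Mathieu group of degree twelve. -/
theorem nonempty_mulEquiv_SporM12 {G : Type*} [Group G] [Finite G] [IsSimpleGroup G]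
    (hG : Nat.card G = 95040) : Nonempty (G ≃* ↥Spor.M12) := by
  haveI : IsSimpleGroup ↥Spor.M12 := Mathieu.simple_SporM12
  exact nonempty_mulEquiv_of_simple hG Mathieu.card_SporM12

end CfsgLib.MTwelveUnique
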