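import Cfsg.Agent.MTwelveUnique.Sylows
import Cfsg.Agent.MElevenUnique.Eleven

/-!
A simple group of order 95040: indices and the orders of the Sylow subgroups.
-/

set_option autoImplicit false

open scoped Pointwise
open MulAction

namespace CfsgLib.MTwelveUnique

open CfsgLib.MElevenUnique (Cg Ng Cs fixCard)

section

variable {G : Type*} [Group G] [Finite G] (hG : Nat.card G = 95040)
include hG

theorem card_dvd' (H : Subgroup G) : Nat.card H ∣ 95040 := hG ▸ Subgroup.card_subgroup_dvd_card H

theorem card_sylow_two (S : Sylow 2 G) [Fact (Nat.Prime 2)] : Nat.card (S : Subgroup G) = 64 :=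
  Small.card_sylow_eq (k := 6) (m := 1485) (by rw [hG]; norm_num) (by norm_num) S

theorem card_sylow_three' (T : Sylow 3 G) [Fact (Nat.Prime 3)] : Nat.card (T : Subgroup G) = 27 :=
  Small.card_sylow_eq (k := 3) (m := 3520) (by rw [hG]; norm_num) (by norm_num) T

theorem card_sylow_five (Q : Sylow 5 G) [Fact (Nat.Prime 5)] : Nat.card (Q : Subgroup G) = 5 :=
  GraphSimple.card_sylow_eq_prime (m := 19008) (by rw [hG]) (by norm_num) Q

theorem card_sylow_eleven (P : Sylow 11 G) [Fact (Nat.Prime 11)] : Nat.card (P : Subgroup G) = 11 :=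
  GraphSimple.card_sylow_eq_prime (m := 8640) (by rw [hG]) (by norm_num) P

variable [IsSimpleGroup G]

theorem not_comm : ¬ IsMulCommutative G := Small.not_comm_of_card hG (by norm_num)

theorem index_ge_eleven {H : Subgroup G} (hH : H ≠ ⊤) : 11 ≤ H.index :=
  Small.lt_index_of_not_dvd (not_comm hG) hH (b := 10) (by rw [hG]; decide)

theorem card_le' {H : Subgroup G} (hH : H ≠ ⊤) : Nat.card H ≤ 8640 := by
  have h1 := H.index_mul_card
  rw [hG] at h1
  have h2 := index_ge_eleven hG hH
  nlinarith

theorem Cg_ne_top' {x : G} (hx : x ≠ 1) : Cg x ≠ ⊤ :=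
  Small.centralizer_singleton_ne_top (not_comm hG) hx

theorem Ng_ne_top' {A : Subgroup G} (h1 : 1 < Nat.card A) (h2 : Nat.card A < 95040) : Ng A ≠ ⊤ :=
  Small.normalizer_ne_top (fun e => by rw [e, Subgroup.card_bot] at h1; omega)
    (fun e => by rw [e, Subgroup.card_top, hG] at h2; omega)

/-- In an action on at most twelve points a Sylow 11-subgroup has a centraliser of order at most 11. -/
theorem card_N11_le [Fact (Nat.Prime 11)] {H : Subgroup G} (hH : H ≠ ⊤) (h : H.index ≤ 12)
    (P : Sylow 11 G) : Nat.card (Ng (P : Subgroup G)) ≤ 110 := by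
  classical
  have hP := card_sylow_eleven hG P
  obtain ⟨y, hyP, hy⟩ := Small.Fusion.exists_orderOf (H := (P : Subgroup G))
    (show Nat.Prime 11 by norm_num) (dvd_of_eq hP.symm)
  have h11 := index_ge_eleven hG hH
  have hy1 : y ≠ 1 := fun e => by rw [e, orderOf_one] at hy; norm_num at hy
  have hX : Nat.card (G ⧸ H) = H.index := (Subgroup.index_eq_card H).symm
  haveI : Nontrivial (G ⧸ H) := Finite.one_lt_card_iff_nontrivial.1 (by omega)
  have hy11 : y ^ 11 = 1 := hy ▸ pow_orderOf_eq_one y
  have hmod := MElevenUnique.card_modEq_fix (X := G ⧸ H) hy11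
  have hlt : fixCard (G ⧸ H) y < H.index := by
    by_contra hge
    exact hy1 (MElevenUnique.eq_one_of_fixCard (X := G ⧸ H) (by omega))
  rw [hX] at hmod
  have hf1 : fixCard (G ⧸ H) y ≤ 1 := by omega
  have hmoved : Nat.card {a : G ⧸ H // y • a ≠ a} + fixCard (G ⧸ H) y = H.index := by
    haveI := Fintype.ofFinite (G ⧸ H)
    rw [← hX, fixCard, show Nat.card (fixedBy (G ⧸ H) y) = Nat.card {a : G ⧸ H // y • a = a} from rfl,
      Nat.card_eq_fintype_card, Nat.card_eq_fintype_card, Nat.card_eq_fintype_card,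
      Fintype.card_subtype_compl]
    have := Fintype.card_subtype_le fun a : G ⧸ H => y • a = a
    omega
  have hm11 : Nat.card {a : G ⧸ H // y • a ≠ a} ≤ 11 := by omega
  haveI hne : Nonempty {a : G ⧸ H // y • a ≠ a} := (Nat.card_pos_iff.1 (by omega)).1
  obtain ⟨⟨a, ha⟩⟩ := hne
  let f : Fin 11 → {b : G ⧸ H // y • b ≠ b} := fun i => ⟨y ^ (i : ℕ) • a, fun e => ha (by
    rw [smul_smul, ← pow_succ', pow_succ, ← smul_smul] at e
    exact MulAction.injective _ e)⟩
  have hinj : Function.Injective f := by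
    intro i j e
    have e' : y ^ (i : ℕ) • a = y ^ (j : ℕ) • a := congrArg Subtype.val e
    by_contra hij
    have hz : ∃ d : ℕ, 0 < d ∧ d < 11 ∧ y ^ d • a = a := by
      rcases lt_or_gt_of_ne (fun hh : (i : ℕ) = j => hij (Fin.ext hh)) with hlt' | hlt'
      · refine ⟨j - i, by omega, by omega, ?_⟩
        apply MulAction.injective (y ^ (i : ℕ))
        show y ^ (i : ℕ) • y ^ ((j : ℕ) - i) • a = y ^ (i : ℕ) • a
        rw [smul_smul, ← pow_add, show (i : ℕ) + (j - i) = j by omega, e']
      · refine ⟨i - j, by omega, by omega, ?_⟩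
        apply MulAction.injective (y ^ (j : ℕ))
        show y ^ (j : ℕ) • y ^ ((i : ℕ) - j) • a = y ^ (j : ℕ) • a
        rw [smul_smul, ← pow_add, show (j : ℕ) + (i - j) = i by omega, e']
    obtain ⟨d, hd0, hd11, hd⟩ := hz
    refine ha ?_
    have hc : d.Coprime 11 := by
      rw [Nat.coprime_comm, (show Nat.Prime 11 by norm_num).coprime_iff_not_dvd]
      exact fun hh => by have := Nat.le_of_dvd hd0 hh; omega
    obtain ⟨m, hm⟩ := exists_pow_eq_self_of_coprime (x := y) (hy.symm ▸ hc)
    rw [← hm]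
    exact MElevenUnique.pow_smul_eq hd m
  have hbij : Function.Bijective f := (Nat.bijective_iff_injective_and_card f).2 ⟨hinj, by
    rw [Nat.card_fin]
    have := Nat.card_le_card_of_injective f hinj
    rw [Nat.card_fin] at this
    omega⟩
  have hC : Nat.card (Cs (P : Subgroup G)) ≤ 11 := by
    refine le_trans (Nat.card_le_card_of_injective
      (fun x : Cs (P : Subgroup G) => (⟨(x : G) • a, fun e => ha ?_⟩ : {b : G ⧸ H // y • b ≠ b})) ?_) hm11
    · rw [smul_smul, MElevenUnique.mem_Cs.1 x.2 y hyP, ← smul_smul] at e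
      exact MulAction.injective _ e
    intro x x' e
    have e' : (x : G) • a = (x' : G) • a := congrArg Subtype.val e
    set z := (x' : G)⁻¹ * x with hz
    have hza : z • a = a := by rw [hz, ← smul_smul, e', inv_smul_smul]
    have hzy : Commute z y := by
      have h1 : Commute (x : G) y := (MElevenUnique.mem_Cs.1 x.2 y hyP).symm
      have h2 : Commute (x' : G) y := (MElevenUnique.mem_Cs.1 x'.2 y hyP).symm
      exact h2.inv_left.mul_left h1
    have hmv : ∀ b : G ⧸ H, y • b ≠ b → z • b = b := by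
      intro b hb
      obtain ⟨i, hi⟩ := hbij.2 ⟨b, hb⟩
      have hib : y ^ (i : ℕ) • a = b := congrArg Subtype.val hi
      rw [← hib, smul_smul, (hzy.pow_right _).eq, ← smul_smul, hza]
    have hone : z = 1 := by
      refine MElevenUnique.eq_one_of_fixCard (X := G ⧸ H) ?_
      refine Nat.card_le_card_of_injective (fun b => (⟨b, ?_⟩ : fixedBy (G ⧸ H) z))
        fun b b' hb => congrArg Subtype.val hb
      show z • b = b
      by_cases hb : y • b = b
      · have hzb : y • z • b = z • b := by rw [smul_smul, ← hzy.eq, ← smul_smul, hb]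
        haveI : Subsingleton (fixedBy (G ⧸ H) y) := Finite.card_le_one_iff_subsingleton.1 hf1
        exact congrArg Subtype.val
          (Subsingleton.elim (⟨z • b, hzb⟩ : fixedBy (G ⧸ H) y) ⟨b, hb⟩)
      · exact hmv b hb
    exact Subtype.ext (inv_mul_eq_one.1 hone).symm
  have hrel := Small.card_centralizer_mul_relIndex (P : Subgroup G)
  have he := Nat.le_of_dvd (by norm_num)
    (Small.relIndex_centralizer_dvd_pred (p := 11) hP)
  rw [← hrel]
  exact (Nat.mul_le_mul hC he).trans_eq (by norm_num)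

theorem card_le_of_N11 [Fact (Nat.Prime 11)] (P : Sylow 11 G)
    (hN : 110 < Nat.card (Ng (P : Subgroup G))) {H : Subgroup G} (hH : H ≠ ⊤) : Nat.card H ≤ 6336 := by
  have h1 := H.index_mul_card
  rw [hG] at h1
  have h13 : 13 ≤ H.index := by
    by_contra hlt
    have := card_N11_le hG hH (by omega) P
    omega
  have hd : H.index ∣ 95040 := hG ▸ H.index_dvd_card
  have h15 : 15 ≤ H.index := by
    by_contra hlt
    interval_cases h : H.index <;> simp_all
  nlinarith

end

end CfsgLib.MTwelveUnique
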