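import Cfsg.Agent.MTwelveUnique.FiveC
import Mathlib.GroupTheory.SpecificGroups.Alternating.Simple

/-!
A simple group of order 95040: the centraliser of an involution commuting with an element of order
five maps onto `S₅` with kernel of order two.
-/

set_option autoImplicit false

open scoped Pointwise
open MulAction

namespace CfsgLib.MTwelveUnique

open CfsgLib.MElevenUnique (Cg Ng Cs fixCard mem_Cg mem_Cs Cs_le_Ng inCard inCard_spec)

/-- A subgroup of order 120 of the symmetric group of degree six is isomorphic to `S₅`. -/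
theorem exists_equiv_perm_five {X : Type*} [Finite X] (hX : Nat.card X = 6)
    (J : Subgroup (Equiv.Perm X)) (hJ : Nat.card J = 120) : Nonempty (J ≃* Equiv.Perm (Fin 5)) := by
  classical
  haveI := Fintype.ofFinite X
  haveI : Nontrivial X := Finite.one_lt_card_iff_nontrivial.1 (by omega)
  have hS : Nat.card (Equiv.Perm X) = 720 := by rw [Nat.card_perm, hX]; rfl
  let Y := Equiv.Perm X ⧸ J
  have hY : Nat.card Y = 6 := by
    have h := J.index_mul_card
    rw [hS, hJ, Subgroup.index_eq_card] at h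
    show Nat.card (Equiv.Perm X ⧸ J) = 6
    omega
  set Φ := toPermHom (Equiv.Perm X) Y
  have hinj : Function.Injective Φ := by
    rw [← MonoidHom.ker_eq_bot_iff]
    by_contra hne
    have hle : Φ.ker ≤ J := fun σ hσ => by
      have h : σ • ((1 : Equiv.Perm X) : Y) = ((1 : Equiv.Perm X) : Y) :=
        congrArg (fun τ : Equiv.Perm Y => τ ((1 : Equiv.Perm X) : Y)) hσ
      simpa using smul_mk_eq_iff.1 h
    haveI : Φ.ker.Normal := MonoidHom.normal_ker Φ
    have hA := Equiv.Perm.alternatingGroup_le_of_normal (α := X) (by omega)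
      (N := Φ.ker) (Φ.ker.nontrivial_iff_ne_bot.2 hne)
    have h1 := Subgroup.card_le_of_le (hA.trans hle)
    rw [hJ, nat_card_alternatingGroup, hX] at h1
    norm_num [Nat.factorial] at h1
  set b : Y := ((1 : Equiv.Perm X) : Y)
  have hfix : ∀ σ : J, ∀ c : Y, Φ σ c ≠ b ↔ c ≠ b := by
    intro σ c
    have hb : Φ σ b = b := smul_mk_eq_iff.2 (by simp)
    constructor
    · exact fun h e => h (e ▸ hb)
    · exact fun h e => h ((Φ σ).injective (e.trans hb.symm))
  let ρ : J →* Equiv.Perm {c : Y // c ≠ b} :=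
    { toFun := fun σ => (Φ σ).subtypePerm (hfix σ)
      map_one' := by
        ext c
        simp
      map_mul' := fun σ τ => Equiv.ext fun c => Subtype.ext (by
        show Φ ((σ * τ : J) : Equiv.Perm X) c = Φ σ (Φ τ c)
        rw [Subgroup.coe_mul, map_mul]
        rfl) }
  have hρ : Function.Injective ρ := by
    intro σ τ h
    apply Subtype.ext
    apply hinj
    refine Equiv.ext fun c => ?_
    by_cases hc : c = b
    · rw [hc]
      have e : ∀ υ : J, Φ υ b = b := fun υ => smul_mk_eq_iff.2 (by simp)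
      rw [e σ, e τ]
    · exact congrArg Subtype.val (congrArg (fun π : Equiv.Perm {c : Y // c ≠ b} => π ⟨c, hc⟩) h)
  have h5 : Nat.card {c : Y // c ≠ b} = 5 := by
    haveI := Fintype.ofFinite Y
    rw [Nat.card_eq_fintype_card, Fintype.card_subtype_compl, Fintype.card_subtype_eq,
      ← Nat.card_eq_fintype_card, hY]
  have hbij : Function.Bijective ρ := (Nat.bijective_iff_injective_and_card ρ).2
    ⟨hρ, by rw [hJ, Nat.card_perm, h5]; rfl⟩
  exact ⟨(MulEquiv.ofBijective ρ hbij).trans (Equiv.permCongrHom (Finite.equivFinOfCardEq h5))⟩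

variable {G : Type*} [Group G] [Finite G] [IsSimpleGroup G] (hG : Nat.card G = 95040)
include hG

/-- The centraliser of a Sylow 5-subgroup contains a single involution. -/
theorem eq_of_invol_Cs [Fact (Nat.Prime 5)] (Q : Sylow 5 G) {a b : G} (ha : a ∈ Cs (Q : Subgroup G))
    (hb : b ∈ Cs (Q : Subgroup G)) (ha2 : orderOf a = 2) (hb2 : orderOf b = 2) : a = b := by
  haveI := Fact.mk Nat.prime_two
  have hQ := card_sylow_five hG Q
  obtain ⟨M, -, -, hMc, -, hMm⟩ := exists_complement (p := 5) (a := 1) (L := Cs (Q : Subgroup G))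
    (H := (Q : Subgroup G)) (GraphSimple.le_centralizer_of_cyclic_prime hQ) (by rw [hQ, pow_one])
    (by rw [(five_data hG Q).2]; norm_num) inf_le_left
  rw [(five_data hG Q).2] at hMc
  have hM : Nat.card M = 2 := by omega
  have h1 := hMm a ha (by rw [ha2]; norm_num)
  have h2 := hMm b hb (by rw [hb2]; norm_num)
  have ha1 : a ≠ 1 := fun e => by rw [e, orderOf_one] at ha2; norm_num at ha2
  have hb1 : b ≠ 1 := fun e => by rw [e, orderOf_one] at hb2; norm_num at hb2
  have h := (Small.eq_zpowers_of_mem_prime hM h1 ha1).trans (Small.eq_zpowers_of_mem_prime hM h2 hb1).symm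
  have hb' : b ∈ Subgroup.zpowers a := h ▸ Subgroup.mem_zpowers b
  rw [← mem_powers_iff_mem_zpowers] at hb'
  obtain ⟨i, hi⟩ := hb'
  simp only at hi
  rcases Nat.mod_two_eq_zero_or_one i with e | e <;>
    rw [← pow_mod_orderOf, ha2, e] at hi
  · exact absurd (by rw [← hi, pow_zero]) hb1
  · rw [← hi, pow_one]

/-- An involution commuting with an element of order five. -/
theorem five_invol_data [Fact (Nat.Prime 5)] {t : G} (ht : orderOf t = 2) (h5 : 5 ∣ Nat.card (Cg t)) :
    ∃ Q : Sylow 5 G, t ∈ Cs (Q : Subgroup G) ∧ Ng (Q : Subgroup G) ≤ Cg t ∧ Nat.card (Cg t) = 240 ∧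
      inCard 5 (Cg t) = 6 := by
  obtain ⟨q, hqt, hq⟩ := Small.Fusion.exists_orderOf (H := Cg t) Nat.prime_five h5
  obtain ⟨Q, hqQ⟩ := exists_sylow_mem hq
  have htQ : t ∈ Cs (Q : Subgroup G) := Small.mem_centralizer_of_commute_prime (card_sylow_five hG Q) hqQ
    (fun e => by rw [e, orderOf_one] at hq; norm_num at hq) (mem_Cg.1 hqt).symm
  obtain ⟨hN, hC⟩ := five_data hG Q
  obtain ⟨R, hRN, hR⟩ := Small.exists_two_subgroup_le (H := Ng (Q : Subgroup G)) (k := 3)
    (by rw [hN]; norm_num)
  obtain ⟨u, huC, -, hu2, huR, -⟩ := exists_central_in_Cs hG Q hRN hR (by rw [hR, hN, hC]; norm_num)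
  obtain rfl := eq_of_invol_Cs hG Q htQ huC ht hu2
  exact ⟨Q, htQ, central_data hG hN hR hRN huC hu2 huR⟩

theorem card_Cg_invol {t : G} (ht : orderOf t = 2) :
    Nat.card (Cg t) = 192 ∧ ¬ 5 ∣ Nat.card (Cg t) ∨ Nat.card (Cg t) = 240 := by
  haveI := Fact.mk Nat.prime_five
  rcases invol_orders' hG ht with h | h | h
  · obtain ⟨-, -, -, h', -⟩ := five_invol_data hG ht (by rw [h]; norm_num)
    omega
  · exact Or.inl ⟨h, by rw [h]; norm_num⟩
  · exact Or.inr h

theorem not_nine_dvd_Cg {t : G} (ht : orderOf t = 2) : ¬ 9 ∣ Nat.card (Cg t) := by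
  rcases card_Cg_invol hG ht with ⟨h, -⟩ | h <;> rw [h] <;> norm_num

/-- The involutions with centraliser of order 240 form one class. -/
theorem isConj_of_240 {s t : G} (hs : orderOf s = 2) (ht : orderOf t = 2) (h1 : Nat.card (Cg s) = 240)
    (h2 : Nat.card (Cg t) = 240) : IsConj s t := by
  haveI := Fact.mk Nat.prime_five
  obtain ⟨P, hsP, -⟩ := five_invol_data hG hs (by rw [h1]; norm_num)
  obtain ⟨Q, htQ, -⟩ := five_invol_data hG ht (by rw [h2]; norm_num)
  obtain ⟨g, rfl⟩ := MulAction.exists_smul_eq G P Q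
  refine isConj_iff.2 ⟨g, eq_of_invol_Cs hG (g • P) ?_ htQ (by rw [orderOf_conj', hs]) ht⟩
  rw [mem_Cs]
  intro a ha
  rw [Sylow.coe_subgroup_smul, Subgroup.mem_pointwise_smul_iff_inv_smul_mem, ← map_inv] at ha
  simp only [MulAut.smul_def, MulAut.conj_apply, inv_inv] at ha
  have h := mem_Cs.1 hsP _ ha
  calc a * (g * s * g⁻¹) = g * ((g⁻¹ * a * g) * s) * g⁻¹ := by group
    _ = g * (s * (g⁻¹ * a * g)) * g⁻¹ := by rw [h]
    _ = g * s * g⁻¹ * a := by group

/-- `C(w)` modulo `⟨w⟩` is `S₅`. -/
theorem exists_hom_perm_five {w : G} (hw : orderOf w = 2) (h240 : Nat.card (Cg w) = 240) :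
    ∃ ρ : Cg w →* Equiv.Perm (Fin 5), Function.Surjective ρ ∧
      ∀ x : Cg w, ρ x = 1 ↔ (x : G) = 1 ∨ (x : G) = w := by
  classical
  haveI := Fact.mk Nat.prime_five
  obtain ⟨Q, hwQ, hNw, -, h6⟩ := five_invol_data hG hw (by rw [h240]; norm_num)
  have hall : ∀ R : Sylow 5 G, Nat.card (R : Subgroup G) = 5 := fun R => card_sylow_five hG R
  have hQw : (Q : Subgroup G) ≤ Cg w := Subgroup.le_normalizer.trans hNw
  set f := toPermHom (Cg w) (SylIn (Cg w))
  have hwall : ∀ R : Sylow 5 G, (R : Subgroup G) ≤ Cg w → w ∈ Cs (R : Subgroup G) := fun R hR =>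
    mem_Cs.2 fun a ha => mem_Cg.1 (hR ha)
  have hker : ∀ x : Cg w, f x = 1 ↔ (x : G) = 1 ∨ (x : G) = w := by
    intro x
    constructor
    · intro hx
      have hxC := mem_Cs_of_toPerm_eq_one hall (by omega) hx hQw
      have hd : orderOf (x : G) ∣ 10 := by
        have h := Subgroup.orderOf_dvd_natCard _ hxC
        change _ ∣ Nat.card (Cs (Q : Subgroup G)) at h
        rwa [(five_data hG Q).2] at h
      by_cases hx1 : (x : G) = 1
      · exact Or.inl hx1
      have hx2 : orderOf (x : G) ∣ 2 := by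
        by_contra hn
        have h5 : 5 ∣ orderOf (x : G) := by
          have key : ∀ d ∈ Nat.divisors 10, ¬ d ∣ 2 → 5 ∣ d := by decide +kernel
          exact key _ (Nat.mem_divisors.2 ⟨hd, by norm_num⟩) hn
        set a := (x : G) ^ (orderOf (x : G) / 5)
        have ha : orderOf a = 5 :=
          orderOf_pow_orderOf_div (orderOf_pos (x : G)).ne' h5
        have ha1 : a ≠ 1 := fun e => by rw [e, orderOf_one] at ha; norm_num at ha
        have hsub : ∀ R : Sylow 5 G, (R : Subgroup G) ≤ Cg w → (R : Subgroup G) = Subgroup.zpowers a :=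
          fun R hR => (Small.eq_zpowers_of_mem_prime (hall R)
            (MElevenUnique.mem_sylow_of_normalizes (k := 1) (by rw [ha, pow_one])
              (Cs_le_Ng _ (pow_mem (mem_Cs_of_toPerm_eq_one hall (by omega) hx hR) _))) ha1).symm
        have : inCard 5 (Cg w) ≤ 1 := by
          haveI : Subsingleton {R : Sylow 5 G // (R : Subgroup G) ≤ Cg w} :=
            ⟨fun a b => Subtype.ext (Sylow.ext ((hsub a.1 a.2).trans (hsub b.1 b.2).symm))⟩
          exact Finite.card_le_one_iff_subsingleton.2 this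
        omega
      refine Or.inr (eq_of_invol_Cs hG Q hxC hwQ ?_ hw)
      rcases (Nat.dvd_prime Nat.prime_two).1 hx2 with h | h
      · exact absurd (orderOf_eq_one_iff.1 h) hx1
      · exact h
    · rintro (h | h)
      · rw [show x = 1 from Subtype.ext h, map_one]
      · refine toPerm_eq_one_of_Cs fun R hR => ?_
        rw [h]
        exact hwall R hR
  have hJ : Nat.card f.range = 120 := by
    have h1 := Subgroup.card_eq_card_quotient_mul_card_subgroup f.ker
    rw [Nat.card_congr (QuotientGroup.quotientKerEquivRange f).toEquiv, h240] at h1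
    have h2 : Nat.card f.ker = 2 := by
      let wW : Cg w := ⟨w, mem_Cg.2 rfl⟩
      have hwW : orderOf wW = 2 := by rw [← Subgroup.orderOf_coe]; exact hw
      rw [← hwW, ← Nat.card_zpowers]
      refine le_antisymm (Subgroup.card_le_of_le fun x hx => ?_)
        (Subgroup.card_le_of_le (Subgroup.zpowers_le.2 ((hker wW).2 (Or.inr rfl))))
      rcases (hker x).1 hx with h | h
      · rw [show x = 1 from Subtype.ext h]; exact one_mem _
      · rw [show x = wW from Subtype.ext h]; exact Subgroup.mem_zpowers _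
    rw [h2] at h1
    omega
  obtain ⟨e⟩ := exists_equiv_perm_five (X := SylIn (Cg w)) h6 f.range hJ
  refine ⟨e.toMonoidHom.comp f.rangeRestrict, e.surjective.comp f.rangeRestrict_surjective, fun x => ?_⟩
  rw [MonoidHom.comp_apply, MulEquiv.coe_toMonoidHom, MulEquiv.map_eq_one_iff, ← hker x]
  exact ⟨fun h => congrArg Subtype.val h, fun h => Subtype.ext h⟩

end CfsgLib.MTwelveUnique
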