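import Cfsg.Agent.MTwelveUnique.Iota

/-!
A simple group of order 95040: the two classes of involutions, seen in the model of `C(w)`.
-/

set_option autoImplicit false
set_option maxRecDepth 8000
set_option synthInstance.maxSize 5000

open scoped Pointwise
open MulAction

namespace CfsgLib.MTwelveUnique

open CfsgLib.MElevenUnique (Cg Ng Cs mem_Cg mem_Cs)

theorem perm_five_common_centraliser : ∀ σ : Equiv.Perm (Fin 5), σ * σ = 1 → σ ≠ 1 →
    ∀ τ : Equiv.Perm (Fin 5), τ * τ = 1 → τ ≠ 1 →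
    8 ∣ (Finset.univ.filter fun π : Equiv.Perm (Fin 5) => π * σ = σ * π ∧ π * τ = τ * π).card →
    σ = τ := by decide +kernel

theorem mdl_square_of_not_inClass : ∀ m : Mdl, m * m = 1 → m ≠ 1 → m.1 = 1 → Equiv.Perm.sign m.2 = 1 →
    ∃ n : Mdl, n * n = m := by decide +kernel

theorem mdl_sq_ne_mw : ∀ n : Mdl, n * n ≠ mw := by decide +kernel

theorem mw_central : ∀ n : Mdl, n * mw = mw * n := by decide +kernel

theorem mdl_eq_of_snd : ∀ m : Mdl, m.2 = 1 → m = 1 ∨ m = mw := by decide +kernel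

theorem mdl_mul_of_snd : ∀ a b : Multiplicative (ZMod 2), a ≠ b → ∀ σ : Equiv.Perm (Fin 5), σ * σ = 1 →
    ((a, σ) : Mdl) * (b, σ) = mw := by
  intro a b hab σ hσ
  have key : ∀ a b : Multiplicative (ZMod 2), a ≠ b → a * b = Multiplicative.ofAdd 1 := by decide
  exact Prod.ext (key a b hab) hσ

variable {G : Type*} [Group G] [Finite G] {w : G} (ι : Mdl →* G)
  (hι : Function.Injective ι) (hιw : ι mw = w) (hιr : ι.range = Cg w)
include hι hιw hιr

omit [Finite G] in
theorem exists_of_mem_Cg {x : G} (hx : x ∈ Cg w) : ∃ n : Mdl, ι n = x := hιr.ge hx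

omit [Finite G] hι hιw in
theorem iota_mem_Cg (n : Mdl) : ι n ∈ Cg w := hιr.le ⟨n, rfl⟩

omit [Finite G] in
theorem inClass_of_isConj (m : Mdl) (h : IsConj w (ι m)) : InClass m := by
  obtain ⟨c, hc⟩ := isConj_iff.1 h
  have hw2 : w * w = 1 := by
    rw [← hιw, ← map_mul, ← map_one ι]; congr 1
  have hw1 : w ≠ 1 := fun e => by
    have := hι (hιw.trans (e.trans (map_one ι).symm))
    exact absurd this (by decide)
  have hm2 : m * m = 1 := hι (by
    rw [map_mul, map_one, ← hc]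
    calc c * w * c⁻¹ * (c * w * c⁻¹) = c * (w * w) * c⁻¹ := by group
      _ = 1 := by rw [hw2, mul_one, mul_inv_cancel])
  have hm1 : m ≠ 1 := fun e => by
    rw [e, map_one, conj_eq_one_iff] at hc
    exact hw1 hc
  refine ⟨hm2, hm1, fun ⟨h1, hs⟩ => ?_⟩
  obtain ⟨n, hn⟩ := mdl_square_of_not_inClass m hm2 hm1 h1 hs
  set x := c⁻¹ * ι n * c
  have hx2 : x * x = w := by
    calc x * x = c⁻¹ * (ι n * ι n) * c := by simp only [x]; group
      _ = c⁻¹ * (c * w * c⁻¹) * c := by rw [← map_mul, hn, hc]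
      _ = w := by group
  obtain ⟨k, hk⟩ := exists_of_mem_Cg ι hι hιw hιr (x := x) (mem_Cg.2 (by rw [← hx2]; group))
  refine mdl_sq_ne_mw k (hι ?_)
  rw [map_mul, hk, hx2, hιw]

variable [IsSimpleGroup G] (hG : Nat.card G = 95040) (hw : orderOf w = 2) (h240 : Nat.card (Cg w) = 240)
include hG hw h240

omit hι hιw hιr in
theorem card_Cg_240_iff {t : G} (ht : orderOf t = 2) : Nat.card (Cg t) = 240 ↔ IsConj w t :=
  ⟨fun h => isConj_of_240 hG hw ht h240 h, fun h => (MElevenUnique.card_Cg_of_isConj h).trans h240⟩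

/-- The involutions central in Sylow 2-subgroups form one class. -/
theorem isConj_of_192 {s t : G} (hs : orderOf s = 2) (ht : orderOf t = 2)
    (h1 : Nat.card (Cg s) = 192) (h2 : Nat.card (Cg t) = 192) : IsConj s t := by
  classical
  haveI := Fact.mk Nat.prime_two
  obtain ⟨R, hRW, hR⟩ := Small.exists_two_subgroup_le (H := Cg w) (k := 4) (by rw [h240]; norm_num)
  obtain ⟨S, hRS⟩ := (IsPGroup.of_card hR).exists_le_sylow
  have hwS : w ∈ (S : Subgroup G) := by
    refine hRS ?_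
    by_contra hwR
    have hle : R ⊔ Subgroup.zpowers w ≤ Cg w := sup_le hRW (Subgroup.zpowers_le.2 (mem_Cg.2 rfl))
    have hp : IsPGroup 2 (R ⊔ Subgroup.zpowers w : Subgroup G) :=
      (IsPGroup.of_card hR).to_sup_of_normal_right'
        (IsPGroup.of_card (n := 1) (by rw [Nat.card_zpowers, hw, pow_one]))
        (fun r hr => MElevenUnique.Cs_le_Ng _ (mem_Cs.2 fun b hb => by
          obtain ⟨i, rfl⟩ := hb
          exact ((show Commute r w from mem_Cg.1 (hRW hr)).zpow_right i).eq.symm))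
    obtain ⟨b, hb⟩ := IsPGroup.iff_card.1 hp
    have h1 := hb ▸ Subgroup.card_dvd_of_le hle
    rw [h240] at h1
    have hb4 : b ≤ 4 := by
      by_contra hgt
      have := (pow_dvd_pow 2 (show 5 ≤ b by omega)).trans h1
      norm_num at this
    have h2 : R = R ⊔ Subgroup.zpowers w := Subgroup.eq_of_le_of_card_ge le_sup_left
      (by rw [hb, hR]; exact Nat.pow_le_pow_right two_pos hb4)
    exact hwR (h2 ▸ Subgroup.mem_sup_right (Subgroup.mem_zpowers w))
  -- the two involutions moved into the centre of `S`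
  have hmove : ∀ r : G, orderOf r = 2 → Nat.card (Cg r) = 192 →
      ∃ z : G, IsConj r z ∧ orderOf z = 2 ∧ (S : Subgroup G) ≤ Cg z := by
    intro r hr h
    obtain ⟨K, hKr, hK⟩ := Small.exists_two_subgroup_le (H := Cg r) (k := 6) (by rw [h]; norm_num)
    obtain ⟨K', hK'⟩ := (IsPGroup.of_card hK).exists_le_sylow
    have hKK : K = (K' : Subgroup G) :=
      Subgroup.eq_of_le_of_card_ge hK' (by rw [card_sylow_two hG K', hK]; norm_num)
    obtain ⟨g, hg⟩ := MulAction.exists_smul_eq G K' S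
    refine ⟨g * r * g⁻¹, isConj_iff.2 ⟨g, rfl⟩, by rw [orderOf_conj', hr], ?_⟩
    rw [← hg]
    intro a ha
    rw [Sylow.coe_subgroup_smul, Subgroup.mem_pointwise_smul_iff_inv_smul_mem, ← map_inv] at ha
    simp only [MulAut.smul_def, MulAut.conj_apply, inv_inv] at ha
    have h' := mem_Cg.1 (hKr (hKK ▸ ha))
    rw [mem_Cg]
    calc a * (g * r * g⁻¹) = g * ((g⁻¹ * a * g) * r) * g⁻¹ := by group
      _ = g * (r * (g⁻¹ * a * g)) * g⁻¹ := by rw [h']
      _ = g * r * g⁻¹ * a := by group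
  obtain ⟨z₁, hc1, hz1, hzS1⟩ := hmove s hs h1
  obtain ⟨z₂, hc2, hz2, hzS2⟩ := hmove t ht h2
  -- both lie in `C(w)`
  have hnot : ∀ z : G, orderOf z = 2 → (S : Subgroup G) ≤ Cg z → z ≠ w := fun z _ hS' e => by
    have := Subgroup.card_dvd_of_le hS'
    rw [card_sylow_two hG S, e, h240] at this
    norm_num at this
  have hmdl : ∀ z : G, orderOf z = 2 → (S : Subgroup G) ≤ Cg z →
      ∃ m : Mdl, ι m = z ∧ m.2 * m.2 = 1 ∧ m.2 ≠ 1 := by
    intro z hz hS'
    obtain ⟨m, hm⟩ := exists_of_mem_Cg ι hι hιw hιr (mem_Cg.2 (mem_Cg.1 (hS' hwS)).symm)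
    have hm2 : m * m = 1 := hι (by rw [map_mul, map_one, hm, ← pow_two, ← hz, pow_orderOf_eq_one])
    refine ⟨m, hm, congrArg Prod.snd hm2, fun e => ?_⟩
    rcases mdl_eq_of_snd m e with rfl | rfl
    · rw [map_one] at hm
      rw [← hm, orderOf_one] at hz
      norm_num at hz
    · exact hnot z hz hS' (hm.symm.trans hιw)
  obtain ⟨m₁, hm1, hm1s, hm1n⟩ := hmdl z₁ hz1 hzS1
  obtain ⟨m₂, hm2, hm2s, hm2n⟩ := hmdl z₂ hz2 hzS2
  have hdiv : 8 ∣ (Finset.univ.filter fun π : Equiv.Perm (Fin 5) =>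
      π * m₁.2 = m₁.2 * π ∧ π * m₂.2 = m₂.2 * π).card := by
    set Z := Subgroup.centralizer ({m₁.2, m₂.2} : Set (Equiv.Perm (Fin 5)))
    have hZ : (Finset.univ.filter fun π : Equiv.Perm (Fin 5) =>
        π * m₁.2 = m₁.2 * π ∧ π * m₂.2 = m₂.2 * π).card = Nat.card Z := by
      rw [Nat.card_eq_fintype_card, Fintype.card_of_subtype]
      intro π
      simp [Z, Subgroup.mem_centralizer_iff, eq_comm]
    rw [hZ]
    have hle : R.comap ι ≤ (⊤ : Subgroup (Multiplicative (ZMod 2))).prod Z := by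
      intro n hn
      refine ⟨Subgroup.mem_top _, Subgroup.mem_centralizer_iff.2 ?_⟩
      have key : ∀ (z : G) (m : Mdl), ι m = z → (S : Subgroup G) ≤ Cg z → m.2 * n.2 = n.2 * m.2 :=
        fun z m hm hS' => congrArg Prod.snd
          (hι (by rw [map_mul, map_mul, hm]; exact (mem_Cg.1 (hS' (hRS hn))).symm) : m * n = n * m)
      rintro x (rfl | rfl)
      · exact key z₁ m₁ hm1 hzS1
      · exact key z₂ m₂ hm2 hzS2
    have h16 : Nat.card (R.comap ι) = 16 := by
      rw [← Subgroup.card_map_of_injective (f := ι) hι, Subgroup.map_comap_eq, hιr, inf_eq_right.2 hRW,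
        hR]
      norm_num
    have h := Subgroup.card_dvd_of_le hle
    rw [h16, Nat.card_congr (Subgroup.prodEquiv _ _).toEquiv, Nat.card_prod, Subgroup.card_top,
      Nat.card_eq_fintype_card, show Fintype.card (Multiplicative (ZMod 2)) = 2 from rfl] at h
    exact (Nat.mul_dvd_mul_iff_left (show 0 < 2 by norm_num)).1 h
  have he := perm_five_common_centraliser _ hm1s hm1n _ hm2s hm2n hdiv
  have hz : z₁ = z₂ := by
    rw [← hm1, ← hm2]
    congr 1
    refine Prod.ext ?_ he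
    by_contra hne
    have hmul : m₁ * m₂ = mw := by
      have := mdl_mul_of_snd _ _ hne m₁.2 hm1s
      rwa [show ((m₁.1, m₁.2) : Mdl) = m₁ from rfl,
        show ((m₂.1, m₁.2) : Mdl) = m₂ from Prod.ext rfl he] at this
    have hSw : (S : Subgroup G) ≤ Cg w := fun a ha => by
      rw [mem_Cg, ← hιw, ← hmul, map_mul, hm1, hm2, ← mul_assoc, mem_Cg.1 (hzS1 ha), mul_assoc,
        mem_Cg.1 (hzS2 ha), mul_assoc]
    have := Subgroup.card_dvd_of_le hSw
    rw [card_sylow_two hG S, h240] at this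
    norm_num at this
  exact hc1.trans (hz ▸ hc2.symm)

end CfsgLib.MTwelveUnique
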