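import Cfsg.Agent.MTwelveUnique.Main
import Cfsg.Agent.Small.SylowPrime

/-!
Numbers of elements of a given order in the simple group of order 95040, and the recognition of that
group by its order and the set of these numbers.
-/

set_option autoImplicit false

open scoped Pointwise Classical
open MulAction

namespace CfsgLib.MTwelveUnique

open CfsgLib.MElevenUnique (Cg Ng Cs mem_Cg mem_Cs)

section

variable {G : Type*} [Group G] [Finite G] [IsSimpleGroup G] (hG : Nat.card G = 95040)
include hG

theorem card_Cg_five {y : G} (hy : orderOf y = 5) : Nat.card (Cg y) = 10 := by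
  haveI := Fact.mk Nat.prime_five
  obtain ⟨Q, hQ⟩ := exists_sylow_mem hy
  have hy1 : y ≠ 1 := fun e => by rw [e, orderOf_one] at hy; norm_num at hy
  rw [show Cg y = Cs (Q : Subgroup G) from
    Small.centralizer_singleton_eq_of_prime (card_sylow_five hG Q) hQ hy1, (five_data hG Q).2]

theorem card_Cg_eleven {y : G} (hy : orderOf y = 11) : Nat.card (Cg y) = 11 := by
  haveI : Fact (Nat.Prime 11) := ⟨by norm_num⟩
  obtain ⟨P, hP⟩ := exists_sylow_mem hy
  have hy1 : y ≠ 1 := fun e => by rw [e, orderOf_one] at hy; norm_num at hy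
  rw [show Cg y = Cs (P : Subgroup G) from
    Small.centralizer_singleton_eq_of_prime (card_sylow_eleven hG P) hP hy1, (eleven_data hG P).2]

/-- The class sizes of the elements of prime order are multiples of a bound depending only on the prime. -/
theorem exists_bound {p : ℕ} (hp : p.Prime) (hpd : p ∣ 95040) :
    ∃ d ∈ ({99, 55, 9504, 8640} : Finset ℕ), ∀ y : G, orderOf y = p → d * Nat.card (Cg y) ∣ 95040 := by
  rw [show 95040 = 2 ^ 6 * (3 ^ 3 * (5 * 11)) by norm_num] at hpd
  rcases (Nat.Prime.dvd_mul hp).1 hpd with h | h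
  · obtain rfl := (Nat.prime_dvd_prime_iff_eq hp Nat.prime_two).1 (hp.dvd_of_dvd_pow h)
    refine ⟨99, by simp, fun y hy => ?_⟩
    rcases card_Cg_invol hG hy with ⟨h', -⟩ | h' <;> rw [h'] <;> norm_num
  rcases (Nat.Prime.dvd_mul hp).1 h with h | h
  · obtain rfl := (Nat.prime_dvd_prime_iff_eq hp Nat.prime_three).1 (hp.dvd_of_dvd_pow h)
    exact ⟨55, by simp, fun y hy => (mul_dvd_mul_left 55 (Cg_three_dvd hG hy)).trans (by norm_num)⟩
  rcases (Nat.Prime.dvd_mul hp).1 h with h | h
  · obtain rfl := (Nat.prime_dvd_prime_iff_eq hp Nat.prime_five).1 h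
    exact ⟨9504, by simp, fun y hy => by rw [card_Cg_five hG hy]⟩
  · obtain rfl := (Nat.prime_dvd_prime_iff_eq hp (by norm_num : Nat.Prime 11)).1 h
    exact ⟨8640, by simp, fun y hy => by rw [card_Cg_eleven hG hy]⟩

/-- The number of elements of a given order `n > 1` is a multiple of 99, 55, 9504 or 8640. -/
theorem exists_dvd_count {n : ℕ} (hn : n ≠ 1) (hpos : 0 < Nat.card {g : G // orderOf g = n}) :
    ∃ d ∈ ({99, 55, 9504, 8640} : Finset ℕ), d ∣ Nat.card {g : G // orderOf g = n} := by
  obtain ⟨⟨x, rfl⟩⟩ := (Nat.card_pos_iff.1 hpos).1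
  set n := orderOf x with hndef
  have hn0 : n ≠ 0 := (orderOf_pos x).ne'
  obtain ⟨d, hd, hbound⟩ := exists_bound hG (Nat.minFac_prime hn)
    ((Nat.minFac_dvd n).trans (hG ▸ orderOf_dvd_natCard x))
  refine ⟨d, hd, ?_⟩
  haveI := Fintype.ofFinite G
  rw [Nat.card_eq_fintype_card, Fintype.card_subtype,
    Finset.card_eq_sum_card_image (fun a => ConjClasses.mk a)]
  refine Finset.dvd_sum fun c hc => ?_
  obtain ⟨a, ha, rfl⟩ := Finset.mem_image.1 hc
  have ha' : orderOf a = n := (Finset.mem_filter.1 ha).2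
  have hy : orderOf (a ^ (n / n.minFac)) = n.minFac := by
    rw [orderOf_pow_of_dvd (Nat.div_pos (Nat.minFac_le (Nat.pos_of_ne_zero hn0))
      (Nat.minFac_pos n)).ne' (by rw [ha']; exact Nat.div_dvd_of_dvd (Nat.minFac_dvd n)), ha',
      Nat.div_div_self (Nat.minFac_dvd n) hn0]
  have hle : Nat.card (Cg a) ∣ Nat.card (Cg (a ^ (n / n.minFac))) := Subgroup.card_dvd_of_le fun b hb =>
    mem_Cg.2 ((Commute.pow_right (show Commute b a from mem_Cg.1 hb) _).eq)
  have hdiv := (mul_dvd_mul_left d hle).trans (hbound _ hy)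
  rw [← hG, ← Small.card_conjugates_mul_card_centralizer a] at hdiv
  refine (Nat.dvd_of_mul_dvd_mul_right Nat.card_pos hdiv).trans (dvd_of_eq ?_)
  rw [Nat.card_eq_fintype_card, Fintype.card_subtype]
  congr 1
  ext b
  simp only [Finset.mem_filter, Finset.mem_univ, true_and, ConjClasses.mk_eq_mk_iff_isConj]
  refine ⟨fun h => ⟨?_, h.symm⟩, fun h => h.2.symm⟩
  obtain ⟨c, rfl⟩ := isConj_iff.1 h
  rw [← ha', orderOf_conj']

/-- Among the possible numbers of elements of order eleven in a group of order 95040, only 17280 is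
such a number in the simple group. -/
theorem count_eq {m n : ℕ} (hc : m * 10 = Nat.card {g : G // orderOf g = n}) (hm : m ∣ 8640)
    (hm1 : m % 11 = 1) : m = 1728 := by
  have hm0 : 0 < m := Nat.pos_of_dvd_of_pos hm (by norm_num)
  have hn : n ≠ 1 := by
    rintro rfl
    have : Nat.card {g : G // orderOf g = 1} = 1 := by
      rw [Nat.card_eq_one_iff_unique]
      exact ⟨⟨fun a b => Subtype.ext ((orderOf_eq_one_iff.1 a.2).trans (orderOf_eq_one_iff.1 b.2).symm)⟩,
        ⟨⟨1, orderOf_one⟩⟩⟩
    omega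
  obtain ⟨d, hd, hdvd⟩ := exists_dvd_count hG hn (by omega)
  rw [← hc] at hdvd
  have key : ∀ m ∈ Nat.divisors 8640, m % 11 = 1 → ∀ d ∈ ({99, 55, 9504, 8640} : Finset ℕ),
      d ∣ m * 10 → m = 1728 := by decide +kernel
  exact key m (Nat.mem_divisors.2 ⟨hm, by norm_num⟩) hm1 d hd hdvd

end

section

variable {G : Type*} [Group G] [Finite G]

/-- A group of order 95040 whose numbers of elements of given orders all occur in a simple group of
order 95040 is simple. -/
theorem isSimpleGroup_of_counts (hG : Nat.card G = 95040) {H : Type*} [Group H] [Finite H]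
    [IsSimpleGroup H] (hH : Nat.card H = 95040)
    (hsub : ∀ c, 0 < c → (∃ n : ℕ, c = Nat.card {g : G // orderOf g = n}) →
      ∃ n : ℕ, c = Nat.card {g : H // orderOf g = n}) :
    IsSimpleGroup G := by
  haveI : Fact (Nat.Prime 11) := ⟨by norm_num⟩
  haveI := Fact.mk Nat.prime_two
  obtain ⟨P⟩ : Nonempty (Sylow 11 G) := inferInstance
  have hP := card_sylow_eleven hG P
  have hn := Small.card_sylow_mul_card_normalizer P
  rw [hG] at hn
  change Nat.card (Sylow 11 G) * Nat.card (Ng (P : Subgroup G)) = _ at hn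
  have h8640 : Nat.card (Sylow 11 G) ∣ 8640 := by
    have h1 : Nat.card (Sylow 11 G) ∣ (P : Subgroup G).index := P.card_dvd_index
    have h2 := (P : Subgroup G).index_mul_card
    rw [hG, hP] at h2
    rwa [show (P : Subgroup G).index = 8640 by omega] at h1
  have h1728 : Nat.card (Sylow 11 G) = 1728 := by
    have hm := Small.card_orderOf_eq_prime (p := 11) (fun Q => card_sylow_eleven hG Q)
    have hpos : 0 < Nat.card (Sylow 11 G) * (11 - 1) := by
      have := Nat.card_pos (α := Sylow 11 G); omega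
    obtain ⟨n, hcn⟩ := hsub _ hpos ⟨11, hm.symm⟩
    exact count_eq hH hcn h8640 (card_sylow_modEq_one 11 G)
  rw [h1728] at hn
  have hN : Nat.card (Ng (P : Subgroup G)) = 55 := by omega
  have hPN : (P : Subgroup G) ≤ Ng (P : Subgroup G) := Subgroup.le_normalizer
  have hCd : Nat.card (Cs (P : Subgroup G)) ∣ 55 :=
    hN ▸ Subgroup.card_dvd_of_le (MElevenUnique.Cs_le_Ng _)
  -- no 2-group of order 64 is centralised by `P`
  have h64 : ∀ M : Subgroup G, (P : Subgroup G) ≤ Ng M → ¬ 11 ∣ Nat.card M → 2 ^ 6 ∣ Nat.card M →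
      False := by
    intro M hPM h11 h2
    obtain ⟨R, -, hR, -, hRC⟩ := exists_centralised_sylow (q := 2) (b := 6) hP hPM h11 h2
      (fun h => by
        have := h.trans (card_dvd' hG M)
        norm_num at this)
      (by
        have key : ∀ d ∈ Nat.divisors (2 ^ 6), d % 11 = 2 ^ 6 % 11 → d = 2 ^ 6 := by decide +kernel
        exact fun d hd => key d (Nat.mem_divisors.2 ⟨hd, by norm_num⟩))
    have h := (hR ▸ Subgroup.card_dvd_of_le hRC).trans hCd
    norm_num at h
  have hC : Nat.card (Cs (P : Subgroup G)) = 11 := by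
    have h11 : 11 ∣ Nat.card (Cs (P : Subgroup G)) := by
      have h := Subgroup.card_dvd_of_le (GraphSimple.le_centralizer_of_cyclic_prime hP)
      rwa [hP] at h
    have key : ∀ d ∈ Nat.divisors 55, 11 ∣ d → d ≠ 55 → d = 11 := by decide +kernel
    refine key _ (Nat.mem_divisors.2 ⟨hCd, by norm_num⟩) h11 fun he => ?_
    have hle : (⊤ : Subgroup G) ⊓ Ng (P : Subgroup G) ≤ Cs (P : Subgroup G) := inf_le_right.trans
      (Subgroup.eq_of_le_of_card_ge (MElevenUnique.Cs_le_Ng _) (by rw [he, hN])).ge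
    obtain ⟨M, -, hM, hMc, hM11, -⟩ := exists_complement (p := 11) (a := 1) (le_top (a := (P : Subgroup G)))
      (by rw [hP, pow_one]) (by rw [Subgroup.card_top, hG]; norm_num) hle
    rw [Subgroup.card_top, hG] at hMc
    exact h64 M (le_top.trans hM) hM11 (by
      rw [show Nat.card M = 8640 by omega]; norm_num)
  haveI : Nontrivial G := Finite.one_lt_card_iff_nontrivial.1 (by omega)
  refine ⟨fun K hK => ?_⟩
  by_cases h11 : 11 ∣ Nat.card K
  · right
    -- `K` contains the Sylow 11-subgroups
    have hPK : (P : Subgroup G) ≤ K := by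
      obtain ⟨y, hyK, hy⟩ := Small.Fusion.exists_orderOf (H := K) (show Nat.Prime 11 by norm_num) h11
      obtain ⟨Q, hQ⟩ := exists_sylow_mem hy
      obtain ⟨g, rfl⟩ := MulAction.exists_smul_eq G Q P
      have hQy : (Q : Subgroup G) = Subgroup.zpowers y :=
        (Small.eq_zpowers_of_mem_prime (p := 11) (card_sylow_eleven hG Q) hQ
          (fun e => by rw [e, orderOf_one] at hy; norm_num at hy)).symm
      intro a ha
      obtain ⟨b, hb, rfl⟩ := Subgroup.mem_map.1 ha
      rw [hQy] at hb
      exact hK.conj_mem b (Subgroup.zpowers_le.2 hyK hb) g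
    have hrel : K.relIndex (Ng (P : Subgroup G)) = K.index := by
      have hsup : Ng (P : Subgroup G) ⊔ K = ⊤ := Sylow.normalizer_sup_eq_top' P hPK
      rw [← Subgroup.relIndex_sup_right, hsup, Subgroup.relIndex_top_right]
    have h1 := GraphSimple.relIndex_mul_card (inf_le_right : K ⊓ Ng (P : Subgroup G) ≤ _)
    rw [Subgroup.inf_relIndex_right, hrel, hN] at h1
    have h2 := K.index_mul_card
    rw [hG] at h2
    have hPi : 11 ∣ Nat.card ↥(K ⊓ Ng (P : Subgroup G)) := by
      have h := Subgroup.card_dvd_of_le (le_inf hPK hPN)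
      rwa [hP] at h
    obtain ⟨c, hc⟩ := hPi
    rw [hc] at h1
    have hi : K.index * c = 5 := by
      have : K.index * c * 11 = 55 := by rw [← h1]; ring
      omega
    have hidx : K.index = 1 ∨ K.index = 5 :=
      (Nat.dvd_prime Nat.prime_five).1 ⟨c, hi.symm⟩
    rcases hidx with h | h
    · exact Subgroup.index_eq_one.1 h
    exfalso
    rw [h] at h2 hi
    have hKi : Nat.card ↥(K ⊓ Ng (P : Subgroup G)) = 11 := by rw [hc]; omega
    have hle : K ⊓ Ng (P : Subgroup G) ≤ Cs (P : Subgroup G) :=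
      (Subgroup.eq_of_le_of_card_ge (le_inf hPK hPN) (by rw [hKi, hP])).ge.trans
        (GraphSimple.le_centralizer_of_cyclic_prime hP)
    have hKc : Nat.card K = 19008 := by omega
    obtain ⟨M, -, hM, hMc, hM11, -⟩ := exists_complement (p := 11) (a := 1) hPK
      (by rw [hP, pow_one]) (by rw [hKc]; norm_num) hle
    rw [hKc] at hMc
    exact h64 M (hPK.trans hM) hM11 (by rw [show Nat.card M = 1728 by omega]; norm_num)
  · left
    rw [← Subgroup.card_eq_one]
    by_contra hne
    obtain ⟨q, hq, hqK⟩ := Nat.exists_prime_and_dvd hne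
    haveI := Fact.mk hq
    have hKd : Nat.card K ∣ 95040 := card_dvd' hG K
    have hq3 : q ∣ 2 ^ 6 * (3 ^ 3 * (5 * 11)) := hqK.trans (hKd.trans (by norm_num))
    have hq235 : q = 2 ∨ q = 3 ∨ q = 5 := by
      rcases (Nat.Prime.dvd_mul hq).1 hq3 with h | h
      · exact Or.inl ((Nat.prime_dvd_prime_iff_eq hq Nat.prime_two).1 (hq.dvd_of_dvd_pow h))
      rcases (Nat.Prime.dvd_mul hq).1 h with h | h
      · exact Or.inr (Or.inl ((Nat.prime_dvd_prime_iff_eq hq Nat.prime_three).1 (hq.dvd_of_dvd_pow h)))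
      rcases (Nat.Prime.dvd_mul hq).1 h with h | h
      · exact Or.inr (Or.inr ((Nat.prime_dvd_prime_iff_eq hq Nat.prime_five).1 h))
      · exact absurd ((Nat.prime_dvd_prime_iff_eq hq (by norm_num : Nat.Prime 11)).1 h ▸ hqK) h11
    have hPK' : (P : Subgroup G) ≤ Ng K := by rw [show Ng K = ⊤ from Subgroup.normalizer_eq_top K]; exact le_top
    set b := (Nat.card K).factorization q
    have hb : q ^ b ∣ Nat.card K := Nat.ordProj_dvd _ _
    have hb' : ¬ q ^ (b + 1) ∣ Nat.card K := Nat.pow_succ_factorization_not_dvd Nat.card_pos.ne' hq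
    have hb0 : b ≠ 0 := fun e => hb' (by rw [e, zero_add, pow_one]; exact hqK)
    have hb95 : q ^ b ∣ 95040 := hb.trans hKd
    have hmod : ∀ d, d ∣ q ^ b → d % 11 = q ^ b % 11 → d = q ^ b := by
      intro d hd hmod
      have hle : q ^ b ≤ 95040 := Nat.le_of_dvd (by norm_num) hb95
      obtain ⟨s, hs, rfl⟩ := (Nat.dvd_prime_pow hq).1 hd
      rcases hq235 with rfl | rfl | rfl
      · have hb6 : b ≤ 6 := by
          by_contra hgt
          have := (pow_dvd_pow 2 (show 7 ≤ b by omega)).trans hb95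
          norm_num at this
        interval_cases b <;> interval_cases s <;> omega
      · have hb6 : b ≤ 3 := by
          by_contra hgt
          have := (pow_dvd_pow 3 (show 4 ≤ b by omega)).trans hb95
          norm_num at this
        interval_cases b <;> interval_cases s <;> omega
      · have hb6 : b ≤ 1 := by
          by_contra hgt
          have := (pow_dvd_pow 5 (show 2 ≤ b by omega)).trans hb95
          norm_num at this
        interval_cases b <;> interval_cases s <;> omega
    obtain ⟨R, -, hR, -, hRC⟩ := exists_centralised_sylow (q := q) (b := b) hP hPK' h11 hb hb' hmod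
    have hq11 : q ∣ 11 := by
      rw [← hC]
      exact (dvd_pow_self q hb0).trans (hR ▸ Subgroup.card_dvd_of_le hRC)
    rcases hq235 with rfl | rfl | rfl <;> norm_num at hq11

end

end CfsgLib.MTwelveUnique
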