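import Cfsg.Agent.MTwelveUnique.DegreeDefs

/-!
Part C of the degree and value search for a group of order 95040.
-/

set_option autoImplicit false
set_option maxRecDepth 100000

namespace CfsgLib.MTwelveUnique

open CfsgLib.Small.Check

theorem badSlice_c : ((!badSlice 7 (-1))) = true := by decide +kernel

end CfsgLib.MTwelveUnique
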