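import Cfsg.Agent.MTwelveUnique.DegreeA
import Cfsg.Agent.MTwelveUnique.DegreeB
import Cfsg.Agent.MTwelveUnique.DegreeC
import Cfsg.Agent.MTwelveUnique.DegreeD

/-!
The degree and value search for a group of order 95040.
-/

set_option autoImplicit false
set_option maxRecDepth 100000

namespace CfsgLib.MTwelveUnique

open CfsgLib.Small.Check

theorem badPred_search : sel 11 5 2 95040 309 badPred = false := by
  have hsel : sel 11 5 2 95040 309 badPred =
      (List.range 15).any fun i => [(1 : ℤ), -1].any fun σ => badSlice i σ := rfl
  rw [hsel, List.any_eq_false]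
  intro i hi
  rw [List.mem_range] at hi
  rw [Bool.not_eq_true, List.any_eq_false]
  intro σ hσ
  have hA := List.all_eq_true.1 badSlice_a i
  have hD := List.all_eq_true.1 badSlice_d i
  have hB := badSlice_b
  have hC := badSlice_c
  simp only [List.mem_range'_1, List.all_eq_true, Bool.not_eq_true'] at hA hD hB hC
  rcases Nat.lt_trichotomy i 7 with h | h | h
  · simp [hA (by omega) σ hσ]
  · subst h
    simp only [List.mem_cons, List.not_mem_nil, or_false] at hσ
    rcases hσ with rfl | rfl
    · simp [hB]
    · simp [hC]
  · simp [hD (by omega) σ hσ]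

end CfsgLib.MTwelveUnique
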