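import Cfsg.Agent.MTwelveUnique.Orth

/-!
The predicate of the degree and value search for a group of order 95040, and its slices.
-/

set_option autoImplicit false
set_option maxRecDepth 100000

namespace CfsgLib.MTwelveUnique

open CfsgLib.Small.Check

/-- Candidates for the centraliser order of a Sylow-central involution. -/
def centralOrders : List ℕ := [64, 192, 320, 576, 960, 1728, 2880, 8640]

/-- Candidates for the centraliser order of an involution commuting with an element of order five. -/
def fiveOrders : List ℕ :=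
  [10, 20, 30, 40, 60, 80, 90, 120, 160, 180, 240, 270, 320, 360, 480, 540, 720, 960, 1080, 1440, 2160,
    2880, 4320, 8640]

/-- The centraliser orders to be excluded. -/
def badOrders : List ℕ :=
  [2, 4, 6, 8, 10, 12, 16, 18, 20, 24, 30, 32, 36, 40, 48, 54, 60, 64, 72, 80, 90, 96, 108, 144, 160,
    180, 216, 270, 288, 320, 360, 432, 480, 540, 576, 720, 864, 960, 1080, 1440, 1728, 2160, 2880, 4320,
    8640]

/-- A Sylow-central class, a class commuting with order five and a bad class at the same time. -/
def badPred (items : List Item) : Bool :=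
  (fiveOrders.any fun C => !(valsOf 95040 C items).isEmpty) &&
    centralOrders.any fun Cz => (valsOf 95040 Cz items).any fun a =>
      badOrders.any fun Ct => (valsOf 95040 Ct items).any fun c =>
        Nat.beq Ct Cz || colOK items Cz Ct a c

/-- The slice of the search at one `i` and one sign. -/
def badSlice (i : ℕ) (σ : ℤ) : Bool :=
    decide (0 ≤ (5 : ℤ) - 2 * σ * ((i : ℤ) - (5 + 2))
        - (2 : ℤ) * (((i : ℤ) - (5 + 2)) * ((i : ℤ) - (5 + 2))) - 1)
      && (degrees 95040 309).any fun d =>
        decide (((d : ℤ) - (((i : ℤ) - (5 + 2)) - σ * (5 : ℤ))) % (11 : ℤ) = 0)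
          && decide (2 * (d * d) ≤ 95040 - 1)
          && selRec badPred
              (cands 11 95040 309 ((5 : ℤ) - 2 * σ * ((i : ℤ) - (5 + 2))
                - (2 : ℤ) * (((i : ℤ) - (5 + 2)) * ((i : ℤ) - (5 + 2))) - 1).toNat)
              ((5 : ℤ) - 2 * σ * ((i : ℤ) - (5 + 2))
                - (2 : ℤ) * (((i : ℤ) - (5 + 2)) * ((i : ℤ) - (5 + 2))) - 1).toNat
              (1 + ((2 : ℤ) * ((i : ℤ) - (5 + 2)) + σ) * (d : ℤ)) (95040 - 1 - 2 * (d * d))
              [((2 : ℤ) * ((i : ℤ) - (5 + 2)) + σ, 2, d)]

end CfsgLib.MTwelveUnique
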