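import Cfsg.Agent.MTwelveUnique.Basic

/-!
A simple group of order 95040: the normaliser of a Sylow 11-subgroup has order 55.
-/

set_option autoImplicit false

open scoped Pointwise
open MulAction

namespace CfsgLib.MTwelveUnique

open CfsgLib.MElevenUnique (Cg Ng Cs fixCard mem_Cg mem_Cs Cs_le_Ng inCard inCard_spec)

variable {G : Type*} [Group G] [Finite G] [IsSimpleGroup G] (hG : Nat.card G = 95040)
  [Fact (Nat.Prime 11)]
include hG

theorem eleven_options (P : Sylow 11 G) :
    let N := Nat.card (Ng (P : Subgroup G))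
    let C := Nat.card (Cs (P : Subgroup G))
    N = 55 ∧ C = 11 ∨ N = 2112 ∧ C = 1056 ∨ N = 176 ∧ C = 88 ∨
      N = 660 ∧ (C = 330 ∨ C = 132 ∨ C = 66) := by
  intro N C
  have hP := card_sylow_eleven hG P
  have hn := Small.card_sylow_mul_card_normalizer P
  rw [hG] at hn
  change Nat.card (Sylow 11 G) * N = 95040 at hn
  have hmem := Small.card_sylow_mem (not_comm hG) (p := 11) (k := 1) (m := 8640) (by rw [hG]; norm_num)
    one_ne_zero (by norm_num)
  simp only [Finset.mem_filter] at hmem
  have hall : ∀ n ∈ Nat.divisors 8640, n % 11 = 1 → n ≠ 1 →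
      n = 12 ∨ n = 45 ∨ n = 144 ∨ n = 320 ∨ n = 540 ∨ n = 1728 := by decide +kernel
  have he := Small.relIndex_centralizer_mem (not_comm hG) P hP (n := N) rfl
  have hCe : C * (Cs (P : Subgroup G)).relIndex (Ng (P : Subgroup G)) = N :=
    Small.card_centralizer_mul_relIndex _
  rw [Finset.mem_filter] at he
  have he' : (Cs (P : Subgroup G)).relIndex (Ng (P : Subgroup G)) = 2 ∨
      (Cs (P : Subgroup G)).relIndex (Ng (P : Subgroup G)) = 5 ∨
      (Cs (P : Subgroup G)).relIndex (Ng (P : Subgroup G)) = 10 := by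
    have h1 := he.1
    rw [show Nat.divisors (11 - 1) = {1, 2, 5, 10} by decide] at h1
    simp only [Finset.mem_insert, Finset.mem_singleton] at h1
    exact h1.resolve_left he.2.2
  generalize hr : (Cs (P : Subgroup G)).relIndex (Ng (P : Subgroup G)) = e at he hCe he'
  have h11C : 11 ∣ C := hP ▸ Subgroup.card_dvd_of_le (GraphSimple.le_centralizer_of_cyclic_prime hP)
  obtain ⟨c, hc⟩ := h11C
  rcases hall _ hmem.1 hmem.2.1 hmem.2.2 with h | h | h | h | h | h <;> rw [h] at hn
  · exfalso
    have hidx : (Ng (P : Subgroup G)).index = 12 := P.card_eq_index_normalizer.symm.trans h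
    have hne : Ng (P : Subgroup G) ≠ ⊤ := fun e => by rw [e, Subgroup.index_top] at hidx; omega
    have := card_N11_le hG hne (by omega) P
    omega
  all_goals rcases he' with rfl | rfl | rfl <;> omega

/-- An element of order prime to 11 centralising `P` fixes no further Sylow subgroup when there are 45. -/
theorem false_2112 (P : Sylow 11 G) (hN : Nat.card (Ng (P : Subgroup G)) = 2112)
    (hC : Nat.card (Cs (P : Subgroup G)) = 1056) : False := by
  classical
  haveI := Fact.mk Nat.prime_two
  have hP := card_sylow_eleven hG P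
  have hall : ∀ Q : Sylow 11 G, Nat.card (Q : Subgroup G) = 11 := fun Q => card_sylow_eleven hG Q
  have hn := Small.card_sylow_mul_card_normalizer P
  rw [hG] at hn
  change Nat.card (Sylow 11 G) * Nat.card (Ng (P : Subgroup G)) = 95040 at hn
  rw [hN] at hn
  haveI : Nontrivial (Sylow 11 G) := Finite.one_lt_card_iff_nontrivial.1 (by omega)
  obtain ⟨y, hyP, hy⟩ := Small.Fusion.exists_orderOf (H := (P : Subgroup G))
    (show Nat.Prime 11 by norm_num) (dvd_of_eq hP.symm)
  -- a non-trivial 2-element of the centraliser fixes only `P`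
  have hfix : ∀ v ∈ Cs (P : Subgroup G), v ≠ 1 → (∃ k, orderOf v ∣ 2 ^ k) →
      ∀ Q : Sylow 11 G, v • Q = Q → Q = P := by
    intro v hv hv1 hv2 Q hQ
    obtain ⟨k, hk⟩ := hv2
    obtain ⟨j, -, hj⟩ := (Nat.dvd_prime_pow Nat.prime_two).1 hk
    have hj0 : j ≠ 0 := fun e => hv1 (orderOf_eq_one_iff.1 (by rw [hj, e, pow_zero]))
    set t := v ^ 2 ^ (j - 1) with ht_def
    have ht : orderOf t = 2 := by
      rw [ht_def, orderOf_pow, hj, Nat.gcd_eq_right (pow_dvd_pow 2 (by omega)),
        Nat.pow_div (by omega) two_pos, show j - (j - 1) = 1 by omega, pow_one]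
    have htC : t ∈ Cs (P : Subgroup G) := pow_mem hv _
    have hc : Commute t y := (mem_Cs.1 htC y hyP).symm
    have h1 : fixCard (Sylow 11 G) t % 11 = 1 := by
      rw [MElevenUnique.fix_modEq_inter hc (hy ▸ pow_orderOf_eq_one y),
        MElevenUnique.inter_sylow_eq_one hall hy hyP hc]
    have h2 := MElevenUnique.four_dvd_moved (X := Sylow 11 G) (not_comm hG) ht
    have h3 := MElevenUnique.fixCard_le (X := Sylow 11 G) t
    have hlt : fixCard (Sylow 11 G) t < Nat.card (Sylow 11 G) := by
      by_contra hge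
      have he := MElevenUnique.eq_one_of_fixCard (X := Sylow 11 G) (x := t) (not_lt.1 hge)
      rw [he, orderOf_one] at ht
      norm_num at ht
    have ht1 : fixCard (Sylow 11 G) t = 1 := by omega
    have hPt : t • P = P := MElevenUnique.smul_sylow_eq_iff.2 (Cs_le_Ng _ htC)
    have hQt : t • Q = Q := MElevenUnique.pow_smul_eq hQ _
    haveI := (Nat.card_eq_one_iff_unique.1 ht1).1
    exact congrArg Subtype.val (Subsingleton.elim (⟨Q, hQt⟩ : fixedBy (Sylow 11 G) t) ⟨P, hPt⟩)
  -- strong closure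
  have hclosed : ∀ v g : G, v ∈ Cs (P : Subgroup G) → (∃ k, orderOf v ∣ 2 ^ k) →
      g * v * g⁻¹ ∈ Ng (P : Subgroup G) → g * v * g⁻¹ ∈ Cs (P : Subgroup G) := by
    intro v g hv hv2 hg
    by_cases hv1 : v = 1
    · rw [hv1, mul_one, mul_inv_cancel]; exact one_mem _
    have h1 : v • g⁻¹ • P = g⁻¹ • P := by
      have h2 : (g * v * g⁻¹) • P = P := MElevenUnique.smul_sylow_eq_iff.2 hg
      calc v • g⁻¹ • P = g⁻¹ • (g * v * g⁻¹) • P := by
            rw [smul_smul, smul_smul]; congr 1; group
        _ = g⁻¹ • P := by rw [h2]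
    have hgN : g⁻¹ ∈ Ng (P : Subgroup G) :=
      MElevenUnique.smul_sylow_eq_iff.1 (hfix v hv hv1 hv2 _ h1)
    exact conj_mem_of_mem_Ng (Small.Fusion.N_le_normalizer_C P (by simpa using inv_mem hgN)) hv
  obtain ⟨S, hSN, hS⟩ := Small.exists_two_subgroup_le (H := Ng (P : Subgroup G)) (k := 6)
    (by rw [hN]; norm_num)
  have hSidx : S.index = 1485 := by
    have h := S.index_mul_card
    rw [hG, hS] at h
    omega
  set M := (Cs (P : Subgroup G)).subgroupOf S
  have hM2 : M.index = 2 := by
    have h0 : (Cs (P : Subgroup G)).relIndex S ≠ 0 := Subgroup.index_ne_zero_of_finite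
    have h1 : (Cs (P : Subgroup G)).relIndex S ≠ 1 := fun h => by
      have := Subgroup.card_dvd_of_le (Subgroup.relIndex_eq_one.1 h)
      rw [hS, hC] at this
      norm_num at this
    have h2 : (Cs (P : Subgroup G)).relIndex S ≤ (Cs (P : Subgroup G)).relIndex (Ng (P : Subgroup G)) :=
      Subgroup.relIndex_le_of_le_right hSN Subgroup.index_ne_zero_of_finite
    have h3 : Nat.card (Cs (P : Subgroup G)) * (Cs (P : Subgroup G)).relIndex (Ng (P : Subgroup G))
        = Nat.card (Ng (P : Subgroup G)) := Small.card_centralizer_mul_relIndex _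
    rw [hC, hN] at h3
    show (Cs (P : Subgroup G)).relIndex S = 2
    omega
  let φ : S →* ℤˣ :=
    { toFun := fun s => if s ∈ M then 1 else -1
      map_one' := by simp
      map_mul' := fun a b => by
        by_cases ha : a ∈ M <;> by_cases hb : b ∈ M <;>
          simp [Subgroup.mul_mem_iff_of_index_two hM2, ha, hb] }
  obtain ⟨s, hs⟩ : ∃ s : S, s ∉ M := by
    by_contra hc
    push Not at hc
    rw [(Subgroup.eq_top_iff' M).2 hc, Subgroup.index_top] at hM2
    omega
  have h2 : ∀ x : S, ∃ k, orderOf (x : G) ∣ 2 ^ k := fun x =>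
    ⟨6, hS ▸ Subgroup.orderOf_dvd_natCard S x.2⟩
  have hiff : ∀ (x : S) (g : G) (h : g⁻¹ * (x : G) * g ∈ S), φ ⟨_, h⟩ = φ x := by
    intro x g h
    have e : g⁻¹ * (x : G) * g ∈ Cs (P : Subgroup G) ↔ (x : G) ∈ Cs (P : Subgroup G) := by
      constructor
      · intro hm
        have := hclosed _ g hm (h2 ⟨_, h⟩) (by
          rw [show g * (g⁻¹ * (x : G) * g) * g⁻¹ = x by group]; exact hSN x.2)
        rwa [show g * (g⁻¹ * (x : G) * g) * g⁻¹ = x by group] at this
      · intro hm
        have := hclosed _ g⁻¹ hm (h2 x) (by rw [inv_inv]; exact hSN h)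
        rwa [inv_inv] at this
    show (if _ ∈ M then (1 : ℤˣ) else -1) = if _ ∈ M then 1 else -1
    simp only [M, Subgroup.mem_subgroupOf, e]
  have ht := transfer_eq_pow_of_key φ s.2 fun k g h => by
    rw [← map_pow]
    exact hiff (s ^ k) g h
  rw [hom_eq_one (not_comm hG), show φ ⟨(s : G), s.2⟩ = -1 from if_neg hs, hSidx] at ht
  rw [(show Odd 1485 from ⟨742, rfl⟩).neg_one_pow] at ht
  exact absurd ht (by decide)

/-- With 144 Sylow 11-subgroups their centraliser has a normal Sylow subgroup, which is impossible. -/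
theorem false_660 (P : Sylow 11 G) (hN : Nat.card (Ng (P : Subgroup G)) = 660)
    (hC : Nat.card (Cs (P : Subgroup G)) = 330 ∨ Nat.card (Cs (P : Subgroup G)) = 132 ∨
      Nat.card (Cs (P : Subgroup G)) = 66) : False := by
  classical
  haveI := Fact.mk Nat.prime_two
  haveI := Fact.mk Nat.prime_three
  haveI := Fact.mk Nat.prime_five
  have hP := card_sylow_eleven hG P
  have hn := Small.card_sylow_mul_card_normalizer P
  rw [hG] at hn
  change Nat.card (Sylow 11 G) * Nat.card (Ng (P : Subgroup G)) = 95040 at hn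
  rw [hN] at hn
  have hNC : Ng (P : Subgroup G) ≤ Ng (Cs (P : Subgroup G)) := Small.Fusion.N_le_normalizer_C P
  have hCN := Cs_le_Ng (P : Subgroup G)
  -- the complement of `P` in its centraliser
  obtain ⟨C₀, hC₀, -, hC₀c, -, hC₀m⟩ := exists_complement (p := 11) (a := 1)
    (L := Cs (P : Subgroup G)) (H := (P : Subgroup G)) (GraphSimple.le_centralizer_of_cyclic_prime hP)
    (by rw [hP, pow_one]) (by rcases hC with h | h | h <;> rw [h] <;> norm_num) inf_le_left
  have finish : ∀ (q a : ℕ) [Fact q.Prime] (A : Subgroup G), A ≤ C₀ → Nat.card A = q ^ a →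
      1 < q ^ a → q ^ a ∣ 660 → ¬ q ^ (a + 1) ∣ 660 → q ≠ 11 → 144 % q ≠ 1 →
      (∀ x ∈ C₀, ∀ k, orderOf x ∣ q ^ k → x ∈ A) → False := by
    intro q a _ A hAC hA h1 hd hnd hq hmod hmem
    have hmem' : ∀ x ∈ Cs (P : Subgroup G), ∀ k, orderOf x ∣ q ^ k → x ∈ A := fun x hx k hk =>
      hmem x (hC₀m x hx fun h11 => hq ((Nat.prime_dvd_prime_iff_eq (by norm_num) Fact.out).1
        ((show Nat.Prime 11 by norm_num).dvd_of_dvd_pow (h11.trans hk))).symm) k hk
    obtain ⟨n, hn1, hne, hnA⟩ := card_normalizer_trick P ((hAC.trans hC₀).trans hCN)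
      (le_Ng_of_all_mem (hAC.trans hC₀) hA hNC hmem') hA (hN ▸ hnd)
      (by rw [show Nat.card (Sylow 11 G) = 144 by omega]; exact hmod)
    have hle := card_le_of_N11 hG P (by omega)
      (Ng_ne_top' hG (A := A) (by omega)
        (by rw [hA]; exact lt_of_le_of_lt (Nat.le_of_dvd (by norm_num) hd) (by norm_num)))
    rw [hnA, hN] at hle
    omega
  rcases hC with h | h | h <;> rw [h] at hC₀c
  · -- order thirty
    obtain ⟨D, hD, -, hDc, hDm⟩ := exists_half (L := C₀) (by omega)
    obtain ⟨A, hA, hAc, -, hAm⟩ := exists_unique_sylow (q := 5) (a := 1) (m := 3) (L := D)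
      (by norm_num; omega) (by norm_num) (by decide)
    exact finish 5 1 A (hA.trans hD) hAc (by norm_num) (by norm_num) (by norm_num) (by norm_num)
      (by norm_num) fun x hx k hk => hAm x (hDm x hx fun h2 =>
        absurd (Nat.prime_two.dvd_of_dvd_pow (h2.trans hk)) (by norm_num)) k hk
  · -- order twelve
    have h12 : Nat.card C₀ = 12 := by omega
    obtain ⟨R⟩ : Nonempty (Sylow 3 C₀) := inferInstance
    have hR : Nat.card (R : Subgroup C₀) = 3 ^ 1 :=
      Small.card_sylow_eq (k := 1) (m := 4) (by rw [h12]; norm_num) (by norm_num) R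
    have hs := Small.card_sylow_mul_card_normalizer R
    rw [h12] at hs
    have hs1 := Small.card_sylow_mod 3 (G := C₀)
    have hs4 : Nat.card (Sylow 3 C₀) ∣ 4 :=
      Small.card_sylow_dvd (k := 1) (by rw [h12]; norm_num) (by norm_num)
    have hs' : Nat.card (Sylow 3 C₀) = 1 ∨ Nat.card (Sylow 3 C₀) = 4 := by
      have := Nat.le_of_dvd (by norm_num) hs4
      interval_cases Nat.card (Sylow 3 C₀) <;> simp_all
    rcases hs' with h1 | h4
    · obtain ⟨A, hA, hAc, -, hAm⟩ := unique_of_sylow_one R h1 hR (by rw [h12]; norm_num)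
      exact finish 3 1 A hA hAc (by norm_num) (by norm_num) (by norm_num) (by norm_num) (by norm_num) hAm
    · rw [h4] at hs
      have hNR : (Subgroup.normalizer ((R : Subgroup C₀) : Set C₀)) = (R : Subgroup C₀) :=
        (Subgroup.eq_of_le_of_card_ge Subgroup.le_normalizer (by rw [hR]; omega)).symm
      obtain ⟨A, hA, -, hAc, -, hAm⟩ := complement_aux (a := 1) C₀ R hR
        (hNR.le.trans (GraphSimple.le_centralizer_of_cyclic_prime (by rw [hR, pow_one])))
      exact finish 2 2 A hA (by norm_num; omega) (by norm_num) (by norm_num) (by norm_num) (by norm_num)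
        (by norm_num) fun x hx k hk => hAm x hx fun h3 =>
          absurd (Nat.prime_three.dvd_of_dvd_pow (h3.trans hk)) (by norm_num)
  · -- order six
    obtain ⟨D, hD, -, hDc, hDm⟩ := exists_half (L := C₀) (by omega)
    exact finish 3 1 D hD (by norm_num; omega) (by norm_num) (by norm_num) (by norm_num) (by norm_num)
      (by norm_num) fun x hx k hk => hDm x hx fun h2 =>
        absurd (Nat.prime_two.dvd_of_dvd_pow (h2.trans hk)) (by norm_num)

end CfsgLib.MTwelveUnique
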