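import Cfsg.Agent.MTwelveUnique.Eleven

/-!
A simple group of order 95040: the Sylow 11-normaliser is not of order 176.
-/

set_option autoImplicit false

open scoped Pointwise
open MulAction

namespace CfsgLib.MTwelveUnique

open CfsgLib.MElevenUnique (Cg Ng Cs fixCard mem_Cg mem_Cs Cs_le_Ng inCard inCard_spec)

/-- An element of order eleven with one fixed point among twelve is an eleven-cycle on the others. -/
theorem orbit_eleven {G X : Type*} [Group G] [MulAction G X] [Finite X] (hX : Nat.card X = 12) {y : G}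
    (hy : orderOf y = 11) {b₀ : X} (hfix : ∀ b, y • b = b → b = b₀) (h0 : y • b₀ = b₀) :
    ∃ a ≠ b₀, (∀ b ≠ b₀, ∃ i : ℕ, y ^ i • a = b) ∧ ∀ d : ℕ, y ^ d • a = a → 11 ∣ d := by
  classical
  haveI := Fintype.ofFinite X
  obtain ⟨a, ha⟩ := Fintype.exists_ne_of_one_lt_card (by rw [← Nat.card_eq_fintype_card, hX]; norm_num) b₀
  have hy' : y • a ≠ a := fun e => ha (hfix a e)
  have hper : ∀ d : ℕ, y ^ d • a = a → 11 ∣ d := by
    intro d hd
    by_contra hnd
    have hc : d.Coprime 11 :=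
      Nat.coprime_comm.1 ((show Nat.Prime 11 by norm_num).coprime_iff_not_dvd.2 hnd)
    obtain ⟨m, hm⟩ := exists_pow_eq_self_of_coprime (x := y) (hy.symm ▸ hc)
    exact hy' (by rw [← hm]; exact MElevenUnique.pow_smul_eq hd m)
  have hne : ∀ i : ℕ, y ^ i • a ≠ b₀ := fun i e => ha (by
    have h1 : y ^ i • b₀ = b₀ := MElevenUnique.pow_smul_eq h0 i
    exact MulAction.injective (y ^ i) (e.trans h1.symm))
  let f : Fin 11 → {b : X // b ≠ b₀} := fun i => ⟨y ^ (i : ℕ) • a, hne i⟩
  have hf : Function.Bijective f := by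
    rw [Nat.bijective_iff_injective_and_card]
    refine ⟨fun i j e => ?_, ?_⟩
    · have e' : y ^ (i : ℕ) • a = y ^ (j : ℕ) • a := congrArg Subtype.val e
      rcases le_total (i : ℕ) j with h | h
      · have := hper ((j : ℕ) - i) (by
          apply MulAction.injective (y ^ (i : ℕ))
          show y ^ (i : ℕ) • y ^ ((j : ℕ) - i) • a = y ^ (i : ℕ) • a
          rw [smul_smul, ← pow_add, show (i : ℕ) + (j - i) = j by omega, e'])
        exact Fin.ext (by omega)
      · have := hper ((i : ℕ) - j) (by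
          apply MulAction.injective (y ^ (j : ℕ))
          show y ^ (j : ℕ) • y ^ ((i : ℕ) - j) • a = y ^ (j : ℕ) • a
          rw [smul_smul, ← pow_add, show (j : ℕ) + (i - j) = i by omega, e'])
        exact Fin.ext (by omega)
    · rw [Nat.card_fin, Nat.card_eq_fintype_card, Fintype.card_subtype_compl, Fintype.card_subtype_eq,
        ← Nat.card_eq_fintype_card, hX]
  exact ⟨a, ha, fun b hb => (hf.2 ⟨b, hb⟩).elim fun i hi => ⟨i, congrArg Subtype.val hi⟩, hper⟩

variable {G : Type*} [Group G] [Finite G] [IsSimpleGroup G] (hG : Nat.card G = 95040)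
  [Fact (Nat.Prime 11)]
include hG

theorem false_176 (P : Sylow 11 G) (hN : Nat.card (Ng (P : Subgroup G)) = 176)
    (hC : Nat.card (Cs (P : Subgroup G)) = 88) : False := by
  classical
  haveI := Fact.mk Nat.prime_two
  haveI := Fact.mk Nat.prime_three
  have hP := card_sylow_eleven hG P
  have hCN := Cs_le_Ng (P : Subgroup G)
  obtain ⟨K, hKC, -, hKc, -, hKm⟩ := exists_complement (p := 11) (a := 1)
    (L := Cs (P : Subgroup G)) (H := (P : Subgroup G)) (GraphSimple.le_centralizer_of_cyclic_prime hP)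
    (by rw [hP, pow_one]) (by rw [hC]; norm_num) inf_le_left
  have hK : Nat.card K = 2 ^ 3 := by rw [hC] at hKc; norm_num; omega
  have hK2 : ∀ x ∈ Cs (P : Subgroup G), ∀ k, orderOf x ∣ 2 ^ k → x ∈ K := fun x hx k hk =>
    hKm x hx fun h11 => absurd ((show Nat.Prime 11 by norm_num).dvd_of_dvd_pow (h11.trans hk)) (by norm_num)
  have hNK : Ng (P : Subgroup G) ≤ Ng K :=
    le_Ng_of_all_mem hKC hK (Small.Fusion.N_le_normalizer_C P) hK2
  obtain ⟨R, hKR, hRN, hR⟩ := exists_sylow_le (q := 2) (b := 4) (hKC.trans hCN) (IsPGroup.of_card hK)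
    (by rw [hN]; norm_num) (by rw [hN]; norm_num)
  obtain ⟨T, hT⟩ := (IsPGroup.of_card hR).exists_le_sylow
  have hTN : (T : Subgroup G) ⊓ Ng (P : Subgroup G) = R := by
    symm
    refine Subgroup.eq_of_le_of_card_ge (le_inf hT hRN) ?_
    have h1 := Subgroup.card_dvd_of_le (inf_le_right : (T : Subgroup G) ⊓ Ng (P : Subgroup G) ≤ _)
    have h2 := Subgroup.card_dvd_of_le (inf_le_left : (T : Subgroup G) ⊓ Ng (P : Subgroup G) ≤ _)
    rw [hN] at h1
    rw [card_sylow_two hG T] at h2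
    have h3 := Nat.dvd_gcd h1 h2
    rw [show Nat.gcd 176 64 = 16 by norm_num] at h3
    rw [hR]
    exact (Nat.le_of_dvd (by norm_num) h3).trans_eq (by norm_num)
  have hRT : R ≠ T := fun e => by
    have := card_sylow_two hG T
    rw [← e, hR] at this
    norm_num at this
  obtain ⟨t, htT, htR, htn⟩ := exists_normalizing_not_mem T.2 hT hRT
  have htN : t ∉ Ng (P : Subgroup G) := fun h => htR (hTN ▸ ⟨htT, h⟩)
  have hRK : R ≤ Ng K := hRN.trans hNK
  set K' := K.map (MulAut.conj t).toMonoidHom with hK'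
  have hK'R : K' ≤ R := by
    rintro _ ⟨k, hk, rfl⟩
    exact conj_mem_of_mem_Ng htn (hKR hk)
  have hne : K ⊓ K' ≠ ⊥ := inf_ne_bot_of_card hKR hK'R (by rw [hK', card_map_conj, hK, hR]; norm_num)
  obtain ⟨z, hz, hzo, hzR⟩ := Small.Fusion.exists_central_involution (IsPGroup.of_card hR)
    (le_Ng_inf hRK (le_Ng_map_conj hRK htn))
    (two_dvd_of_ne_bot ((IsPGroup.of_card hK).to_le inf_le_left) hne)
  have hz1 : z ≠ 1 := fun e => by rw [e, orderOf_one] at hzo; norm_num at hzo
  have hPz : (P : Subgroup G) ≤ Cg z := Small.sylow_le_centralizer_singleton P (hKC hz.1)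
  have hQz : ((t • P : Sylow 11 G) : Subgroup G) ≤ Cg z := by
    intro a ha
    rw [Sylow.coe_subgroup_smul, Subgroup.mem_pointwise_smul_iff_inv_smul_mem, ← map_inv] at ha
    simp only [MulAut.smul_def, MulAut.conj_apply, inv_inv] at ha
    have h1 := mem_Cs.1 (hKC (mem_map_conj.1 hz.2)) _ ha
    rw [mem_Cg]
    calc a * z = t * ((t⁻¹ * a * t) * (t⁻¹ * z * t)) * t⁻¹ := by group
      _ = t * ((t⁻¹ * z * t) * (t⁻¹ * a * t)) * t⁻¹ := by rw [h1]
      _ = z * a := by group
  obtain ⟨hn1, hn2⟩ := inCard_spec P hPz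
  have hne1 : inCard 11 (Cg z) ≠ 1 := fun h => htN (MElevenUnique.smul_sylow_eq_iff.1
    (MElevenUnique.eq_of_inCard_one h hPz hQz).symm)
  have hLN : Nat.card ↥(Cg z ⊓ Ng (P : Subgroup G)) = 176 := by
    have h1 := Subgroup.card_dvd_of_le (le_inf hzR hRN : R ≤ Cg z ⊓ Ng (P : Subgroup G))
    have h2 := Subgroup.card_dvd_of_le
      (le_inf hPz Subgroup.le_normalizer : (P : Subgroup G) ≤ Cg z ⊓ Ng (P : Subgroup G))
    have h3 := Subgroup.card_dvd_of_le (inf_le_right : Cg z ⊓ Ng (P : Subgroup G) ≤ _)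
    rw [hR] at h1
    rw [hP] at h2
    rw [hN] at h3
    exact Nat.dvd_antisymm h3 ((show Nat.Coprime (2 ^ 4) 11 by norm_num).mul_dvd_of_dvd_of_dvd h1 h2)
  have hNL : Ng (P : Subgroup G) ≤ Cg z := inf_eq_right.1
    (Subgroup.eq_of_le_of_card_ge inf_le_right (by rw [hLN, hN]))
  rw [hLN] at hn2
  have hLle := card_le_of_N11 hG P (by omega) (Cg_ne_top' hG hz1)
  have hLdvd := card_dvd' hG (Cg z)
  have hL : Nat.card (Cg z) = 2112 := by
    rw [hn2] at hLle hLdvd
    have hm : inCard 11 (Cg z) ≤ 36 := by omega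
    have key : ∀ n ≤ 36, n % 11 = 1 → n ≠ 1 → n * 176 ∣ 95040 → n = 12 := by decide +kernel
    rw [hn2, key _ hm hn1 hne1 hLdvd]
  clear hn1 hn2 hne1 hLle hLdvd hQz hne hK'R
  -- the action of the centraliser of `z` on twelve points
  set L := Cg z with hLdef
  set NL := (Ng (P : Subgroup G)).subgroupOf L
  have hX : Nat.card (L ⧸ NL) = 12 := by
    have h := NL.index_mul_card
    rw [card_subgroupOf hNL, hN, hL, Subgroup.index_eq_card] at h
    omega
  obtain ⟨y, hyP, hy⟩ := Small.Fusion.exists_orderOf (H := (P : Subgroup G))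
    (show Nat.Prime 11 by norm_num) (dvd_of_eq hP.symm)
  have hy1 : y ≠ 1 := fun e => by rw [e, orderOf_one] at hy; norm_num at hy
  set yL : L := ⟨y, hPz hyP⟩
  have hyL : orderOf yL = 11 := by rw [← Subgroup.orderOf_coe]; exact hy
  have hb : ∀ x : L, (x : G) ∈ Ng (P : Subgroup G) → x • ((1 : L) : L ⧸ NL) = ((1 : L) : L ⧸ NL) :=
    fun x hx => smul_mk_eq_iff.2 (by
      rw [inv_one, one_mul, mul_one]
      exact Subgroup.mem_subgroupOf.2 hx)
  have hfix : ∀ b : L ⧸ NL, yL • b = b → b = ((1 : L) : L ⧸ NL) := by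
    intro b
    induction b using QuotientGroup.induction_on with
    | _ l =>
      intro hl
      have h1 := Subgroup.mem_subgroupOf.1 (smul_mk_eq_iff.1 hl)
      have ho : orderOf ((l : G)⁻¹ * y * l) = 11 := by
        have := orderOf_conj' ((l : G)⁻¹) y
        rwa [inv_inv, hy] at this
      have hne1 : (l : G)⁻¹ * y * l ≠ 1 := fun e => by rw [e, orderOf_one] at ho; norm_num at ho
      have hmem := MElevenUnique.mem_sylow_of_normalizes (Q := P) (x := (l : G)⁻¹ * y * l) (k := 1) (by rw [ho, pow_one]) h1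
      have hl' : (l : G)⁻¹ ∈ Ng (P : Subgroup G) := by
        refine mem_Ng_of_map_le ?_
        rintro _ ⟨a, ha, rfl⟩
        rw [← Small.eq_zpowers_of_mem_prime hP hyP hy1] at ha
        obtain ⟨j, rfl⟩ := ha
        rw [MulEquiv.coe_toMonoidHom, map_zpow, MulAut.conj_apply, inv_inv]
        exact zpow_mem hmem j
      rw [eq_comm, QuotientGroup.eq, inv_one, one_mul]
      exact Subgroup.mem_subgroupOf.2 (by simpa using inv_mem hl')
  obtain ⟨a, ha, horb, hper⟩ := orbit_eleven hX hyL hfix (hb yL (Subgroup.le_normalizer hyP))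
  let f := toPermHom L (L ⧸ NL)
  haveI := Fintype.ofFinite (L ⧸ NL)
  have hKf : ∀ k (hk : k ∈ K), f ⟨k, hNL (hCN (hKC hk))⟩ = 1 := by
    intro k hk
    set kL : L := ⟨k, hNL (hCN (hKC hk))⟩
    have hcm : Commute kL yL := Subtype.ext (mem_Cs.1 (hKC hk) y hyP).symm
    have hk0 := hb kL (hCN (hKC hk))
    obtain ⟨j, hj⟩ := horb (kL • a) fun e => ha (MulAction.injective kL (e.trans hk0.symm))
    have hpow : ∀ m : ℕ, kL ^ m • a = yL ^ (m * j) • a := by
      intro m
      induction m with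
      | zero => simp
      | succ m ih =>
        rw [pow_succ', ← smul_smul, ih, smul_smul, (hcm.pow_right _).eq, ← smul_smul, ← hj, smul_smul,
          ← pow_add, Nat.succ_mul]
    have h8 : kL ^ 8 = 1 := orderOf_dvd_iff_pow_eq_one.1 (by
      rw [← Subgroup.orderOf_coe]
      exact (Subgroup.orderOf_dvd_natCard K hk).trans (by rw [hK]; norm_num))
    have h11 := hper (8 * j) (by rw [← hpow, h8, one_smul])
    have hj11 : 11 ∣ j := (show Nat.Coprime 11 8 by norm_num).dvd_of_dvd_mul_left h11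
    obtain ⟨r, rfl⟩ := hj11
    rw [pow_mul, ← hyL, pow_orderOf_eq_one, one_pow, one_smul] at hj
    refine Equiv.ext fun b => ?_
    show kL • b = b
    by_cases hbb : b = ((1 : L) : L ⧸ NL)
    · rw [hbb, hk0]
    · obtain ⟨i, rfl⟩ := horb b hbb
      rw [smul_smul, (hcm.pow_right _).eq, ← smul_smul, ← hj]
  obtain ⟨i, hiR, hiK⟩ : ∃ i ∈ R, i ∉ K := by
    by_contra hc
    push Not at hc
    have := Subgroup.card_le_of_le (show R ≤ K from hc)
    rw [hR, hK] at this
    norm_num at this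
  have hiC : i ∉ Cs (P : Subgroup G) := fun h =>
    hiK (hK2 i h 4 (hR ▸ Subgroup.orderOf_dvd_natCard R hiR))
  set iL : L := ⟨i, hzR hiR⟩
  have hi2 : i * i ∈ K := by
    have hrel : (Cs (P : Subgroup G)).relIndex (Ng (P : Subgroup G)) = 2 := by
      have h := Small.card_centralizer_mul_relIndex (P : Subgroup G)
      change Nat.card (Cs (P : Subgroup G)) * (Cs (P : Subgroup G)).relIndex (Ng (P : Subgroup G))
        = Nat.card (Ng (P : Subgroup G)) at h
      rw [hC, hN] at h
      omega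
    have hmm := Subgroup.mul_self_mem_of_index_two (H := (Cs (P : Subgroup G)).subgroupOf (Ng (P : Subgroup G)))
      hrel ⟨i, hRN hiR⟩
    exact hK2 _ (Subgroup.mem_subgroupOf.1 hmm) 4
      (hR ▸ Subgroup.orderOf_dvd_natCard R (mul_mem hiR hiR))
  have hσ2 : f iL * f iL = 1 := by rw [← map_mul]; exact hKf _ hi2
  have hnb : ∀ b ≠ ((1 : L) : L ⧸ NL), ∀ b' ≠ ((1 : L) : L ⧸ NL), iL • b = b → iL • b' = b' → b = b' := by
    intro b hb1 b' hb1' hib hib'
    obtain ⟨u, rfl⟩ := horb b hb1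
    obtain ⟨v, rfl⟩ := horb b' hb1'
    by_contra hne
    -- conjugates of `i` fixing `a` differ by an element of `P` fixing `a`
    have hi' : ∀ w : ℕ, iL • yL ^ w • a = yL ^ w • a → ((yL ^ w)⁻¹ * iL * yL ^ w) • a = a := by
      intro w hw
      rw [mul_assoc, ← smul_smul, ← smul_smul, hw, inv_smul_smul]
    set h := ((yL ^ u)⁻¹ * iL * yL ^ u)⁻¹ * ((yL ^ v)⁻¹ * iL * yL ^ v) with hh
    have hha : h • a = a := by
      rw [hh, ← smul_smul, hi' v hib', inv_smul_eq_iff, hi' u hib]
    have hiN : i ∈ Ng (P : Subgroup G) := hRN hiR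
    have hyw : ∀ w : ℕ, ((yL ^ w : L) : G) ∈ (P : Subgroup G) := fun w => by
      rw [SubmonoidClass.coe_pow]; exact pow_mem hyP w
    have hhP : (h : G) ∈ (P : Subgroup G) := by
      have e : (h : G) = ((yL ^ u : L) : G)⁻¹ * (i⁻¹ * (((yL ^ u : L) : G) * ((yL ^ v : L) : G)⁻¹) * i)
          * ((yL ^ v : L) : G) := by
        simp only [hh, Subgroup.coe_mul, Subgroup.coe_inv, show (iL : G) = i from rfl]
        group
      rw [e]
      exact mul_mem (mul_mem (inv_mem (hyw u))
        (conj_mem_of_mem_Ng' hiN (mul_mem (hyw u) (inv_mem (hyw v))))) (hyw v)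
    rw [← Small.eq_zpowers_of_mem_prime hP hyP hy1, ← mem_powers_iff_mem_zpowers] at hhP
    obtain ⟨d, hd⟩ := hhP
    have hd' : h = yL ^ d := Subtype.ext (by rw [SubmonoidClass.coe_pow]; exact hd.symm)
    rw [hd'] at hha
    obtain ⟨r, rfl⟩ := hper d hha
    rw [pow_mul, ← hyL, pow_orderOf_eq_one, one_pow, hh, inv_mul_eq_one] at hd'
    -- so `i` commutes with a non-trivial element of `P`
    set p := yL ^ v * (yL ^ u)⁻¹ with hp
    have hc : Commute iL p := by
      show iL * p = p * iL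
      calc iL * p = yL ^ v * ((yL ^ v)⁻¹ * iL * yL ^ v) * (yL ^ u)⁻¹ := by rw [hp]; group
        _ = yL ^ v * ((yL ^ u)⁻¹ * iL * yL ^ u) * (yL ^ u)⁻¹ := by rw [hd']
        _ = p * iL := by rw [hp]; group
    have hp1 : (p : G) ≠ 1 := fun e => hne (by
      have e' : p = 1 := Subtype.ext e
      rw [hp, mul_inv_eq_one] at e'
      rw [e'])
    exact hiC (Small.mem_centralizer_of_commute_prime hP
      (by rw [hp, Subgroup.coe_mul, Subgroup.coe_inv]; exact mul_mem (hyw v) (inv_mem (hyw u))) hp1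
      (congrArg Subtype.val hc.eq))
  have hσb : f iL ((1 : L) : L ⧸ NL) = ((1 : L) : L ⧸ NL) := hb iL (hRN hiR)
  have hsupp : 10 ≤ (f iL).support.card := by
    have hle : (f iL).supportᶜ.card ≤ 2 := by
      by_contra hgt
      have h1 : 1 < ((f iL).supportᶜ.erase ((1 : L) : L ⧸ NL)).card := by
        have := Finset.pred_card_le_card_erase (a := ((1 : L) : L ⧸ NL)) (s := (f iL).supportᶜ)
        omega
      obtain ⟨b, hb1, b', hb1', hne⟩ := Finset.one_lt_card.1 h1
      simp only [Finset.mem_erase, Finset.mem_compl, Equiv.Perm.mem_support, not_not] at hb1 hb1'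
      exact hne (hnb b hb1.1 b' hb1'.1 hb1.2 hb1'.2)
    rw [Finset.card_compl, ← Nat.card_eq_fintype_card, hX] at hle
    omega
  have hsupp' : (f iL).support.card ≤ 11 := by
    have h : ((1 : L) : L ⧸ NL) ∉ (f iL).support := fun h => Equiv.Perm.mem_support.1 h hσb
    have := Finset.card_lt_card ((Finset.ssubset_univ_iff).2
      (show (f iL).support ≠ Finset.univ from fun e => h (e ▸ Finset.mem_univ _)))
    rw [Finset.card_univ, ← Nat.card_eq_fintype_card, hX] at this
    omega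
  have hσ : orderOf (f iL) = 2 := by
    refine orderOf_eq_prime (by rw [pow_two, hσ2]) fun e => ?_
    rw [e] at hsupp
    simp at hsupp
  have hsign : Equiv.Perm.sign (f iL) = -1 := by
    rw [Small.sign_of_sq_eq_one hσ]
    have h10 : (f iL).support.card / 2 = 5 := by omega
    rw [h10]
    rfl
  obtain ⟨D₀, hD₀, hD₀m⟩ : ∃ D₀ : Subgroup L, D₀.index = 2 ∧ ∀ x, x ∈ D₀ ↔ Equiv.Perm.sign (f x) = 1 := by
    refine ⟨(Equiv.Perm.sign.comp f).ker, ?_, fun x => MonoidHom.mem_ker⟩
    rw [Subgroup.index_ker, MonoidHom.range_eq_top.2, Subgroup.card_top, Nat.card_eq_fintype_card,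
      Fintype.card_units_int]
    intro u
    rcases Int.units_eq_one_or u with rfl | rfl
    · exact ⟨1, map_one _⟩
    · exact ⟨iL, hsign⟩
  set D := D₀.map L.subtype with hD
  have hDc : Nat.card D = 1056 := by
    rw [hD, Subgroup.card_subtype]
    have h := D₀.index_mul_card
    rw [hD₀, hL] at h
    omega
  haveI : D₀.Normal := Subgroup.normal_of_index_eq_two hD₀
  have hPD : (P : Subgroup G) ≤ D := fun w hw => ⟨⟨w, hPz hw⟩, mem_normal_of_coprime (by
    rw [hD₀, ← Subgroup.orderOf_coe]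
    exact Nat.Coprime.of_dvd_left (hP ▸ Subgroup.orderOf_dvd_natCard _ hw) (by norm_num)), rfl⟩
  have hKD : K ≤ D := fun k hk =>
    ⟨⟨k, hNL (hCN (hKC hk))⟩, (hD₀m _).2 (by rw [hKf k hk, map_one]), rfl⟩
  have hiD : i ∉ D := by
    rintro ⟨x, hx, hxi⟩
    obtain rfl : x = iL := Subtype.ext hxi
    rw [SetLike.mem_coe, hD₀m, hsign] at hx
    exact absurd hx (by decide)
  have hDN : D ⊓ Ng (P : Subgroup G) ≤ Cs (P : Subgroup G) := by
    have hCD : Cs (P : Subgroup G) ≤ D := by
      have h1 : Nat.card ↥(Cs (P : Subgroup G) ⊓ D) ∣ 88 := hC ▸ Subgroup.card_dvd_of_le inf_le_left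
      have h2 : 88 ∣ Nat.card ↥(Cs (P : Subgroup G) ⊓ D) := by
        have a1 := Subgroup.card_dvd_of_le (le_inf hKC hKD)
        have a2 := Subgroup.card_dvd_of_le (le_inf (GraphSimple.le_centralizer_of_cyclic_prime hP) hPD)
        rw [hK] at a1
        rw [hP] at a2
        exact (show Nat.Coprime (2 ^ 3) 11 by norm_num).mul_dvd_of_dvd_of_dvd a1 a2
      exact inf_eq_left.1 (Subgroup.eq_of_le_of_card_ge inf_le_left
        (by rw [hC, Nat.dvd_antisymm h1 h2]))
    have h1 := Subgroup.card_dvd_of_le (le_inf hCD hCN)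
    have h2 := Subgroup.card_dvd_of_le (inf_le_right : D ⊓ Ng (P : Subgroup G) ≤ _)
    rw [hC] at h1
    rw [hN] at h2
    have h3 : Nat.card ↥(D ⊓ Ng (P : Subgroup G)) ≠ 176 := fun h => hiD
      ((Subgroup.eq_of_le_of_card_ge (inf_le_right : D ⊓ Ng (P : Subgroup G) ≤ _)
        (by rw [h, hN])).ge (hRN hiR)).1
    have h4 := Nat.le_of_dvd (by norm_num) h2
    obtain ⟨c, hc⟩ := h1
    exact (Subgroup.eq_of_le_of_card_ge (le_inf hCD hCN) (by rw [hC]; omega)).ge
  obtain ⟨M, hMD, hDM, hMc, hM11, -⟩ := exists_complement (p := 11) (a := 1) hPD (by rw [hP, pow_one])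
    (by rw [hDc]; norm_num) hDN
  rw [hDc] at hMc
  have hM96 : Nat.card M = 96 := by omega
  obtain ⟨Y, -, hYc, -, hYC⟩ := exists_centralised_sylow (q := 3) (b := 1) hP (hPD.trans hDM) hM11
    (by rw [hM96]; norm_num) (by rw [hM96]; norm_num) (by
      intro d hd hmod
      rcases (Nat.dvd_prime Nat.prime_three).1 (by simpa using hd) with rfl | rfl
      · norm_num at hmod
      · norm_num)
  have h3 := Subgroup.card_dvd_of_le hYC
  change _ ∣ Nat.card (Cs (P : Subgroup G)) at h3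
  rw [hYc, hC] at h3
  norm_num at h3

/-- The normaliser of a Sylow 11-subgroup has order 55. -/
theorem eleven_data (P : Sylow 11 G) :
    Nat.card (Ng (P : Subgroup G)) = 55 ∧ Nat.card (Cs (P : Subgroup G)) = 11 := by
  rcases eleven_options hG P with h | ⟨h1, h2⟩ | ⟨h1, h2⟩ | ⟨h1, h2⟩
  · exact h
  · exact (false_2112 hG P h1 h2).elim
  · exact (false_176 hG P h1 h2).elim
  · exact (false_660 hG P h1 h2).elim

/-- A non-trivial element of order prime to eleven has a centraliser of order prime to eleven. -/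
theorem not_eleven_Cg' {x : G} (hx : x ≠ 1) (h : ¬ 11 ∣ orderOf x) : ¬ 11 ∣ Nat.card (Cg x) := by
  intro h'
  obtain ⟨y, hyC, hy⟩ := Small.Fusion.exists_orderOf (H := Cg x) (show Nat.Prime 11 by norm_num) h'
  obtain ⟨P, hyP⟩ := exists_sylow_mem hy
  have hP := card_sylow_eleven hG P
  have hy1 : y ≠ 1 := fun e => by rw [e, orderOf_one] at hy; norm_num at hy
  have hxC : x ∈ Cs (P : Subgroup G) := Small.mem_centralizer_of_commute_prime hP hyP hy1
    (mem_Cg.1 hyC).symm
  have he := Subgroup.eq_of_le_of_card_ge (GraphSimple.le_centralizer_of_cyclic_prime hP)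
    (by rw [hP]; exact (eleven_data hG P).2.le)
  exact h (dvd_of_eq (Small.orderOf_eq_of_mem_prime hP (he.symm.le hxC) hx).symm)

/-- A small group of prime power order has a normaliser of order prime to eleven. -/
theorem not_eleven_Ng {A : Subgroup G} (h1 : Nat.card A ≠ 1) (h11 : ¬ 11 ∣ Nat.card A)
    (hmod : ∀ d, d ∣ Nat.card A → d % 11 = Nat.card A % 11 → d = Nat.card A) :
    ¬ 11 ∣ Nat.card (Ng A) := by
  intro h'
  obtain ⟨y, hyN, hy⟩ := Small.Fusion.exists_orderOf (H := Ng A) (show Nat.Prime 11 by norm_num) h'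
  have hc := GraphSimple.le_centralizer_of_mod (p := 11) (H := Subgroup.zpowers y) (Q := A)
    (IsPGroup.of_card (n := 1) (by rw [Nat.card_zpowers, hy, pow_one])) (Subgroup.zpowers_le.2 hyN) hmod
  obtain ⟨a, haA, ha1⟩ := exists_ne_one_of_ne_bot (A := A) (fun e => h1 (by rw [e, Subgroup.card_bot]))
  refine not_eleven_Cg' hG ha1 (fun h => h11 (h.trans (Subgroup.orderOf_dvd_natCard A haA))) ?_
  have : y ∈ Cg a := mem_Cg.2 (mem_Cs.1 (hc haA) y (Subgroup.mem_zpowers y))
  exact hy ▸ Subgroup.orderOf_dvd_natCard _ this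

/-- No involution normalises a Sylow 11-subgroup. -/
theorem invol_not_conj_N11 (P : Sylow 11 G) (t : G) (ht : orderOf t = 2) :
    ¬ ∃ u : G, u ∈ Ng (P : Subgroup G) ∧ IsConj t u := by
  rintro ⟨u, hu, hc⟩
  obtain ⟨c, rfl⟩ := isConj_iff.1 hc
  have h := Subgroup.orderOf_dvd_natCard _ hu
  rw [orderOf_conj', ht, (eleven_data hG P).1] at h
  norm_num at h

end CfsgLib.MTwelveUnique
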