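import Cfsg.Agent.MTwelveUnique.Model

set_option autoImplicit false

/-!
Configurations consisting of an involution centralizer `C₂ × S₅` and an element of order three
outside it, and the meaning of words in such a configuration.
-/

namespace CfsgLib.MTwelveUnique

open CfsgLib.CosetEnum

/-- A configuration. -/
structure Frame (G : Type*) [Group G] where
  ι : Mdl →* G
  g : G
  inj : Function.Injective ι
  range_eq : ι.range = Subgroup.centralizer {ι mw}
  cube : g ^ 3 = 1
  conj_gen : ∀ ab ∈ gGen, g⁻¹ * ι ab.1 * g = ι ab.2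
  inClass_of_isConj : ∀ m, IsConj (ι mw) (ι m) → InClass m

namespace Frame

variable {G : Type*} [Group G] (F : Frame G)

/-- Letters. -/
def gl (x : ℕ) : G := if x = 8 then F.g else if x = 9 then F.g⁻¹ else F.ι (letM x)

theorem gl_eps : F.gl 12 = 1 := by simp [gl, letM]

theorem gl_iv : ∀ x, x < 12 → F.gl (Nat.xor x 1) = (F.gl x)⁻¹ := by
  intro x hx
  have hinv : ∀ m : Mdl, m = m⁻¹ → F.ι m = (F.ι m)⁻¹ := fun m hm => by
    rw [← map_inv, ← hm]
  have hp : mp = mp⁻¹ := by decide +kernel
  have hq : mq = mq⁻¹ := by decide +kernel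
  have hr : mr = mr⁻¹ := by decide +kernel
  have hs : ms = ms⁻¹ := by decide +kernel
  have hw : mw = mw⁻¹ := by decide +kernel
  interval_cases x
  · exact hinv _ hp
  · exact hinv _ hp
  · exact hinv _ hq
  · exact hinv _ hq
  · exact hinv _ hr
  · exact hinv _ hr
  · exact hinv _ hs
  · exact hinv _ hs
  · simp [gl, show Nat.xor 8 1 = 9 from rfl]
  · simp [gl, show Nat.xor 9 1 = 8 from rfl]
  · exact hinv _ hw
  · exact hinv _ hw

theorem prodw_model (w : List ℕ) (h : ∀ x ∈ w, x ≠ 8 ∧ x ≠ 9) :
    prodw F.gl w = F.ι (wordM w) := by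
  induction w with
  | nil => simp [prodw, wordM]
  | cons x w ih =>
    have hx := h x List.mem_cons_self
    rw [prodw_cons, ih fun y hy => h y (List.mem_cons_of_mem x hy)]
    simp [gl, hx.1, hx.2, wordM]

theorem conj_pair : ∀ ab ∈ gPairs, F.g⁻¹ * F.ι ab.1 * F.g = F.ι ab.2 := by
  have key : ∀ L : List (Mdl × Mdl), (∀ ab ∈ L, F.g⁻¹ * F.ι ab.1 * F.g = F.ι ab.2) →
      F.g⁻¹ * F.ι L.prod.1 * F.g = F.ι L.prod.2 := by
    intro L
    induction L with
    | nil => intro _; simp
    | cons a L ih =>
      intro h
      have h1 := h a List.mem_cons_self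
      have h2 := ih fun b hb => h b (List.mem_cons_of_mem a hb)
      rw [List.prod_cons, Prod.fst_mul, Prod.snd_mul, map_mul, map_mul, ← h1, ← h2]
      group
  intro ab hab
  simp only [gPairs, List.mem_map] at hab
  obtain ⟨l, -, rfl⟩ := hab
  refine key _ fun cd hcd => ?_
  obtain ⟨i, -, rfl⟩ := List.mem_map.mp hcd
  rcases Nat.lt_or_ge i gGen.length with hi | hi
  · rw [List.getD_eq_getElem _ _ hi]
    exact F.conj_gen _ (List.getElem_mem hi)
  · rw [List.getD_eq_default _ _ hi]
    simp

theorem stepConj_sound {x : ℕ} {m m' : Mdl} (h : stepConj x m = some m') :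
    (F.gl x)⁻¹ * F.ι m * F.gl x = F.ι m' := by
  unfold stepConj at h
  split at h
  · rename_i hx
    subst hx
    simp only [Option.map_eq_some_iff] at h
    obtain ⟨ab, hf, rfl⟩ := h
    have hm : ab.1 = m := by simpa using List.find?_some hf
    have := F.conj_pair ab (List.mem_of_find?_eq_some hf)
    rw [hm] at this
    simpa [gl] using this
  · split at h
    · rename_i hx
      subst hx
      simp only [Option.map_eq_some_iff] at h
      obtain ⟨ab, hf, rfl⟩ := h
      have hm : ab.2 = m := by simpa using List.find?_some hf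
      have := F.conj_pair ab (List.mem_of_find?_eq_some hf)
      rw [hm] at this
      simp [gl, ← this, mul_assoc]
    · split at h
      · rename_i h8 h9 _
        simp only [Option.some.injEq] at h
        subst h
        simp [gl, h8, h9]
      · simp at h

theorem conjWord_sound : ∀ (w : List ℕ) {m m' : Mdl}, conjWord w m = some m' →
    (prodw F.gl w)⁻¹ * F.ι m * prodw F.gl w = F.ι m' := by
  intro w
  induction w with
  | nil =>
    intro m m' h
    simp only [conjWord, Option.some.injEq] at h
    subst h
    simp [prodw]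
  | cons x w ih =>
    intro m m' h
    simp only [conjWord, Option.bind_eq_some_iff] at h
    obtain ⟨m₁, h1, h2⟩ := h
    rw [← ih h2, ← F.stepConj_sound h1, prodw_cons]
    group

/-- Letters occurring in the words of the certificates. -/
def goodLetter (x : ℕ) : Bool := x == 0 || x == 2 || x == 4 || x == 6 || x == 8 || x == 9 || x == 10

theorem prodw_invW : ∀ w : List ℕ, w.all goodLetter = true →
    prodw F.gl (invW w) = (prodw F.gl w)⁻¹ := by
  intro w
  induction w with
  | nil => intro _; simp [invW, prodw]
  | cons x w ih =>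
    intro h
    simp only [List.all_cons, Bool.and_eq_true] at h
    have e : invW (x :: w) = invW w ++ [if x = 8 then 9 else if x = 9 then 8 else x] := by
      simp [invW]
    rw [e, prodw_append, ih h.2, prodw_cons, prodw_cons, prodw_nil, mul_one, mul_inv_rev]
    congr 1
    obtain ⟨hx, -⟩ := h
    simp only [goodLetter, Bool.or_eq_true, beq_iff_eq] at hx
    have h8 : (F.gl 8)⁻¹ = F.gl 9 := by simp [gl]
    rcases hx with (((((rfl | rfl) | rfl) | rfl) | rfl) | rfl) | rfl
    · exact F.gl_iv 1 (by omega)
    · exact F.gl_iv 3 (by omega)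
    · exact F.gl_iv 5 (by omega)
    · exact F.gl_iv 7 (by omega)
    · simpa using h8.symm
    · simp [gl]
    · exact F.gl_iv 11 (by omega)

theorem mem_range_iff {x : G} : x ∈ F.ι.range ↔ x * F.ι mw = F.ι mw * x := by
  rw [F.range_eq, Subgroup.mem_centralizer_iff]
  constructor
  · exact fun h => (h _ rfl).symm
  · rintro h y rfl
    exact h.symm

end Frame

end CfsgLib.MTwelveUnique
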