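import Cfsg.Agent.MTwelveUnique.Lifts
import Cfsg.Agent.S4226
import Cfsg.Agent.S0144

/-!
A simple group of order 95040: facts about 3-subgroups used to find the configuration.
-/

set_option autoImplicit false

open scoped Pointwise
open MulAction

namespace CfsgLib.MTwelveUnique

open CfsgLib.MElevenUnique (Cg Ng Cs fixCard mem_Cg mem_Cs Cs_le_Ng inCard inCard_spec)

variable {G : Type*} [Group G] [Finite G] [Fact (Nat.Prime 3)]

/-- A non-commutative group of order 27: the centre has order three, cubes and commutators are central. -/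
theorem twentyseven_facts {T : Subgroup G} (hT : Nat.card T = 27) (hne : ∃ a ∈ T, ∃ b ∈ T, a * b ≠ b * a) :
    Nat.card (Subgroup.center T) = 3 ∧
      ∀ a b : T, a * b * a⁻¹ * b⁻¹ ∈ Subgroup.center T := by
  have hT' : Nat.card T = 3 ^ 3 := hT
  have hnc : ¬ IsMulCommutative T := by
    intro h
    obtain ⟨a, ha, b, hb, hab⟩ := hne
    exact hab (congrArg Subtype.val (h.is_comm.comm (⟨a, ha⟩ : T) ⟨b, hb⟩))
  obtain ⟨k, hk0, hk⟩ := IsPGroup.card_center_eq_prime_pow hT' (by norm_num)
  have h1 := (Subgroup.center T).index_mul_card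
  rw [hT, hk, Subgroup.index_eq_card] at h1
  have hk3 : k ≤ 3 := by
    by_contra hgt
    have := Nat.pow_le_pow_right (show 1 ≤ 3 by norm_num) (show 4 ≤ k by omega)
    have h2 := Nat.card_pos (α := T ⧸ Subgroup.center T)
    nlinarith
  have hcyc : ¬ IsCyclic (T ⧸ Subgroup.center T) := fun h => hnc
    (by haveI := h; exact isMulCommutative_of_isCyclic_quotient_center_self T)
  have hk1 : k = 1 := by
    interval_cases k
    · rfl
    · exact absurd (isCyclic_of_prime_card (p := 3) (by norm_num at h1 ⊢; omega)) hcyc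
    · haveI : Subsingleton (T ⧸ Subgroup.center T) :=
        (Nat.card_eq_one_iff_unique.1 (by norm_num at h1 ⊢; omega)).1
      exact absurd isCyclic_of_subsingleton hcyc
  subst hk1
  refine ⟨by rw [hk, pow_one], fun a b => ?_⟩
  have hq : Nat.card (T ⧸ Subgroup.center T) = 3 ^ 2 := by norm_num at h1 ⊢; omega
  have hcomm := (IsPGroup.isMulCommutative_of_card_eq_prime_sq (p := 3) hq).is_comm.comm
  rw [← QuotientGroup.eq_one_iff, QuotientGroup.mk_mul, QuotientGroup.mk_mul, QuotientGroup.mk_mul,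
    QuotientGroup.mk_inv, QuotientGroup.mk_inv, hcomm (a : T ⧸ Subgroup.center T) b,
    mul_inv_cancel_right, mul_inv_cancel]

/-- Cubes are central in a non-commutative group of order 27. -/
theorem cube_mem_center {T : Subgroup G} (hT : Nat.card T = 27)
    (hne : ∃ a ∈ T, ∃ b ∈ T, a * b ≠ b * a) (n : T) : n ^ 3 ∈ Subgroup.center T := by
  obtain ⟨hc, hcomm⟩ := twentyseven_facts hT hne
  rw [Subgroup.mem_center_iff]
  intro g
  set c := g * n * g⁻¹ * n⁻¹ with hc_def
  have hcZ : c ∈ Subgroup.center T := hcomm g n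
  have hc3 : c ^ 3 = 1 := orderOf_dvd_iff_pow_eq_one.1 (hc ▸ Subgroup.orderOf_dvd_natCard _ hcZ)
  have hcn : Commute c n := ((Subgroup.mem_center_iff.1 hcZ n)).symm
  have h : g * n ^ 3 * g⁻¹ = n ^ 3 := by
    rw [← conj_pow, show g * n * g⁻¹ = c * n by rw [hc_def]; group, hcn.mul_pow, hc3, one_mul]
  exact mul_inv_eq_iff_eq_mul.1 h

/-- In a simple group a non-commutative Sylow subgroup of order 27 is not self-normalising. -/
theorem Ng_ne_self [IsSimpleGroup G] (h2 : 2 ∣ Nat.card G) (T : Sylow 3 G)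
    (hT : Nat.card (T : Subgroup G) = 27)
    (hne : ∃ a ∈ (T : Subgroup G), ∃ b ∈ (T : Subgroup G), a * b ≠ b * a) :
    Nat.card (Ng (T : Subgroup G)) ≠ 27 := by
  haveI := Fact.mk Nat.prime_two
  intro hN
  have hcl : (T : Subgroup G).lowerCentralSeries (3 - 1) = ⊥ := by
    obtain ⟨-, hcomm⟩ := twentyseven_facts hT hne
    show ⁅⁅(T : Subgroup G), (T : Subgroup G)⁆, (T : Subgroup G)⁆ = ⊥
    rw [Subgroup.commutator_eq_bot_iff_le_centralizer, Subgroup.commutator_le]
    intro a ha b hb
    rw [Subgroup.mem_centralizer_iff]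
    intro x hx
    exact congrArg Subtype.val (Subgroup.mem_center_iff.1 (hcomm ⟨a, ha⟩ ⟨b, hb⟩) ⟨x, hx⟩)
  have h := Cfsg.Agent.S4226.result T hcl
  have hbot : Cfsg.pResidualOf 3 (Ng (T : Subgroup G)) = ⊥ := by
    unfold Cfsg.pResidualOf Cfsg.pResidual
    rw [Subgroup.map_eq_bot_iff]
    refine le_trans ?_ bot_le
    rw [Subgroup.closure_le]
    intro g hg
    have hd : orderOf g ∣ 3 ^ 3 := by
      have := orderOf_dvd_natCard g
      change _ ∣ Nat.card (Ng (T : Subgroup G)) at this
      rw [hN] at this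
      exact this
    rw [SetLike.mem_coe, Subgroup.mem_bot, ← orderOf_eq_one_iff]
    exact Nat.eq_one_of_dvd_coprimes (Nat.Coprime.pow_right 3 hg) dvd_rfl hd
  have htop : Cfsg.pResidual 3 G = ⊤ := by
    have hn : (Cfsg.pResidual 3 G).Normal := by
      refine ⟨fun x hx g => ?_⟩
      have : (Cfsg.pResidual 3 G).map (MulAut.conj g).toMonoidHom ≤ Cfsg.pResidual 3 G := by
        unfold Cfsg.pResidual
        rw [MonoidHom.map_closure, Subgroup.closure_le]
        rintro _ ⟨y, hy, rfl⟩
        refine Subgroup.subset_closure ?_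
        show Nat.Coprime (orderOf (g * y * g⁻¹)) 3
        rw [orderOf_conj']
        exact hy
      exact this ⟨x, hx, rfl⟩
    refine hn.eq_bot_or_eq_top.resolve_left fun e => ?_
    obtain ⟨t, ht⟩ := exists_prime_orderOf_dvd_card' (G := G) 2 h2
    have h1 : t ∈ Cfsg.pResidual 3 G := Subgroup.subset_closure (by
      show Nat.Coprime (orderOf t) 3
      rw [ht]; norm_num)
    rw [e, Subgroup.mem_bot] at h1
    rw [h1, orderOf_one] at ht
    norm_num at ht
  rw [hbot, htop, top_inf_eq] at h
  change ⊥ = Ng (T : Subgroup G) at h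
  rw [← h, Subgroup.card_bot] at hN
  norm_num at hN

/-- A 3-group of order 27 acting on a 2-group so that each non-trivial element has the same stabiliser
of order three leaves `1` modulo nine points. -/
theorem card_mod_nine {T A : Subgroup G} {y : G} (hT : Nat.card T = 27) (hy : orderOf y = 3) (hyT : y ∈ T)
    (hn : T ≤ Ng A) (hyA : ∀ a ∈ A, Commute y a)
    (hsemi : ∀ x ∈ T, ∀ a ∈ A, a ≠ 1 → Commute x a → x ∈ Subgroup.zpowers y) :
    Nat.card A % 9 = 1 := by
  classical
  letI : MulAction T A :=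
    MulAction.compHom A ((A.normalizerMonoidHom).comp (Subgroup.inclusion hn))
  have hs : ∀ (x : T) (a : A), ((x • a : A) : G) = x * a * (x : G)⁻¹ := fun x a => rfl
  haveI := Fintype.ofFinite A
  haveI := Fintype.ofFinite T
  have hfix : ∀ x : T, Nat.card (fixedBy A x) = if (x : G) ∈ Subgroup.zpowers y then Nat.card A else 1 := by
    intro x
    have hmem : ∀ a : A, x • a = a ↔ Commute (x : G) a := fun a => by
      rw [Subtype.ext_iff, hs]
      exact mul_inv_eq_iff_eq_mul
    split_ifs with hx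
    · refine Nat.card_congr (Equiv.subtypeUnivEquiv fun a => (hmem a).2 ?_)
      obtain ⟨i, hi⟩ := hx
      rw [← hi]
      exact (hyA a a.2).zpow_left i
    · rw [Nat.card_eq_one_iff_unique]
      refine ⟨⟨fun a b => ?_⟩, ⟨⟨1, (hmem 1).2 (Commute.one_right _)⟩⟩⟩
      have : ∀ c : fixedBy A x, ((c : A) : G) = 1 := fun c => by
        by_contra hc
        exact hx (hsemi x x.2 _ (c : A).2 hc ((hmem c).1 c.2))
      exact Subtype.ext (Subtype.ext ((this a).trans (this b).symm))
  have hsum := MElevenUnique.card_dvd_sum_fix (X := A) (G := T) ⊤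
  rw [Subgroup.card_top, hT] at hsum
  rw [show (∑ a : (⊤ : Subgroup T), fixCard A (a : T)) = ∑ x : T, fixCard A x from
    Fintype.sum_equiv Subgroup.topEquiv.toEquiv _ _ fun _ => rfl] at hsum
  simp only [fixCard, hfix] at hsum
  rw [Finset.sum_ite, Finset.sum_const, Finset.sum_const, smul_eq_mul, smul_eq_mul, mul_one] at hsum
  have h3 : (Finset.univ.filter fun x : T => (x : G) ∈ Subgroup.zpowers y).card = 3 := by
    rw [← hy, ← Nat.card_zpowers, ← Fintype.card_subtype, ← Nat.card_eq_fintype_card]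
    exact Nat.card_congr
      { toFun := fun x => ⟨x.1.1, x.2⟩
        invFun := fun z => ⟨⟨z.1, (Subgroup.zpowers_le.2 hyT) z.2⟩, z.2⟩
        left_inv := fun _ => rfl
        right_inv := fun _ => rfl }
  have h24 := Finset.card_filter_add_card_filter_not (s := (Finset.univ : Finset T))
    (fun x : T => (x : G) ∈ Subgroup.zpowers y)
  rw [h3, Finset.card_univ, ← Nat.card_eq_fintype_card, hT] at h24
  rw [h3, show (Finset.univ.filter fun x : T => ¬ (x : G) ∈ Subgroup.zpowers y).card = 24 by omega] at hsum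
  omega

end CfsgLib.MTwelveUnique
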