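import Cfsg.Agent.MTwelveUnique.CentreClass
import Cfsg.Agent.MTwelveUnique.Three
import Cfsg.Agent.MTwelveUnique.Frame

/-!
A simple group of order 95040 contains a configuration.
-/

set_option autoImplicit false
set_option maxRecDepth 8000
set_option synthInstance.maxSize 5000

open scoped Pointwise
open MulAction

namespace CfsgLib.MTwelveUnique

open CfsgLib.MElevenUnique (Cg Ng Cs mem_Cg mem_Cs Cs_le_Ng card_Cg_of_isConj)

/-- The four group centralising `mr * ms`. -/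
def fourModel : Subgroup Mdl where
  carrier := {n | n = 1 ∨ n = mw ∨ n = mp ∨ n = mw * mp}
  one_mem' := Or.inl rfl
  mul_mem' := by
    rintro a b (rfl | rfl | rfl | rfl) (rfl | rfl | rfl | rfl) <;>
      simp only [Set.mem_setOf_eq] <;> decide +kernel
  inv_mem' := by
    rintro a (rfl | rfl | rfl | rfl) <;> simp only [Set.mem_setOf_eq] <;> decide +kernel

theorem mem_fourModel {n : Mdl} : n ∈ fourModel ↔ n = 1 ∨ n = mw ∨ n = mp ∨ n = mw * mp := Iff.rfl

theorem card_fourModel : Nat.card fourModel = 4 := by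
  have h : (fourModel : Set Mdl) = {1, mw, mp, mw * mp} := rfl
  rw [← SetLike.coe_sort_coe, h, Nat.card_coe_set_eq, Set.ncard_eq_toFinset_card']
  decide +kernel

theorem four_comm : ∀ a b : Mdl, (a = 1 ∨ a = mw ∨ a = mp ∨ a = mw * mp) →
    (b = 1 ∨ b = mw ∨ b = mp ∨ b = mw * mp) → a * b = b * a := by
  rintro a b (rfl | rfl | rfl | rfl) (rfl | rfl | rfl | rfl) <;> decide +kernel

theorem four_sq : ∀ a : Mdl, (a = 1 ∨ a = mw ∨ a = mp ∨ a = mw * mp) → a * a = 1 := by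
  rintro a (rfl | rfl | rfl | rfl) <;> decide +kernel

theorem four_my : ∀ a : Mdl, (a = 1 ∨ a = mw ∨ a = mp ∨ a = mw * mp) → a * (mr * ms) = mr * ms * a := by
  rintro a (rfl | rfl | rfl | rfl) <;> decide +kernel

theorem my_centraliser : ∀ n : Mdl, n * (mr * ms) = mr * ms * n →
    ∃ i < 3, n * (mr * ms) ^ i = 1 ∨ n * (mr * ms) ^ i = mw ∨ n * (mr * ms) ^ i = mp ∨
      n * (mr * ms) ^ i = mw * mp := by decide +kernel

theorem three_class : ∀ n : Mdl, n * n * n = 1 → n ≠ 1 → ∃ c : Mdl, c * n * c⁻¹ = mr * ms := by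
  decide +kernel

theorem odd_class : ∀ m : Mdl, m * m = 1 → Equiv.Perm.sign m.2 = -1 →
    ∃ c : Mdl, c * m * c⁻¹ = mp ∨ c * m * c⁻¹ = mw * mp := by decide +kernel

theorem x_candidates : ∀ m : Mdl, m * m = 1 → m * mp = mp * m → m * (mr * ms) * m = mr * ms * (mr * ms) →
    Equiv.Perm.sign m.2 = -1 ∨
      ∃ j < 3, m = (mr * ms) ^ j * (mp * mr) * ((mr * ms) ^ j)⁻¹ ∨
        m = mw * ((mr * ms) ^ j * (mp * mr) * ((mr * ms) ^ j)⁻¹) := by decide +kernel

theorem x_twisted : ∀ j < 3, ∀ i < 3,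
    Equiv.Perm.sign (mp * ((mr * ms) ^ i * (mw * ((mr * ms) ^ j * (mp * mr) * ((mr * ms) ^ j)⁻¹)) *
      ((mr * ms) ^ i)⁻¹)).2 = -1 ∧
    (mp * ((mr * ms) ^ i * (mw * ((mr * ms) ^ j * (mp * mr) * ((mr * ms) ^ j)⁻¹)) * ((mr * ms) ^ i)⁻¹)) *
      (mp * ((mr * ms) ^ i * (mw * ((mr * ms) ^ j * (mp * mr) * ((mr * ms) ^ j)⁻¹)) * ((mr * ms) ^ i)⁻¹))
      = 1 := by decide +kernel

theorem mdl_facts : mp * mp = 1 ∧ (mp * mr) * (mp * mr) = 1 ∧ mp * mr ≠ 1 ∧ mp ≠ 1 ∧ mw * mp ≠ 1 ∧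
    mw * mp ≠ mw ∧ mw * mp ≠ mp ∧ mp ≠ mw ∧ ¬ InClass (mp * mr) ∧
    (mr * ms) * (mr * ms) * (mr * ms) = 1 ∧ mr * ms ≠ 1 ∧
    (mp * mr) * mp = mp * (mp * mr) ∧ (mp * mr) * (mr * ms) * (mp * mr) = mr * ms * (mr * ms) := by
  decide +kernel

variable {G : Type*} [Group G] [Finite G] [IsSimpleGroup G] (hG : Nat.card G = 95040) {w : G}
  (hw : orderOf w = 2) (h240 : Nat.card (Cg w) = 240) (ι : Mdl →* G)
  (hι : Function.Injective ι) (hιw : ι mw = w) (hιr : ι.range = Cg w)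
include hG hw h240 hι hιw hιr

omit [Finite G] [IsSimpleGroup G] hG hw h240 hι hιw hιr in
theorem iota_comm {a b : Mdl} (h : a * b = b * a) : Commute (ι a) (ι b) := by
  show ι a * ι b = ι b * ι a
  rw [← map_mul, ← map_mul, h]

omit [Finite G] [IsSimpleGroup G] hG hw h240 hι in
theorem four_le : fourModel.map ι ≤ Cg w ⊓ Cg (ι (mr * ms)) := by
  rintro _ ⟨n, hn, rfl⟩
  exact ⟨hιr.le ⟨n, rfl⟩, mem_Cg.2 (iota_comm ι (four_my n hn)).eq⟩

omit [IsSimpleGroup G] hG hw h240 in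
theorem orderOf_my : orderOf (ι (mr * ms)) = 3 := by
  rw [orderOf_injective ι hι]
  refine orderOf_eq_prime (hp := ⟨Nat.prime_three⟩) ?_ mdl_facts.2.2.2.2.2.2.2.2.2.2.1
  rw [pow_succ, pow_two]
  exact mdl_facts.2.2.2.2.2.2.2.2.2.1

omit [Finite G] [IsSimpleGroup G] hG hw h240 in
theorem mem_Cg_inf {x : G} (hx : x ∈ Cg w) (hy : x ∈ Cg (ι (mr * ms))) :
    ∃ i < 3, x * ι (mr * ms) ^ i ∈ fourModel.map ι := by
  obtain ⟨n, rfl⟩ := hιr.ge hx
  obtain ⟨i, hi, h⟩ := my_centraliser n (hι (by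
    rw [map_mul ι n (mr * ms), map_mul ι (mr * ms) n]; exact mem_Cg.1 hy))
  exact ⟨i, hi, n * (mr * ms) ^ i, h, by rw [map_mul, map_pow]⟩

omit [IsSimpleGroup G] hG hw h240 in
theorem four_data : Nat.card (fourModel.map ι) = 4 ∧ w ∈ fourModel.map ι := by
  refine ⟨by rw [Subgroup.card_map_of_injective hι, card_fourModel], ?_⟩
  exact ⟨mw, Or.inr (Or.inl rfl), hιw⟩

/-- A 3-subgroup of `C(y)` normalised by the four group lies in `⟨y⟩`. -/
theorem le_zpowers_of_four {M : Subgroup G} (hMy : M ≤ Cg (ι (mr * ms))) (hyM : ι (mr * ms) ∈ M) {k : ℕ}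
    (hM : Nat.card M = 3 ^ k) (hn : fourModel.map ι ≤ Ng M) : M ≤ Subgroup.zpowers (ι (mr * ms)) := by
  haveI := Fact.mk Nat.prime_three
  haveI := Fact.mk Nat.prime_two
  set y := ι (mr * ms)
  set V := fourModel.map ι
  have hy : orderOf y = 3 := orderOf_my ι hι hιw hιr
  obtain ⟨hV, -⟩ := four_data ι hι hιw hιr
  haveI : IsMulCommutative V := ⟨⟨fun ⟨a, a', ha, ea⟩ ⟨b, b', hb, eb⟩ => Subtype.ext (by
    show a * b = b * a
    rw [← ea, ← eb]
    exact iota_comm ι (four_comm a' b' ha hb))⟩⟩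
  have hVsq : ∀ v ∈ V, v * v = 1 := by
    rintro _ ⟨a, ha, rfl⟩
    rw [← map_mul, four_sq a ha, map_one]
  have hcyc : ¬ IsCyclic V := by
    intro h
    obtain ⟨g, hg⟩ := h.exists_ofOrder_eq_natCard
    rw [← Subgroup.orderOf_coe, hV] at hg
    have := orderOf_dvd_of_pow_eq_one (n := 2) (show (g : G) ^ 2 = 1 by rw [pow_two]; exact hVsq g g.2)
    rw [hg] at this
    norm_num at this
  refine Coprime.le_of_forall_inf_centralizer_le hcyc hn ?_ fun a ha ha1 => ?_
  · rw [hV, hM, show 4 = 2 ^ 2 by norm_num]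
    exact Nat.Coprime.pow _ _ (by norm_num)
  have hao : orderOf a = 2 := orderOf_eq_prime (by rw [pow_two]; exact hVsq a ha) ha1
  have hVy : Cg y ⊓ V = V := inf_eq_right.2 fun v hv => (four_le ι hιw hιr hv).2
  have hya : y ∈ Cg a := mem_Cg.2 (mem_Cg.1 ((hVy.ge ha).1)).symm
  have h1 : Nat.card ↥(M ⊓ Cg a) ∣ 3 := by
    have hd : Nat.card ↥(M ⊓ Cg a) ∣ 3 ^ k := hM ▸ Subgroup.card_dvd_of_le inf_le_left
    obtain ⟨j, -, hj⟩ := (Nat.dvd_prime_pow Nat.prime_three).1 hd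
    have h9 := not_nine_dvd_Cg hG hao
    have hj1 : j ≤ 1 := by
      by_contra hgt
      refine h9 (dvd_trans ?_ (Subgroup.card_dvd_of_le (inf_le_right : M ⊓ Cg a ≤ _)))
      rw [hj]
      exact (show 9 = 3 ^ 2 by norm_num) ▸ pow_dvd_pow 3 (by omega)
    rw [hj]
    exact (pow_dvd_pow 3 hj1).trans (by norm_num)
  refine (Subgroup.eq_of_le_of_card_ge
    (Subgroup.zpowers_le.2 ⟨hyM, hya⟩ : Subgroup.zpowers y ≤ M ⊓ Cg a) ?_).ge
  rw [Nat.card_zpowers, hy]
  exact Nat.le_of_dvd (by norm_num) h1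

/-- The 3-part of `|C(y)|` is nine. -/
theorem not_27_dvd : ¬ 27 ∣ Nat.card (Cg (ι (mr * ms))) := by
  classical
  haveI := Fact.mk Nat.prime_three
  haveI := Fact.mk Nat.prime_two
  intro h27
  set y := ι (mr * ms) with hy_def
  have hy : orderOf y = 3 := orderOf_my ι hι hιw hιr
  set Y := Cg y
  have hyY : y ∈ Y := mem_Cg.2 rfl
  have hzY : Subgroup.zpowers y ≤ Y := Subgroup.zpowers_le.2 hyY
  have hYz : Y ≤ Cs (Subgroup.zpowers y) := by
    intro a ha
    refine mem_Cs.2 fun b hb => ?_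
    obtain ⟨i, rfl⟩ := hb
    exact ((show Commute a y from mem_Cg.1 ha).zpow_right i).eq.symm
  set V := fourModel.map ι
  obtain ⟨hV, hwV⟩ := four_data ι hι hιw hιr
  have hVY : V ≤ Y := fun v hv => (four_le ι hιw hιr hv).2
  haveI : ((Subgroup.zpowers y).subgroupOf Y).Normal :=
    normal_subgroupOf hzY (hYz.trans (Cs_le_Ng _))
  set π := QuotientGroup.mk' ((Subgroup.zpowers y).subgroupOf Y)
  have hd := Cg_three_dvd hG hy
  -- the quotient is soluble and not trivial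
  haveI hsolY : Group.IsSolvable Y :=
    CfsgLib.Characters.isSolvable_of_card_eq_primePow_mul 2 3 6 3 Nat.prime_two Nat.prime_three
      (by norm_num; exact hd)
  haveI hsolQ : Group.IsSolvable (Y ⧸ (Subgroup.zpowers y).subgroupOf Y) := inferInstance
  have hcardY : Nat.card (Y ⧸ (Subgroup.zpowers y).subgroupOf Y) * 3 = Nat.card Y := by
    rw [← Subgroup.index_eq_card, ← hy, ← Nat.card_zpowers, ← card_subgroupOf hzY]
    exact ((Subgroup.zpowers y).subgroupOf Y).index_mul_card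
  haveI : Nontrivial (Y ⧸ (Subgroup.zpowers y).subgroupOf Y) := by
    rw [← Finite.one_lt_card_iff_nontrivial]
    have := Nat.le_of_dvd Nat.card_pos h27
    change 27 ≤ Nat.card Y at this
    omega
  obtain ⟨D, hDn, hD1, hDab⟩ : ∃ D : Subgroup (Y ⧸ (Subgroup.zpowers y).subgroupOf Y),
      D.Normal ∧ D ≠ ⊥ ∧ ∀ a ∈ D, ∀ b ∈ D, a * b = b * a := by
    obtain ⟨n, hn⟩ := hsolQ.solvable
    induction n with
    | zero => exact absurd (show (⊤ : Subgroup _) = ⊥ from hn) top_ne_bot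
    | succ n ih =>
      by_cases hbot : derivedSeries (Y ⧸ (Subgroup.zpowers y).subgroupOf Y) n = ⊥
      · exact ih hbot
      · refine ⟨_, derivedSeries_normal _ n, hbot, fun a ha b hb => ?_⟩
        rw [derivedSeries_succ, Subgroup.commutator_eq_bot_iff_le_centralizer] at hn
        exact (Subgroup.mem_centralizer_iff.1 (hn ha) b hb).symm
  obtain ⟨q, hq, hqD⟩ := Nat.exists_prime_and_dvd (n := Nat.card D) (fun e => hD1 (Subgroup.card_eq_one.1 e))
  haveI := Fact.mk hq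
  let B₀ : Subgroup (Y ⧸ (Subgroup.zpowers y).subgroupOf Y) :=
    { carrier := {x | x ∈ D ∧ x ^ q = 1}
      one_mem' := ⟨one_mem D, one_pow q⟩
      mul_mem' := fun {a b} ha hb => ⟨mul_mem ha.1 hb.1, by
        rw [Commute.mul_pow (hDab a ha.1 b hb.1), ha.2, hb.2, one_mul]⟩
      inv_mem' := fun {a} ha => ⟨inv_mem ha.1, by rw [inv_pow, ha.2, inv_one]⟩ }
  haveI hB₀n : B₀.Normal := ⟨fun x hx g => ⟨hDn.conj_mem x hx.1 g, by
    rw [conj_pow, hx.2, mul_one, mul_inv_cancel]⟩⟩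
  have hB₀p : IsPGroup q B₀ := fun x => ⟨1, Subtype.ext (by rw [pow_one]; exact x.2.2)⟩
  obtain ⟨i, hi⟩ := IsPGroup.iff_card.1 hB₀p
  have hi0 : i ≠ 0 := by
    rintro rfl
    obtain ⟨⟨x, hxD⟩, hx⟩ := exists_prime_orderOf_dvd_card' (G := D) q hqD
    rw [← Subgroup.orderOf_coe] at hx
    simp only at hx
    have hmem : x ∈ B₀ := ⟨hxD, hx ▸ pow_orderOf_eq_one x⟩
    rw [Subgroup.card_eq_one.1 (show Nat.card B₀ = 1 by simpa using hi), Subgroup.mem_bot] at hmem
    rw [hmem, orderOf_one] at hx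
    exact hq.one_lt.ne hx
  -- its preimage
  set B := (B₀.comap π).map Y.subtype
  have hBY : B ≤ Y := Subgroup.map_subtype_le _
  have hB : Nat.card B = q ^ i * 3 := by
    rw [Subgroup.card_subtype]
    have h1 := (B₀.comap π).index_mul_card
    rw [Subgroup.index_comap_of_surjective _ (QuotientGroup.mk'_surjective _)] at h1
    have h2 := B₀.index_mul_card
    rw [hi] at h2
    rw [← hcardY, ← h2, mul_assoc] at h1
    exact Nat.eq_of_mul_eq_mul_left (Nat.pos_of_ne_zero Subgroup.index_ne_zero_of_finite) h1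
  have hyB : y ∈ B := ⟨⟨y, hyY⟩, by
    show π _ ∈ B₀
    rw [show π ⟨y, hyY⟩ = 1 from (QuotientGroup.eq_one_iff _).2 (Subgroup.mem_zpowers y)]
    exact one_mem _, rfl⟩
  have hYB : Y ≤ Ng B := by
    intro l hl
    refine mem_Ng_of_map_le ?_
    rintro _ ⟨_, ⟨m, hm, rfl⟩, rfl⟩
    exact ⟨⟨l, hl⟩ * m * (⟨l, hl⟩ : Y)⁻¹,
      ((inferInstance : B₀.Normal).comap π).conj_mem m hm (⟨l, hl⟩ : Y), rfl⟩
  have hq23 : q = 2 ∨ q = 3 := by
    have hq1728 : q ∣ 2 ^ 6 * 3 ^ 3 := by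
      refine ((dvd_mul_of_dvd_left (dvd_pow_self q hi0) 3).trans ?_)
      rw [← hB, show 2 ^ 6 * 3 ^ 3 = 1728 by norm_num]
      exact (Subgroup.card_dvd_of_le hBY).trans hd
    rcases hq.dvd_mul.1 hq1728 with h | h
    · exact Or.inl ((Nat.prime_dvd_prime_iff_eq hq Nat.prime_two).1 (hq.dvd_of_dvd_pow h))
    · exact Or.inr ((Nat.prime_dvd_prime_iff_eq hq Nat.prime_three).1 (hq.dvd_of_dvd_pow h))
  rcases hq23 with rfl | rfl
  swap
  · -- a normal 3-subgroup
    have hle := le_zpowers_of_four hG hw h240 ι hι hιw hιr hBY hyB (k := i + 1)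
      (by rw [hB, pow_succ]) (hVY.trans hYB)
    have hc := Subgroup.card_le_of_le hle
    rw [hB, Nat.card_zpowers, hy] at hc
    have := Nat.pow_le_pow_right (show 1 ≤ 3 by norm_num) (show 1 ≤ i by omega)
    omega
  -- a normal 2-subgroup `A`
  obtain ⟨A, hAB, -, hAc, hA3, hAm⟩ := exists_complement (p := 3) (a := 1) (L := B)
    (H := Subgroup.zpowers y) (Subgroup.zpowers_le.2 hyB) (by rw [Nat.card_zpowers, hy, pow_one])
    (by
      rw [hB]
      intro h
      have h' : 3 ∣ 2 ^ i := (Nat.mul_dvd_mul_iff_right (a := 3) (b := 2 ^ i) (c := 3) (by norm_num)).1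
        (by norm_num at h ⊢; exact h)
      exact absurd (Nat.prime_three.dvd_of_dvd_pow h') (by norm_num))
    (inf_le_left.trans (hBY.trans hYz))
  have hA : Nat.card A = 2 ^ i := by rw [hB] at hAc; omega
  have hYA : Y ≤ Ng A := le_Ng_of_all_mem hAB hA hYB fun x hx k hk => hAm x hx fun h3 =>
    absurd (Nat.prime_three.dvd_of_dvd_pow (h3.trans hk)) (by norm_num)
  obtain ⟨T, hyT, hTY, hT⟩ := exists_sylow_le (q := 3) (b := 3) hzY
    (IsPGroup.of_card (n := 1) (by rw [Nat.card_zpowers, hy, pow_one])) (by norm_num; exact h27)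
    (fun h => by
      have := h.trans (hd)
      norm_num at this)
  -- the action of `T` is semiregular
  have hsemi : ∀ x ∈ T, ∀ a ∈ A, a ≠ 1 → Commute x a → x ∈ Subgroup.zpowers y := by
    intro x hx a ha ha1 hc
    have had : orderOf a ∣ 2 ^ i := hA ▸ Subgroup.orderOf_dvd_natCard A ha
    obtain ⟨j, -, hj⟩ := (Nat.dvd_prime_pow Nat.prime_two).1 had
    have hj0 : j ≠ 0 := fun e => ha1 (orderOf_eq_one_iff.1 (by rw [hj, e, pow_zero]))
    set t := a ^ 2 ^ (j - 1) with ht_def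
    have ht : orderOf t = 2 := by
      rw [ht_def, orderOf_pow, hj, Nat.gcd_eq_right (pow_dvd_pow 2 (by omega)),
        Nat.pow_div (by omega) two_pos, show j - (j - 1) = 1 by omega, pow_one]
    have hty : y ∈ Cg t := mem_Cg.2 ((show Commute y a from
      (mem_Cg.1 ((hAB.trans hBY) ha)).symm).pow_right _).eq
    have hxt : x ∈ Cg t := mem_Cg.2 (hc.pow_right _).eq
    obtain ⟨k', -, hk'⟩ := (Nat.dvd_prime_pow Nat.prime_three).1
      (hT ▸ Subgroup.card_dvd_of_le (inf_le_left : T ⊓ Cg t ≤ T))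
    have hk1 : k' ≤ 1 := by
      by_contra hgt
      refine not_nine_dvd_Cg hG ht (dvd_trans ?_ (Subgroup.card_dvd_of_le (inf_le_right : T ⊓ Cg t ≤ _)))
      rw [hk']
      exact (show 9 = 3 ^ 2 by norm_num) ▸ pow_dvd_pow 3 (by omega)
    have he := Subgroup.eq_of_le_of_card_ge
      (Subgroup.zpowers_le.2 ⟨hyT (Subgroup.mem_zpowers y), hty⟩ : Subgroup.zpowers y ≤ T ⊓ Cg t)
      (by
        rw [Nat.card_zpowers, hy, hk']
        exact (Nat.pow_le_pow_right (by norm_num) hk1).trans_eq (pow_one 3))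
    exact he.ge ⟨hx, hxt⟩
  have hcomm : ∀ a ∈ A, Commute y a := fun a ha => (mem_Cg.1 ((hAB.trans hBY) ha)).symm
  have h9 := card_mod_nine (A := A) (by rw [hT]; norm_num) hy (hyT (Subgroup.mem_zpowers y))
    (hTY.trans hYA) hcomm hsemi
  rw [hA] at h9
  have hi6 : i ≤ 6 := by
    have h := (hA ▸ Subgroup.card_dvd_of_le (hAB.trans hBY)).trans hd
    by_contra hgt
    have := (pow_dvd_pow 2 (show 7 ≤ i by omega)).trans h
    norm_num at this
  have hi6' : i = 6 := by interval_cases i <;> first | rfl | omega | (norm_num at h9)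
  subst hi6'
  -- then `A` contains the four group and its centre is too small
  have hVA : V ≤ A := fun v hv => mem_of_normal_sylow (q := 2) (a := 6) (k := 2) (hAB.trans hBY) hYA hA
    (fun h => by
      have := h.trans hd
      norm_num at this) (hVY hv) (by
      have := Subgroup.orderOf_dvd_natCard V hv
      rw [hV] at this
      norm_num
      exact this)
  set Z := A ⊓ Cs A
  have hTZ : T ≤ Ng Z := by
    refine le_Ng_inf (hTY.trans hYA) fun t ht => ?_
    refine mem_Ng_of_map_le ?_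
    rintro _ ⟨z, hz, rfl⟩
    show t * z * t⁻¹ ∈ Cs A
    rw [mem_Cs]
    intro a ha
    have h := mem_Cs.1 hz _ (conj_mem_of_mem_Ng' ((hTY.trans hYA) ht) ha)
    calc a * (t * z * t⁻¹) = t * ((t⁻¹ * a * t) * z) * t⁻¹ := by group
      _ = t * (z * (t⁻¹ * a * t)) * t⁻¹ := by rw [h]
      _ = t * z * t⁻¹ * a := by group
  have hZ9 := card_mod_nine (A := Z) (by rw [hT]; norm_num) hy (hyT (Subgroup.mem_zpowers y)) hTZ
    (fun a ha => hcomm a ha.1) fun x hx a ha => hsemi x hx a ha.1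
  have hZV : Z ≤ V := by
    intro z hz
    obtain ⟨i', hi', hz'⟩ := mem_Cg_inf ι hι hιw hιr (mem_Cg.2 (mem_Cs.1 hz.2 w (hVA hwV)).symm)
      (hBY (hAB hz.1))
    have hyA : ι (mr * ms) ^ i' ∈ A := by
      have := A.mul_mem (A.inv_mem hz.1) (hVA hz')
      simpa using this
    have hone : ι (mr * ms) ^ i' = 1 := by
      rw [← orderOf_eq_one_iff]
      refine Nat.eq_one_of_dvd_coprimes (show Nat.Coprime (2 ^ 6) 3 by norm_num)
        (hA ▸ Subgroup.orderOf_dvd_natCard A hyA) (orderOf_dvd_of_pow_eq_one ?_)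
      rw [← pow_mul, mul_comm, pow_mul, ← hy, pow_orderOf_eq_one, one_pow]
    rwa [hone, mul_one] at hz'
  have hZ4 := Subgroup.card_le_of_le hZV
  rw [hV] at hZ4
  have hZ2 : 2 ∣ Nat.card Z := by
    obtain ⟨z, hzA, hz, hzC⟩ := Small.Fusion.exists_central_involution (IsPGroup.of_card hA)
      (Subgroup.le_normalizer (H := A)) (by rw [hA]; norm_num)
    exact hz ▸ Subgroup.orderOf_dvd_natCard Z
      ⟨hzA, mem_Cs.2 fun a ha => mem_Cg.1 (hzC ha)⟩
  have := Nat.card_pos (α := Z)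
  omega

omit [IsSimpleGroup G] hG hw h240 in
/-- The elements of order three of `C(w)` are conjugate to `y` inside `C(w)`. -/
theorem exists_conj_y {u : G} (hu : orderOf u = 3) (huw : u ∈ Cg w) :
    ∃ c ∈ Cg w, c * u * c⁻¹ = ι (mr * ms) := by
  obtain ⟨n, hn⟩ := hιr.ge huw
  have hn3 : n * n * n = 1 := hι (by
    rw [map_mul, map_mul, map_one, hn, ← pow_two, ← pow_succ, show 2 + 1 = orderOf u by rw [hu],
      pow_orderOf_eq_one])
  have hn1 : n ≠ 1 := fun e => by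
    rw [e, map_one] at hn
    rw [← hn, orderOf_one] at hu
    norm_num at hu
  obtain ⟨c, hc⟩ := three_class n hn3 hn1
  exact ⟨ι c, hιr.le ⟨c, rfl⟩, by rw [← hn, ← map_inv, ← map_mul, ← map_mul, hc]⟩

omit hι hιw hιr hw h240 in
/-- Two elements of order three centralised by an involution with centraliser of order 192 have
centralisers of the same order. -/
theorem card_Cg_eq_of_192 {j u v : G} (hj : Nat.card (Cg j) = 192) (hu : orderOf u = 3) (hv : orderOf v = 3)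
    (huj : u ∈ Cg j) (hvj : v ∈ Cg j) : Nat.card (Cg u) = Nat.card (Cg v) := by
  haveI := Fact.mk Nat.prime_three
  have hu' : orderOf (⟨u, huj⟩ : Cg j) = 3 := by rw [← Subgroup.orderOf_coe]; exact hu
  have hv' : orderOf (⟨v, hvj⟩ : Cg j) = 3 := by rw [← Subgroup.orderOf_coe]; exact hv
  obtain ⟨P, hP⟩ := exists_sylow_mem hu'
  obtain ⟨P', hP'⟩ := exists_sylow_mem hv'
  have hc : ∀ R : Sylow 3 (Cg j), Nat.card (R : Subgroup (Cg j)) = 3 := fun R =>
    (Small.card_sylow_eq (k := 1) (m := 64) (by rw [hj]; norm_num) (by norm_num) R).trans (by norm_num)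
  obtain ⟨c, hc'⟩ := MulAction.exists_smul_eq (Cg j) P P'
  have hu1 : (⟨u, huj⟩ : Cg j) ≠ 1 := fun e => by rw [e, orderOf_one] at hu'; norm_num at hu'
  have hv1 : (⟨v, hvj⟩ : Cg j) ≠ 1 := fun e => by rw [e, orderOf_one] at hv'; norm_num at hv'
  have hmem : (c * ⟨u, huj⟩ * c⁻¹ : Cg j) ∈ (P' : Subgroup (Cg j)) := by
    rw [← hc', Sylow.coe_subgroup_smul, Subgroup.mem_pointwise_smul_iff_inv_smul_mem, ← map_inv]
    simp only [MulAut.smul_def, MulAut.conj_apply, inv_inv]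
    simpa [mul_assoc] using hP
  rw [← Small.eq_zpowers_of_mem_prime (hc P') hP' hv1, ← mem_powers_iff_mem_zpowers] at hmem
  obtain ⟨i, hi⟩ := hmem
  simp only at hi
  have hi' : v ^ i = (c : G) * u * (c : G)⁻¹ := by
    simpa using congrArg (fun x : Cg j => (x : G)) hi
  rw [← MElevenUnique.card_Cg_conj u (c : G), ← hi']
  have hcop : Nat.Coprime i 3 := by
    rw [Nat.coprime_comm, Nat.prime_three.coprime_iff_not_dvd]
    intro h3
    obtain ⟨r, rfl⟩ := h3
    rw [pow_mul, ← hv, pow_orderOf_eq_one, one_pow, eq_comm, conj_eq_one_iff] at hi'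
    rw [hi', orderOf_one] at hu
    norm_num at hu
  congr 2
  refine le_antisymm (fun x hx => ?_) fun x hx => mem_Cg.2 ((show Commute x v from mem_Cg.1 hx).pow_right i).eq
  obtain ⟨m, hm⟩ := exists_pow_eq_self_of_coprime (x := v) (hv.symm ▸ hcop)
  rw [mem_Cg, ← hm]
  exact ((show Commute x (v ^ i) from mem_Cg.1 hx).pow_right m).eq

/-- The element `g` of the configuration, up to the adjustment of the last generator. -/
theorem exists_three_element : ∃ n : G, n ^ 3 = 1 ∧ Commute n (ι (mr * ms)) ∧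
    n⁻¹ * w * n = ι mp ∧ n⁻¹ * ι mp * n = ι (mw * mp) := by
  classical
  haveI := Fact.mk Nat.prime_three
  haveI := Fact.mk Nat.prime_two
  set y := ι (mr * ms) with hy_def
  have hy : orderOf y = 3 := orderOf_my ι hι hιw hιr
  have hy1 : y ≠ 1 := fun e => by rw [e, orderOf_one] at hy; norm_num at hy
  set Y := Cg y
  have h27 := not_27_dvd hG hw h240 ι hι hιw hιr
  rw [← hy_def] at h27
  have h9 : 9 ∣ Nat.card Y := nine_dvd_Cg (fun T => card_sylow_three' hG T) hy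
  obtain ⟨T₁, hT₁y, hT₁Y, hT₁⟩ := exists_sylow_le (q := 3) (b := 2)
    (Subgroup.zpowers_le.2 (mem_Cg.2 rfl) : Subgroup.zpowers y ≤ Y)
    (IsPGroup.of_card (n := 1) (by rw [Nat.card_zpowers, hy, pow_one])) (by norm_num; exact h9)
    (by norm_num; exact h27)
  obtain ⟨T, hT₁T⟩ := (IsPGroup.of_card hT₁).exists_le_sylow
  have hT := card_sylow_three' hG T
  have hyT : y ∈ (T : Subgroup G) := hT₁T (hT₁y (Subgroup.mem_zpowers y))
  have hyne : ∃ b ∈ (T : Subgroup G), b * y ≠ y * b := by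
    by_contra hc
    push Not at hc
    exact h27 (hT ▸ Subgroup.card_dvd_of_le (show (T : Subgroup G) ≤ Y from fun a ha =>
      mem_Cg.2 (hc a ha)))
  have hne : ∃ a ∈ (T : Subgroup G), ∃ b ∈ (T : Subgroup G), a * b ≠ b * a :=
    hyne.elim fun b hb => ⟨b, hb.1, y, hyT, hb.2⟩
  have hyZ : (⟨y, hyT⟩ : (T : Subgroup G)) ∉ Subgroup.center (T : Subgroup G) := fun hz => by
    obtain ⟨b, hb, hby⟩ := hyne
    exact hby (congrArg Subtype.val (Subgroup.mem_center_iff.1 hz ⟨b, hb⟩))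
  obtain ⟨hZ3, -⟩ := twentyseven_facts hT hne
  -- an involution centralising the centre of `T`
  obtain ⟨⟨u₀, hu₀Z⟩, hu₀⟩ := exists_prime_orderOf_dvd_card' (G := Subgroup.center (T : Subgroup G)) 3
    (dvd_of_eq hZ3.symm)
  rw [← Subgroup.orderOf_coe, ← Subgroup.orderOf_coe] at hu₀
  simp only at hu₀
  set u : G := (u₀ : G) with hu_def
  have hu1 : u ≠ 1 := fun e => by rw [e, orderOf_one] at hu₀; norm_num at hu₀
  have hTu : 27 ∣ Nat.card (Cg u) := hT ▸ Subgroup.card_dvd_of_le (fun a ha => mem_Cg.2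
    (congrArg Subtype.val (Subgroup.mem_center_iff.1 hu₀Z ⟨a, ha⟩)))
  have hN4 : 4 ∣ Nat.card (Ng (T : Subgroup G)) := by
    rcases card_Ng_three hG T with h | h | h | h
    · exact absurd h (Ng_ne_self (by rw [hG]; norm_num) T hT hne)
    all_goals rw [h]; norm_num
  obtain ⟨R, hRN, hR⟩ := Small.exists_two_subgroup_le (H := Ng (T : Subgroup G)) (k := 2) (by simpa using hN4)
  have hval : ∀ r ∈ R, r * u * r⁻¹ = u ∨ r * u * r⁻¹ = u⁻¹ := by
    intro r hr
    have hrT := conj_mem_of_mem_Ng (hRN hr) u₀.2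
    have hmem : (⟨r * u * r⁻¹, hrT⟩ : (T : Subgroup G)) ∈ Subgroup.center (T : Subgroup G) := by
      rw [Subgroup.mem_center_iff]
      intro a
      refine Subtype.ext ?_
      show (a : G) * (r * u * r⁻¹) = r * u * r⁻¹ * a
      have h := congrArg Subtype.val
        (Subgroup.mem_center_iff.1 hu₀Z ⟨r⁻¹ * a * r, conj_mem_of_mem_Ng' (hRN hr) a.2⟩)
      simp only [Subgroup.coe_mul, ← hu_def] at h
      calc (a : G) * (r * u * r⁻¹) = r * ((r⁻¹ * a * r) * u) * r⁻¹ := by group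
        _ = r * (u * (r⁻¹ * a * r)) * r⁻¹ := by rw [h]
        _ = r * u * r⁻¹ * a := by group
    rw [← Small.eq_zpowers_of_mem_prime hZ3 hu₀Z (fun e => hu1 (congrArg Subtype.val e)),
      ← mem_powers_iff_mem_zpowers] at hmem
    obtain ⟨i, hi⟩ := hmem
    simp only at hi
    have hi' : u ^ i = r * u * r⁻¹ := by
      simpa [← hu_def] using congrArg (fun x : (T : Subgroup G) => (x : G)) hi
    rw [← hi', ← pow_mod_orderOf, hu₀]
    have : i % 3 < 3 := Nat.mod_lt _ (by norm_num)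
    interval_cases hi3 : i % 3
    · exfalso
      rw [← pow_mod_orderOf, hu₀, hi3, pow_zero, eq_comm, conj_eq_one_iff] at hi'
      exact hu1 hi'
    · left; rw [pow_one]
    · right
      exact eq_inv_of_mul_eq_one_left (by
        rw [← pow_succ, show 2 + 1 = orderOf u by rw [hu₀], pow_orderOf_eq_one])
  obtain ⟨r, hrR, hr1, hru⟩ : ∃ r ∈ R, r ≠ 1 ∧ Commute r u := by
    haveI := Fintype.ofFinite R
    let f : R → Bool := fun r => decide ((r : G) * u * (r : G)⁻¹ = u)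
    obtain ⟨a, b, hab, hf⟩ := Fintype.exists_ne_map_eq_of_card_lt f (by
      rw [Fintype.card_bool, ← Nat.card_eq_fintype_card, hR]; norm_num)
    refine ⟨(b : G)⁻¹ * a, mul_mem (inv_mem b.2) a.2, fun e => hab (Subtype.ext (inv_mul_eq_one.1 e).symm), ?_⟩
    have heq : (a : G) * u * (a : G)⁻¹ = b * u * (b : G)⁻¹ := by
      have hfa : ((a : G) * u * (a : G)⁻¹ = u) ↔ ((b : G) * u * (b : G)⁻¹ = u) :=
        decide_eq_decide.1 hf
      rcases hval a a.2 with ha | ha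
      · rw [ha, hfa.1 ha]
      · rcases hval b b.2 with hb | hb
        · rw [hb, hfa.2 hb]
        · rw [ha, hb]
    show (b : G)⁻¹ * a * u = u * ((b : G)⁻¹ * a)
    calc (b : G)⁻¹ * a * u = (b : G)⁻¹ * ((a : G) * u * (a : G)⁻¹) * a := by group
      _ = (b : G)⁻¹ * (b * u * (b : G)⁻¹) * a := by rw [heq]
      _ = u * ((b : G)⁻¹ * a) := by group
  obtain ⟨j, hjr, hj⟩ : ∃ j, Commute j u ∧ orderOf j = 2 := by
    obtain ⟨m, -, hm⟩ := (Nat.dvd_prime_pow Nat.prime_two).1 (hR ▸ Subgroup.orderOf_dvd_natCard R hrR)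
    have hm0 : m ≠ 0 := fun e => hr1 (orderOf_eq_one_iff.1 (by rw [hm, e, pow_zero]))
    refine ⟨r ^ 2 ^ (m - 1), hru.pow_left _, ?_⟩
    rw [orderOf_pow, hm, Nat.gcd_eq_right (pow_dvd_pow 2 (by omega)),
      Nat.pow_div (by omega) two_pos, show m - (m - 1) = 1 by omega, pow_one]
  have hu_j : u ∈ Cg j := mem_Cg.2 hjr.eq.symm
  have hj192 : Nat.card (Cg j) = 192 := by
    rcases card_Cg_invol hG hj with h | h
    · exact h.1
    exfalso
    obtain ⟨c, hc⟩ := isConj_iff.1 (isConj_of_240 hG hj hw h h240)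
    have hcu : c * u * c⁻¹ ∈ Cg w := by rw [← hc]; exact MElevenUnique.mem_Cg_conj.2 hu_j
    obtain ⟨d, -, hd⟩ := exists_conj_y ι hι hιw hιr (by rw [orderOf_conj', hu₀]) hcu
    rw [← MElevenUnique.card_Cg_conj u c, ← MElevenUnique.card_Cg_conj (c * u * c⁻¹) d, hd] at hTu
    exact h27 hTu
  -- all involutions of `C(y)` are conjugate to `w`
  have hYinv : ∀ i : G, orderOf i = 2 → i ∈ Y → Nat.card (Cg i) = 240 := by
    intro i hi hiY
    rcases card_Cg_invol hG hi with h | h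
    swap
    · exact h
    exfalso
    obtain ⟨c, hc⟩ := isConj_iff.1 (isConj_of_192 ι hι hιw hιr hG hw h240 hi hj h.1 hj192)
    have hyj : c * y * c⁻¹ ∈ Cg j := by
      rw [← hc]; exact MElevenUnique.mem_Cg_conj.2 (mem_Cg.2 (mem_Cg.1 hiY).symm)
    have := card_Cg_eq_of_192 hG hj192 hu₀ (by rw [orderOf_conj', hy]) hu_j hyj
    rw [MElevenUnique.card_Cg_conj] at this
    exact h27 (this ▸ hTu)
  set V := fourModel.map ι
  obtain ⟨hV, hwV⟩ := four_data ι hι hιw hιr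
  have hVY : V ≤ Y := fun v hv => (four_le ι hιw hιr hv).2
  have hJ : ∀ x ∈ Cg w ⊓ Y, ∃ i : ℕ, x * y ^ i ∈ V := fun x hx =>
    (mem_Cg_inf ι hι hιw hιr hx.1 hx.2).elim fun i hi => ⟨i, hi.2⟩
  -- the Sylow 2-subgroup of `C(y)` is the four group
  obtain ⟨b, hb, hb'⟩ : ∃ b, 2 ^ b ∣ Nat.card Y ∧ ¬ 2 ^ (b + 1) ∣ Nat.card Y :=
    ⟨(Nat.card Y).factorization 2, Nat.ordProj_dvd _ _,
      Nat.pow_succ_factorization_not_dvd Nat.card_pos.ne' Nat.prime_two⟩
  obtain ⟨R2, hVR2, hR2Y, hR2⟩ := exists_sylow_le hVY (IsPGroup.of_card (n := 2) (by rw [hV]; norm_num)) hb hb'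
  have hR24 : Nat.card R2 ≤ 4 := by
    obtain ⟨z, hzR, hz, hzC⟩ := Small.Fusion.exists_central_involution (IsPGroup.of_card hR2)
      (Subgroup.le_normalizer (H := R2))
      ((show 2 ∣ Nat.card V by rw [hV]; norm_num).trans (Subgroup.card_dvd_of_le hVR2))
    obtain ⟨c, hc⟩ := isConj_iff.1 (isConj_of_240 hG hz hw (hYinv z hz (hR2Y hzR)) h240)
    have hcy : c * y * c⁻¹ ∈ Cg w := by
      rw [← hc]; exact MElevenUnique.mem_Cg_conj.2 (mem_Cg.2 (mem_Cg.1 (hR2Y hzR)).symm)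
    obtain ⟨d, hdw, hd⟩ := exists_conj_y ι hι hιw hιr (by rw [orderOf_conj', hy]) hcy
    rw [← hy_def] at hd
    set e := d * c with he
    have hey : e * y * e⁻¹ = y := by
      rw [he]; calc d * c * y * (d * c)⁻¹ = d * (c * y * c⁻¹) * d⁻¹ := by group
        _ = y := hd
    have hez : e * z * e⁻¹ = w := by
      rw [he]; calc d * c * z * (d * c)⁻¹ = d * (c * z * c⁻¹) * d⁻¹ := by group
        _ = d * w * d⁻¹ := by rw [hc]
        _ = w := by rw [mem_Cg.1 hdw, mul_inv_cancel_right]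
    -- `R2` maps into the elements of two-power order of `C(w) ∩ C(y)`
    refine le_trans (Nat.card_le_card_of_injective (fun r : R2 => (⟨e * r * e⁻¹, ?_⟩ : V)) ?_) hV.le
    · have hr : e * r * e⁻¹ ∈ Cg w ⊓ Y :=
        ⟨hez ▸ MElevenUnique.mem_Cg_conj.2 (hzC r.2), by
          have h := (MElevenUnique.mem_Cg_conj (x := y) (g := e) (h := (r : G))).2 (hR2Y r.2)
          rwa [hey] at h⟩
      obtain ⟨i, hi⟩ := hJ _ hr
      set x := e * r * e⁻¹ with hx
      have hxo : orderOf x ∣ 2 ^ b := by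
        rw [hx, orderOf_conj', ← hR2]; exact Subgroup.orderOf_dvd_natCard R2 r.2
      have hm' : (y ^ i) ^ (2 ^ b * 4) = 1 := by
        have h1 : (x * y ^ i) ^ (2 ^ b * 4) = 1 := by
          rw [mul_comm, pow_mul, show (x * y ^ i) ^ 4 = 1 by
            rw [show (4 : ℕ) = Nat.card V from hV.symm]
            exact orderOf_dvd_iff_pow_eq_one.1 (Subgroup.orderOf_dvd_natCard V hi), one_pow]
        rw [Commute.mul_pow (((show Commute x y from mem_Cg.1 hr.2).pow_right i)),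
          show x ^ (2 ^ b * 4) = 1 by rw [pow_mul, orderOf_dvd_iff_pow_eq_one.1 hxo, one_pow],
          one_mul] at h1
        exact h1
      have hyi : y ^ i = 1 := by
        rw [← orderOf_eq_one_iff]
        refine Nat.eq_one_of_dvd_coprimes (a := 3) (b := 2 ^ b * 4) ?_ ?_ (orderOf_dvd_of_pow_eq_one hm')
        · exact Nat.Coprime.mul_right (Nat.Coprime.pow_right b (by norm_num)) (by norm_num)
        · exact orderOf_dvd_of_pow_eq_one (by rw [← pow_mul, mul_comm, pow_mul, ← hy, pow_orderOf_eq_one, one_pow])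
      rwa [hyi, mul_one] at hi
    · intro a a' h
      have := congrArg Subtype.val h
      exact Subtype.ext (mul_left_cancel (mul_right_cancel this))
  have hR2V : R2 = V := (Subgroup.eq_of_le_of_card_ge hVR2 (by rw [hV]; exact hR24)).symm
  have hb2 : b = 2 := by
    rw [hR2V, hV] at hR2
    exact (Nat.pow_right_injective le_rfl (show 2 ^ 2 = 2 ^ b by rw [← hR2])).symm
  subst hb2
  have hY36 : Nat.card Y = 36 := by
    have hd := Cg_three_dvd hG hy
    change Nat.card Y ∣ 1728 at hd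
    have key : ∀ d ∈ Nat.divisors 1728, 9 ∣ d → ¬ 27 ∣ d → 4 ∣ d → ¬ 8 ∣ d → d = 36 := by decide +kernel
    exact key _ (Nat.mem_divisors.2 ⟨hd, by norm_num⟩) h9 h27 (by simpa using hb) (by simpa using hb')
  -- the four group is normal in `C(y)`
  have hVN : Y ≤ Ng V := by
    by_cases hle : Y ⊓ Ng V ≤ Cs V
    · exfalso
      obtain ⟨M, hMY, hYM, hMc, -, hMm⟩ := exists_complement (p := 2) (a := 2) hVY (by rw [hV]; norm_num)
        hb' hle
      have hM9 : Nat.card M = 3 ^ 2 := by rw [hY36] at hMc; norm_num at hMc ⊢; omega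
      have h := Subgroup.card_le_of_le (le_zpowers_of_four hG hw h240 ι hι hιw hιr hMY
        (hMm y (mem_Cg.2 rfl) (by rw [hy]; norm_num)) hM9 (hVY.trans hYM))
      rw [hM9, Nat.card_zpowers, hy] at h
      norm_num at h
    obtain ⟨x, hx, hxC⟩ := SetLike.not_le_iff_exists.1 hle
    have hVyH : V ⊔ Subgroup.zpowers y ≤ Y ⊓ Ng V ⊓ Cs V := by
      refine sup_le (fun v hv => ⟨⟨hVY hv, Subgroup.le_normalizer hv⟩, mem_Cs.2 fun a ha => ?_⟩)
        (Subgroup.zpowers_le.2 ?_)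
      · obtain ⟨a', ha', rfl⟩ := ha
        obtain ⟨v', hv', rfl⟩ := hv
        exact (iota_comm ι (four_comm a' v' ha' hv')).eq
      · have hyCs : y ∈ Cs V := mem_Cs.2 fun a ha => mem_Cg.1 (hVY ha)
        exact ⟨⟨mem_Cg.2 rfl, Cs_le_Ng _ hyCs⟩, hyCs⟩
    have h12 : 12 ∣ Nat.card ↥(Y ⊓ Ng V ⊓ Cs V) := by
      have a1 := Subgroup.card_dvd_of_le (le_sup_left.trans hVyH)
      have a2 := Subgroup.card_dvd_of_le (le_sup_right.trans hVyH)
      rw [hV] at a1
      rw [Nat.card_zpowers, hy] at a2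
      exact (show Nat.Coprime 4 3 by norm_num).mul_dvd_of_dvd_of_dvd a1 a2
    have h1 := Subgroup.card_dvd_of_le (inf_le_left : Y ⊓ Ng V ⊓ Cs V ≤ _)
    have h2 := Subgroup.card_dvd_of_le (inf_le_left : Y ⊓ Ng V ≤ _)
    rw [hY36] at h2
    have hlt : Nat.card ↥(Y ⊓ Ng V ⊓ Cs V) < Nat.card ↥(Y ⊓ Ng V) :=
      lt_of_le_of_ne (Subgroup.card_le_of_le inf_le_left) fun e =>
        hxC ((Subgroup.eq_of_le_of_card_ge inf_le_left e.ge).ge hx).2
    have key : ∀ a ∈ Nat.divisors 36, ∀ c ∈ Nat.divisors 36, 12 ∣ a → a ∣ c → a < c → c = 36 := by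
      decide +kernel
    have h36 := key _ (Nat.mem_divisors.2 ⟨h1.trans h2, by norm_num⟩) _
      (Nat.mem_divisors.2 ⟨h2, by norm_num⟩) h12 h1 hlt
    exact inf_eq_left.1 (Subgroup.eq_of_le_of_card_ge inf_le_left (by rw [hY36, h36]))
  -- the element of order three
  obtain ⟨n, hnT, hny⟩ : ∃ n ∈ T₁, n ∉ Subgroup.zpowers y := by
    by_contra hc
    push Not at hc
    have := Subgroup.card_le_of_le (show T₁ ≤ Subgroup.zpowers y from hc)
    rw [hT₁, Nat.card_zpowers, hy] at this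
    norm_num at this
  have hn9 : orderOf n ∣ 3 ^ 2 := hT₁ ▸ Subgroup.orderOf_dvd_natCard T₁ hnT
  have hn3 : n ^ 3 = 1 := by
    by_contra hne3
    have h9' : orderOf n = 9 := by
      have := orderOf_eq_prime_pow (p := 3) (n := 1) (x := n) (by simpa using hne3)
        (orderOf_dvd_iff_pow_eq_one.1 hn9)
      simpa using this
    have hgen : Subgroup.zpowers n = T₁ := Subgroup.eq_of_le_of_card_ge (Subgroup.zpowers_le.2 hnT)
      (by rw [Nat.card_zpowers, h9', hT₁]; norm_num)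
    obtain ⟨i, hi⟩ : ∃ i : ℕ, n ^ i = y := by
      have hm : y ∈ Subgroup.zpowers n := by rw [hgen]; exact hT₁y (Subgroup.mem_zpowers y)
      rw [← mem_powers_iff_mem_zpowers] at hm
      exact hm
    have hd : 9 ∣ i * 3 := h9' ▸ orderOf_dvd_of_pow_eq_one
      (by rw [pow_mul, hi, ← hy, pow_orderOf_eq_one])
    obtain ⟨m, rfl⟩ : 3 ∣ i := by omega
    apply hyZ
    have hc := Subgroup.pow_mem _ (cube_mem_center hT hne ⟨n, hT₁T hnT⟩) m
    convert hc using 1
    refine Subtype.ext ?_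
    rw [SubmonoidClass.coe_pow, SubmonoidClass.coe_pow, ← pow_mul]
    exact hi.symm
  have hnw : n ∉ Cg w := by
    intro hnw
    obtain ⟨i, hi⟩ := hJ n ⟨hnw, hT₁Y hnT⟩
    have hc : Commute n (y ^ i) := (show Commute n y from mem_Cg.1 (hT₁Y hnT)).pow_right i
    have h3 : (n * y ^ i) ^ 3 = 1 := by
      rw [hc.mul_pow, hn3, one_mul, ← pow_mul, mul_comm, pow_mul, ← hy, pow_orderOf_eq_one, one_pow]
    have hone : n * y ^ i = 1 := by
      rw [← orderOf_eq_one_iff]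
      exact Nat.eq_one_of_dvd_coprimes (show Nat.Coprime 4 3 by norm_num)
        (hV ▸ Subgroup.orderOf_dvd_natCard V hi) (orderOf_dvd_of_pow_eq_one h3)
    exact hny (by rw [eq_inv_of_mul_eq_one_left hone]; exact inv_mem (pow_mem (Subgroup.mem_zpowers y) i))
  have hncomm : Commute n y := mem_Cg.1 (hT₁Y hnT)
  set σ : G → G := fun v => n⁻¹ * v * n with hσ
  have hσV : ∀ v ∈ V, σ v ∈ V := fun v hv => conj_mem_of_mem_Ng' (hVN (hT₁Y hnT)) hv
  have hσinj : Function.Injective σ := fun a a' h => mul_left_cancel (mul_right_cancel h)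
  have hσ3 : ∀ v, σ (σ (σ v)) = v := fun v => by
    simp only [hσ]
    calc n⁻¹ * (n⁻¹ * (n⁻¹ * v * n) * n) * n = (n * n * n)⁻¹ * v * (n * n * n) := by group
      _ = v := by rw [show n * n * n = 1 by rw [← hn3, pow_succ, pow_two], inv_one, one_mul, mul_one]
  have hσw : σ w ≠ w := fun h => hnw (mem_Cg.2 (by
    calc n * w = n * (n⁻¹ * w * n) := by rw [show n⁻¹ * w * n = w from h]
      _ = w * n := by group))
  obtain ⟨hpp, -, -, hp1, hwp1, hwpw, hwpp, hpw, -, -, -, -, -⟩ := mdl_facts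
  have hVcases : ∀ v ∈ V, v ≠ 1 → v ≠ w → v = ι mp ∨ v = ι (mw * mp) := by
    rintro _ ⟨a, ha, rfl⟩ h1 h2
    rcases ha with rfl | rfl | rfl | rfl
    · exact absurd (map_one ι) h1
    · exact absurd hιw h2
    · exact Or.inl rfl
    · exact Or.inr rfl
  have hw1 : w ≠ 1 := fun e => by rw [e, orderOf_one] at hw; norm_num at hw
  have hσ1 : ∀ v, v ≠ 1 → σ v ≠ 1 := fun v hv h => hv (hσinj (h.trans (by simp [hσ])))
  have hσ2w : σ (σ w) ≠ w := fun h => hσw (by
    have := congrArg σ h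
    rw [hσ3] at this
    exact this.symm)
  have hne : σ (σ w) ≠ σ w := fun h => hσw (hσinj h)
  rcases hVcases _ (hσV w hwV) (hσ1 w hw1) hσw with h | h
  · refine ⟨n, hn3, hncomm, h, ?_⟩
    rcases hVcases _ (hσV _ (hσV w hwV)) (hσ1 _ (hσ1 w hw1)) hσ2w with h' | h'
    · exact absurd (h'.trans h.symm) hne
    · rw [h] at h'; exact h'
  · have hp : σ (σ w) = ι mp := (hVcases _ (hσV _ (hσV w hwV)) (hσ1 _ (hσ1 w hw1)) hσ2w).resolve_right
      fun h' => hne (h'.trans h.symm)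
    refine ⟨n⁻¹, by rw [inv_pow, hn3, inv_one], hncomm.inv_left, ?_, ?_⟩
    · rw [inv_inv, ← hp]
      simp only [hσ]
      calc n * w * n⁻¹ = (n ^ 3) * ((n⁻¹) * (n⁻¹ * w * n) * n) * (n ^ 3)⁻¹ := by group
        _ = _ := by rw [hn3, inv_one, one_mul, mul_one]
    · rw [inv_inv, ← h, ← hp]
      simp only [hσ]
      group

/-- A simple group of order 95040 contains a configuration. -/
theorem nonempty_frame_aux : Nonempty (Frame G) := by
  obtain ⟨n, hn3, hny, hnw, hnp⟩ := exists_three_element hG hw h240 ι hι hιw hιr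
  obtain ⟨hpp, hXX, hX1, -, -, -, -, -, hXcl, hy3, -, hXp, hXy⟩ := mdl_facts
  set y := ι (mr * ms) with hy_def
  set X := ι (mp * mr) with hX_def
  have hninv : n⁻¹ * y * n = y := by rw [mul_assoc, ← hny.eq, inv_mul_cancel_left]
  have hconj : ∀ a b : G, n⁻¹ * (a * b) * n = (n⁻¹ * a * n) * (n⁻¹ * b * n) := fun a b => by group
  have hp_w : IsConj w (ι mp) := isConj_iff.2 ⟨n⁻¹, by rw [inv_inv]; exact hnw⟩
  have hwp_w : IsConj w (ι (mw * mp)) := hp_w.trans (isConj_iff.2 ⟨n⁻¹, by rw [inv_inv]; exact hnp⟩)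
  have hodd : ∀ m : Mdl, m * m = 1 → Equiv.Perm.sign m.2 = -1 → IsConj w (ι m) := by
    intro m hm hs
    obtain ⟨c, hc⟩ := odd_class m hm hs
    have h' : IsConj (ι m) (ι (c * m * c⁻¹)) :=
      isConj_iff.2 ⟨ι c, by rw [map_mul, map_mul, map_inv]⟩
    rcases hc with hc | hc <;> rw [hc] at h'
    · exact hp_w.trans h'.symm
    · exact hwp_w.trans h'.symm
  -- the image of `X`
  have hXw : X ∈ Cg (ι mp) := mem_Cg.2 (iota_comm ι hXp).eq
  have hX'w : n⁻¹ * X * n ∈ Cg w := by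
    have h2 : Commute X (ι (mw * mp)) := iota_comm ι (by decide +kernel)
    have h3 := congrArg (fun g => n⁻¹ * g * n) (congrArg (fun g => n⁻¹ * g * n) (mem_Cg.1 hXw))
    rw [mem_Cg]
    have hw' : w = n⁻¹ * ι (mw * mp) * n := by
      rw [← hnp, ← hnw]
      calc w = (n * n * n)⁻¹ * w * (n * n * n) := by
            rw [show n * n * n = 1 by rw [← hn3, pow_succ, pow_two], inv_one, one_mul, mul_one]
        _ = _ := by group
    rw [hw', ← hconj, ← hconj, h2.eq]
  obtain ⟨m, hm⟩ := hιr.ge hX'w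
  have hm2 : m * m = 1 := hι (by rw [map_mul, hm, map_one, ← hconj, ← map_mul, hXX, map_one]; group)
  have hmp : m * mp = mp * m := hι (by
    rw [map_mul, map_mul, hm, ← hnw, ← hconj, ← hconj]
    have h : Commute X w := by rw [← hιw]; exact iota_comm ι (mw_central _)
    rw [h.eq])
  have hmy : m * (mr * ms) * m = mr * ms * (mr * ms) := hι (by
    rw [map_mul, map_mul, map_mul (f := ι) (mr * ms) (mr * ms), hm, ← hy_def]
    conv_lhs => rw [← hninv]
    conv_rhs => rw [← hninv]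
    rw [← hconj, ← hconj, ← hconj]
    congr 2
    rw [hX_def, hy_def, ← map_mul, ← map_mul, hXy, map_mul])
  have hXnot : ¬ IsConj w X := fun h => hXcl (inClass_of_isConj ι hι hιw hιr _ h)
  have hXm : IsConj X (ι m) := isConj_iff.2 ⟨n⁻¹, by rw [inv_inv]; exact hm.symm⟩
  rcases x_candidates m hm2 hmp hmy with hs | ⟨j, hj, hgood | hbad⟩
  · exact absurd ((hodd m hm2 hs).trans hXm.symm) hXnot
  swap
  · exfalso
    refine hXnot ?_
    refine ((?_ : IsConj w (ι m))).trans hXm.symm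
    have hyj : n⁻¹ * ι ((mr * ms) ^ j) * n = ι ((mr * ms) ^ j) := by
      rw [map_pow, ← hy_def, mul_assoc, ← (hny.pow_right j).eq, inv_mul_cancel_left]
    have e : n⁻¹ * ι m * n
        = ι (mp * ((mr * ms) ^ j * (mw * ((mr * ms) ^ j * (mp * mr) * ((mr * ms) ^ j)⁻¹)) *
          ((mr * ms) ^ j)⁻¹)) := by
      conv_lhs => rw [hbad]
      simp only [map_mul, map_inv]
      rw [hιw]
      calc n⁻¹ * (w * (ι ((mr * ms) ^ j) * (ι mp * ι mr) * (ι ((mr * ms) ^ j))⁻¹)) * n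
          = (n⁻¹ * w * n) * ((n⁻¹ * ι ((mr * ms) ^ j) * n) * (n⁻¹ * (ι mp * ι mr) * n) *
              (n⁻¹ * ι ((mr * ms) ^ j) * n)⁻¹) := by group
        _ = _ := by
          rw [hnw, hyj, ← map_mul (f := ι) mp mr, ← hX_def, ← hm, hbad]
          simp only [map_mul, map_inv, hιw, hX_def]
    obtain ⟨hs', hsq⟩ := x_twisted j hj j hj
    exact (hodd _ hsq hs').trans (isConj_iff.2 ⟨n⁻¹, by rw [inv_inv]; exact e⟩ : IsConj (ι m) _).symm
  -- adjust `n` by a power of `y`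
  refine ⟨{ ι := ι, g := n * y ^ j, inj := hι, range_eq := ?_, cube := ?_, conj_gen := ?_,
            inClass_of_isConj := ?_ }⟩
  · rw [hιr, hιw]
  · rw [(hny.pow_right j).mul_pow, hn3, one_mul, ← pow_mul, mul_comm, pow_mul]
    have : y ^ 3 = 1 := by rw [hy_def, pow_succ, pow_two, ← map_mul, ← map_mul, hy3, map_one]
    rw [this, one_pow]
  · have hg : ∀ a b : G, n⁻¹ * a * n = b → (n * y ^ j)⁻¹ * a * (n * y ^ j) = (y ^ j)⁻¹ * b * y ^ j :=
      fun a b h => by rw [← h]; group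
    have hfix : ∀ b : Mdl, b * (mr * ms) = mr * ms * b → (y ^ j)⁻¹ * ι b * y ^ j = ι b := fun b hb => by
      rw [mul_assoc, ((iota_comm ι hb).pow_right j).eq, inv_mul_cancel_left]
    intro ab hab
    simp only [gGen, List.mem_cons, List.not_mem_nil, or_false] at hab
    rcases hab with rfl | rfl | rfl | rfl
    · rw [hg _ _ (show n⁻¹ * ι mw * n = ι mp by rw [hιw]; exact hnw),
        hfix mp (four_my mp (Or.inr (Or.inr (Or.inl rfl))))]
    · rw [hg _ _ hnp, hfix (mw * mp) (four_my _ (Or.inr (Or.inr (Or.inr rfl))))]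
    · rw [hg _ _ (show n⁻¹ * ι (mr * ms) * n = ι (mr * ms) from hninv), hfix _ rfl]
    · rw [hg _ _ hm.symm, hgood]
      simp only [map_mul, map_inv, map_pow, ← hy_def]
      group
  · exact fun m hm' => inClass_of_isConj ι hι hιw hιr m (hιw ▸ hm')

omit hw h240 hι hιw hιr ι in
theorem nonempty_frame : Nonempty (Frame G) := by
  haveI := Fact.mk Nat.prime_five
  obtain ⟨Q⟩ : Nonempty (Sylow 5 G) := inferInstance
  obtain ⟨w', hwQ, hw'⟩ := Small.Fusion.exists_orderOf (H := Cs (Q : Subgroup G)) Nat.prime_two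
    (by show 2 ∣ Nat.card (Cs (Q : Subgroup G)); rw [(five_data hG Q).2]; norm_num)
  obtain ⟨-, -, -, h', -⟩ := five_invol_data hG hw'
    (card_sylow_five hG Q ▸ Subgroup.card_dvd_of_le (Small.sylow_le_centralizer_singleton Q hwQ))
  obtain ⟨ι', h1, h2, h3⟩ := exists_iota hG hw' h'
  exact nonempty_frame_aux hG hw' h' ι' h1 h2 h3

end CfsgLib.MTwelveUnique
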