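import Cfsg.Agent.MTwelveUnique.ElevenB

/-!
A simple group of order 95040: the orders of the normalisers of the Sylow 5-subgroups, and some
excluded configurations.
-/

set_option autoImplicit false

open scoped Pointwise
open MulAction

namespace CfsgLib.MTwelveUnique

open CfsgLib.MElevenUnique (Cg Ng Cs fixCard mem_Cg mem_Cs Cs_le_Ng inCard inCard_spec)

theorem forall_dvd_of_divisors {n p : ℕ} (hn : n ≠ 0)
    (h : ∀ d ∈ Nat.divisors n, d % p = n % p → d = n) : ∀ d, d ∣ n → d % p = n % p → d = n :=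
  fun d hd => h d (Nat.mem_divisors.2 ⟨hd, hn⟩)

variable {G : Type*} [Group G] [Finite G] [IsSimpleGroup G] (hG : Nat.card G = 95040)
include hG

/-- No subgroup of index eleven has the fixed points of an element `q` of order five fixed by an
element of order three commuting with `q`. -/
theorem false_index_eleven {H : Subgroup G} (hH : Nat.card H = 8640) {q y : G} (hq : orderOf q = 5)
    (hy : orderOf y = 3) (hc : Commute y q) (hfix : ∀ g : G, g⁻¹ * q * g ∈ H → g⁻¹ * y * g ∈ H) :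
    False := by
  haveI := Fact.mk Nat.prime_five
  haveI := Fact.mk Nat.prime_three
  have hX : Nat.card (G ⧸ H) = 11 := by
    have h := H.index_mul_card
    rw [hG, hH, Subgroup.index_eq_card] at h
    omega
  haveI : Nontrivial (G ⧸ H) := Finite.one_lt_card_iff_nontrivial.1 (by omega)
  have hlt : fixCard (G ⧸ H) y < 11 := by
    by_contra hge
    have he := MElevenUnique.eq_one_of_fixCard (X := G ⧸ H) (x := y) (by omega)
    rw [he, orderOf_one] at hy
    norm_num at hy
  have h1 := MElevenUnique.fix_modEq_inter (X := G ⧸ H) hc (hq ▸ pow_orderOf_eq_one q)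
  have h2 := MElevenUnique.card_modEq_fix (X := G ⧸ H) (hy ▸ pow_orderOf_eq_one y)
  have h3 := MElevenUnique.card_modEq_fix (X := G ⧸ H) (hq ▸ pow_orderOf_eq_one q)
  have h4 : Nat.card {a : G ⧸ H // y • a = a ∧ q • a = a} = fixCard (G ⧸ H) q := by
    refine Nat.card_congr (Equiv.subtypeEquivRight fun a => ⟨fun h => h.2, fun h => ⟨?_, h⟩⟩)
    induction a using QuotientGroup.induction_on with
    | _ g => exact smul_mk_eq_iff.2 (hfix g (smul_mk_eq_iff.1 h))
  rw [h4] at h1
  rw [hX] at h2 h3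
  omega

/-- The orders of the normaliser and of the centraliser of a Sylow 5-subgroup. -/
theorem five_options [Fact (Nat.Prime 5)] (Q : Sylow 5 G) :
    let N := Nat.card (Ng (Q : Subgroup G))
    let C := Nat.card (Cs (Q : Subgroup G))
    (N = 8640 ∨ N = 1440 ∨ N = 540 ∨ N = 240 ∨ N = 90 ∨ N = 40) ∧ (C * 2 = N ∨ C * 4 = N) := by
  intro N C
  haveI : Fact (Nat.Prime 11) := ⟨by norm_num⟩
  have hQ := card_sylow_five hG Q
  have hn := Small.card_sylow_mul_card_normalizer Q
  rw [hG] at hn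
  change Nat.card (Sylow 5 G) * N = 95040 at hn
  have hmem := Small.card_sylow_mem (not_comm hG) (p := 5) (k := 1) (m := 19008) (by rw [hG]; norm_num)
    one_ne_zero (by norm_num)
  simp only [Finset.mem_filter] at hmem
  have hall : ∀ n ∈ Nat.divisors 19008, n % 5 = 1 → n ≠ 1 →
      n = 6 ∨ n = 11 ∨ n = 16 ∨ n = 36 ∨ n = 66 ∨ n = 96 ∨ n = 176 ∨ n = 216 ∨ n = 396 ∨ n = 576 ∨
        n = 1056 ∨ n = 2376 ∨ n = 6336 := by decide +kernel
  have hn6 : Nat.card (Sylow 5 G) ≠ 6 := fun h => by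
    have h6 : (Ng (Q : Subgroup G)).index = 6 := Q.card_eq_index_normalizer.symm.trans h
    have hne : Ng (Q : Subgroup G) ≠ ⊤ := fun e => by rw [e, Subgroup.index_top] at h6; omega
    have := index_ge_eleven hG hne
    omega
  have h11 : ¬ 11 ∣ N := not_eleven_Ng hG (A := (Q : Subgroup G)) (by rw [hQ]; norm_num)
    (by rw [hQ]; norm_num) (by
      rw [hQ]
      intro d hd hmod
      rcases (Nat.dvd_prime Nat.prime_five).1 hd with rfl | rfl
      · norm_num at hmod
      · rfl)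
  have he := Small.relIndex_centralizer_mem (not_comm hG) Q hQ (n := N) rfl
  have hCe : C * (Cs (Q : Subgroup G)).relIndex (Ng (Q : Subgroup G)) = N :=
    Small.card_centralizer_mul_relIndex _
  rw [Finset.mem_filter] at he
  have he' : (Cs (Q : Subgroup G)).relIndex (Ng (Q : Subgroup G)) = 2 ∨
      (Cs (Q : Subgroup G)).relIndex (Ng (Q : Subgroup G)) = 4 := by
    have h1 := he.1
    rw [show Nat.divisors (5 - 1) = {1, 2, 4} by decide] at h1
    simp only [Finset.mem_insert, Finset.mem_singleton] at h1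
    exact h1.resolve_left he.2.2
  refine ⟨?_, he'.imp (fun h => by rw [h] at hCe; exact hCe) (fun h => by rw [h] at hCe; exact hCe)⟩
  have h2 : 2 ∣ N := by
    rcases he' with h | h <;> rw [h] at hCe
    · exact ⟨C, by omega⟩
    · exact ⟨2 * C, by omega⟩
  rcases hall _ hmem.1 hmem.2.1 hmem.2.2 with h | h | h | h | h | h | h | h | h | h | h | h | h <;>
    rw [h] at hn <;> omega

theorem false_540 [Fact (Nat.Prime 5)] (Q : Sylow 5 G) (hN : Nat.card (Ng (Q : Subgroup G)) = 540)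
    (hC : Nat.card (Cs (Q : Subgroup G)) * 2 = 540 ∨ Nat.card (Cs (Q : Subgroup G)) * 4 = 540) :
    False := by
  haveI : Fact (Nat.Prime 11) := ⟨by norm_num⟩
  haveI := Fact.mk Nat.prime_two
  haveI := Fact.mk Nat.prime_three
  obtain ⟨D, hD, hDc, hDm⟩ : ∃ D : Subgroup G, D ≤ Cs (Q : Subgroup G) ∧ Nat.card D = 3 ^ 3 * 5 ∧
      ∀ x ∈ Cs (Q : Subgroup G), ¬ 2 ∣ orderOf x → x ∈ D := by
    rcases hC with h | h
    · obtain ⟨D, h1, -, h3, h4⟩ := exists_half (L := Cs (Q : Subgroup G)) (by omega)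
      exact ⟨D, h1, by norm_num; omega, h4⟩
    · exact ⟨_, le_rfl, by norm_num; omega, fun x hx _ => hx⟩
  obtain ⟨T, hT, hTc, -, hTm⟩ := exists_unique_sylow hDc (by norm_num) (by decide)
  have hNT : Ng (Q : Subgroup G) ≤ Ng T := le_Ng_of_all_mem (hT.trans hD) hTc
    (Small.Fusion.N_le_normalizer_C Q) fun x hx k hk => hTm x (hDm x hx fun h2 =>
      absurd (Nat.prime_two.dvd_of_dvd_pow (h2.trans hk)) (by norm_num)) k hk
  obtain ⟨hm1, hm2⟩ := inCard_spec Q (Subgroup.le_normalizer.trans hNT)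
  rw [inf_eq_right.2 hNT, hN] at hm2
  have h11 := not_eleven_Ng hG (A := T) (by rw [hTc]; norm_num) (by rw [hTc]; norm_num) (by
    rw [hTc]; exact forall_dvd_of_divisors (by norm_num) (by decide +kernel))
  have hle := card_le' hG (Ng_ne_top' hG (A := T) (by rw [hTc]; norm_num) (by rw [hTc]; norm_num))
  have hdvd := card_dvd' hG (Ng T)
  obtain ⟨T', hT'⟩ := (IsPGroup.of_card hTc).exists_le_sylow
  have hTT' : T = (T' : Subgroup G) :=
    Subgroup.eq_of_le_of_card_ge hT' (by rw [card_sylow_three' hG T', hTc]; norm_num)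
  have h3 := Small.card_sylow_mul_card_normalizer T'
  rw [← hTT', hG] at h3
  change Nat.card (Sylow 3 G) * Nat.card (Ng T) = 95040 at h3
  have h31 := Small.card_sylow_mod 3 (G := G)
  rw [hm2] at h3 hle h11 hdvd
  have hm : inCard 5 (Ng T) ≤ 16 := by omega
  have key : ∀ n ≤ 16, n % 5 = 1 → ¬ 11 ∣ n * 540 → n * 540 ∣ 95040 → n = 1 ∨ n = 16 := by decide +kernel
  rcases key _ hm hm1 h11 hdvd with h | h <;> rw [h] at h3 <;> omega

theorem false_90 [Fact (Nat.Prime 5)] (Q : Sylow 5 G) (hN : Nat.card (Ng (Q : Subgroup G)) = 90)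
    (hC : Nat.card (Cs (Q : Subgroup G)) * 2 = 90 ∨ Nat.card (Cs (Q : Subgroup G)) * 4 = 90) :
    False := by
  haveI : Fact (Nat.Prime 11) := ⟨by norm_num⟩
  haveI := Fact.mk Nat.prime_two
  haveI := Fact.mk Nat.prime_three
  have hQ := card_sylow_five hG Q
  obtain ⟨q, hqQ, hq⟩ := Small.Fusion.exists_orderOf (H := (Q : Subgroup G)) Nat.prime_five
    (dvd_of_eq hQ.symm)
  have hq1 : q ≠ 1 := fun e => by rw [e, orderOf_one] at hq; norm_num at hq
  have hC45 : Nat.card (Cs (Q : Subgroup G)) = 3 ^ 2 * 5 := by norm_num; omega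
  obtain ⟨K, hKC, hKc, -, hKm⟩ := exists_unique_sylow hC45 (by norm_num) (by decide)
  have hNK : Ng (Q : Subgroup G) ≤ Ng K :=
    le_Ng_of_all_mem hKC hKc (Small.Fusion.N_le_normalizer_C Q) hKm
  have hKN : K ≤ Ng (Q : Subgroup G) := hKC.trans (Cs_le_Ng _)
  have hn5 : Nat.card (Sylow 5 G) = 1056 := by
    have h := Small.card_sylow_mul_card_normalizer Q
    rw [hG] at h
    change Nat.card (Sylow 5 G) * Nat.card (Ng (Q : Subgroup G)) = 95040 at h
    rw [hN] at h
    omega
  obtain ⟨n, hn1, hne, hnK⟩ := card_normalizer_trick Q hKN hNK hKc (by rw [hN]; norm_num)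
    (by rw [hn5]; norm_num)
  rw [hN] at hnK
  -- a Sylow 3-subgroup through `K`
  obtain ⟨T, hKT⟩ := (IsPGroup.of_card hKc).exists_le_sylow
  have hT := card_sylow_three' hG T
  have hKne : K ≠ (T : Subgroup G) := fun e => by rw [← e, hKc] at hT; norm_num at hT
  have hTN : (T : Subgroup G) ≤ Ng K := by
    obtain ⟨t, htT, htK, htN⟩ := exists_normalizing_not_mem T.2 hKT hKne
    have h1 := Subgroup.card_dvd_of_le
      (le_inf hKT Subgroup.le_normalizer : K ≤ (T : Subgroup G) ⊓ Ng K)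
    have h2 := Subgroup.card_dvd_of_le (inf_le_left : (T : Subgroup G) ⊓ Ng K ≤ _)
    rw [hKc] at h1
    rw [hT] at h2
    have h3 : Nat.card ↥((T : Subgroup G) ⊓ Ng K) ≠ 9 := fun h => htK
      ((Subgroup.eq_of_le_of_card_ge (le_inf hKT Subgroup.le_normalizer)
        (by rw [h, hKc]; norm_num)).ge ⟨htT, htN⟩)
    have key : ∀ x ∈ Nat.divisors 27, 3 ^ 2 ∣ x → x ≠ 9 → x = 27 := by decide +kernel
    exact inf_eq_left.1 (Subgroup.eq_of_le_of_card_ge inf_le_left
      (by rw [hT, key _ (Nat.mem_divisors.2 ⟨h2, by norm_num⟩) h1 h3]))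
  have hK27 : 27 ∣ Nat.card (Ng K) := hT ▸ Subgroup.card_dvd_of_le hTN
  have hle := card_le' hG (Ng_ne_top' hG (A := K) (by rw [hKc]; norm_num) (by rw [hKc]; norm_num))
  have hdvd := card_dvd' hG (Ng K)
  have h11 := not_eleven_Ng hG (A := K) (by rw [hKc]; norm_num) (by rw [hKc]; norm_num) (by
    rw [hKc]; exact forall_dvd_of_divisors (by norm_num) (by decide +kernel))
  have key : ∀ n ∈ Finset.range 97, n % 5 = 1 → n ≠ 1 → 27 ∣ n * 90 → ¬ 11 ∣ n * 90 → n * 90 ∣ 95040 →
      n = 6 ∨ n = 96 := by decide +kernel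
  rw [hnK] at hle hdvd h11 hK27
  -- elements of three-power order commuting with `q`
  have hcent : ∀ x : G, (∃ k, orderOf x ∣ 3 ^ k) → Commute x q → x ∈ K := fun x hx hc =>
    hx.elim fun k hk => hKm x (Small.mem_centralizer_of_commute_prime hQ hqQ hq1 hc) k hk
  obtain ⟨y, hyK, hy⟩ := Small.Fusion.exists_orderOf (H := K) Nat.prime_three (by rw [hKc]; norm_num)
  have hyq : Commute y q := (mem_Cs.1 (hKC hyK) q hqQ).symm
  rcases key n (Finset.mem_range.2 (by omega)) hn1 hne hK27 h11 hdvd with rfl | rfl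
  swap
  · refine false_index_eleven hG (H := Ng K) (by rw [hnK]) hq hy hyq fun g hg => ?_
    have ho : orderOf (g⁻¹ * q * g) = 5 := by
      have := orderOf_conj' g⁻¹ q
      rwa [inv_inv, hq] at this
    have hcK := GraphSimple.le_centralizer_of_mod (p := 5) (H := Subgroup.zpowers (g⁻¹ * q * g)) (Q := K)
      (IsPGroup.of_card (n := 1) (by rw [Nat.card_zpowers, ho, pow_one]))
      (Subgroup.zpowers_le.2 hg) (by rw [hKc]; exact forall_dvd_of_divisors (by norm_num) (by decide +kernel))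
    have hgK : g ∈ Ng K := mem_Ng_of_map_le (by
      rintro _ ⟨x, hx, rfl⟩
      refine hcent _ ⟨2, ?_⟩ ?_
      · show orderOf (g * x * g⁻¹) ∣ _
        rw [orderOf_conj', ← hKc]
        exact Subgroup.orderOf_dvd_natCard K hx
      · show g * x * g⁻¹ * q = q * (g * x * g⁻¹)
        have h := mem_Cs.1 (hcK hx) _ (Subgroup.mem_zpowers _)
        calc g * x * g⁻¹ * q = g * (x * (g⁻¹ * q * g)) * g⁻¹ := by group
          _ = g * ((g⁻¹ * q * g) * x) * g⁻¹ := by rw [h]
          _ = q * (g * x * g⁻¹) := by group)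
    exact Subgroup.le_normalizer (conj_mem_of_mem_Ng' hgK hyK)
  -- six Sylow 5-subgroups normalise `K`
  have hQK : (Q : Subgroup G) ≤ Ng K := Subgroup.le_normalizer.trans hNK
  obtain ⟨-, hm2⟩ := inCard_spec Q hQK
  rw [inf_eq_right.2 hNK, hnK, hN] at hm2
  have hin : inCard 5 (Ng K) = 6 := by omega
  have hall5 : ∀ Q' : Sylow 5 G, (Q' : Subgroup G) ≤ Ng K → (Q' : Subgroup G) ≤ Cs K := by
    intro Q' hQ' a ha
    have hc := GraphSimple.le_centralizer_of_mod (p := 5) (H := (Q' : Subgroup G)) (Q := K) Q'.2 hQ'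
      (by rw [hKc]; exact forall_dvd_of_divisors (by norm_num) (by decide +kernel))
    exact mem_Cs.2 fun k hk => (mem_Cs.1 (hc hk) a ha).symm
  have hQCK : (Q : Subgroup G) ≤ Cs K := hall5 Q hQK
  have hinC : inCard 5 (Cs K) = 6 := by
    rw [← hin]
    exact Nat.card_congr (Equiv.subtypeEquivRight fun Q' =>
      ⟨fun h => h.trans (Cs_le_Ng K), hall5 Q'⟩)
  obtain ⟨-, hc2⟩ := inCard_spec Q hQCK
  rw [hinC] at hc2
  have hCKC : Cs (Q : Subgroup G) ≤ Cs K := by
    have h1 : K ≤ Cs K := by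
      intro a ha
      exact mem_Cs.2 fun b hb =>
        mem_Cg.1 (Small.le_centralizer_of_card_sq (p := 3) hKc ha hb)
    have a1 := Subgroup.card_dvd_of_le (le_inf hKC h1)
    have a2 := Subgroup.card_dvd_of_le
      (le_inf (GraphSimple.le_centralizer_of_cyclic_prime hQ) hQCK)
    rw [hKc] at a1
    rw [hQ] at a2
    refine inf_eq_left.1 (Subgroup.eq_of_le_of_card_ge inf_le_left ?_)
    rw [hC45]
    exact Nat.le_of_dvd Nat.card_pos
      ((show Nat.Coprime (3 ^ 2) 5 by norm_num).mul_dvd_of_dvd_of_dvd a1 a2)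
  have hCK : Cs K = Ng K ∧ Nat.card ↥(Cs K ⊓ Ng (Q : Subgroup G)) = 90 := by
    have a1 := Subgroup.card_dvd_of_le (le_inf hCKC (Cs_le_Ng (Q : Subgroup G)))
    have a2 := Subgroup.card_dvd_of_le (inf_le_right : Cs K ⊓ Ng (Q : Subgroup G) ≤ _)
    rw [hC45, show 3 ^ 2 * 5 = 45 by norm_num] at a1
    rw [hN] at a2
    have a3 := Nat.le_of_dvd (by norm_num) a2
    obtain ⟨c, hc⟩ := a1
    rcases (show c = 1 ∨ c = 2 by
      have := Nat.card_pos (α := ↥(Cs K ⊓ Ng (Q : Subgroup G)))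
      omega) with rfl | rfl
    · exfalso
      obtain ⟨E, hE, -, hEc, hEm⟩ := exists_half (L := Cs K) (by omega)
      obtain ⟨A, -, hAc, -, hAm⟩ := exists_unique_sylow (q := 5) (a := 1) (m := 27) (L := E)
        (by rw [show 5 ^ 1 * 27 = 135 by norm_num]; omega) (by norm_num) (by decide)
      have h5 : ∀ Q' : Sylow 5 G, (Q' : Subgroup G) ≤ Cs K → (Q' : Subgroup G) = A := by
        intro Q' hQ'
        have hc5 := card_sylow_five hG Q'
        refine Subgroup.eq_of_le_of_card_ge (fun a ha => ?_) (by rw [hc5, hAc]; norm_num)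
        have hd : orderOf a ∣ 5 ^ 1 := by rw [pow_one, ← hc5]; exact Subgroup.orderOf_dvd_natCard _ ha
        exact hAm a (hEm a (hQ' ha) fun h2 =>
          absurd (Nat.prime_two.dvd_of_dvd_pow (h2.trans hd)) (by norm_num)) 1 hd
      have : inCard 5 (Cs K) ≤ 1 := by
        haveI : Subsingleton {Q' : Sylow 5 G // (Q' : Subgroup G) ≤ Cs K} :=
          ⟨fun a b => Subtype.ext (Sylow.ext ((h5 a.1 a.2).trans (h5 b.1 b.2).symm))⟩
        exact Finite.card_le_one_iff_subsingleton.2 this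
      omega
    · exact ⟨Subgroup.eq_of_le_of_card_ge (Cs_le_Ng K) (by omega), by omega⟩
  -- the centraliser of each element of `K`
  have hcy : ∀ z ∈ K, z ≠ 1 → Cg z = Cs K := by
    intro z hz hz1
    have hle1 : Cs K ≤ Cg z := Subgroup.centralizer_le (Set.singleton_subset_iff.2 hz)
    obtain ⟨hz5, hz2⟩ := inCard_spec Q (hQCK.trans hle1)
    have hzN : Nat.card ↥(Cg z ⊓ Ng (Q : Subgroup G)) = 90 := by
      refine le_antisymm ((Subgroup.card_le_of_le inf_le_right).trans_eq hN) ?_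
      rw [← hCK.2]
      exact Subgroup.card_le_of_le (inf_le_inf_right _ hle1)
    rw [hzN] at hz2
    have hz3 : orderOf z ∣ 3 ^ 2 := hKc ▸ Subgroup.orderOf_dvd_natCard K hz
    have hzle := card_le' hG (Cg_ne_top' hG hz1)
    have hz11 := not_eleven_Cg' hG hz1 fun h => absurd
      ((show Nat.Prime 11 by norm_num).dvd_of_dvd_pow (h.trans hz3)) (by norm_num)
    have hz27 : 27 ∣ Nat.card (Cg z) :=
      hT ▸ Subgroup.card_dvd_of_le ((hTN.trans hCK.1.ge).trans hle1)
    have hzd := card_dvd' hG (Cg z)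
    have hne6 : inCard 5 (Cg z) ≠ 1 := by
      have : inCard 5 (Cs K) ≤ inCard 5 (Cg z) :=
        Nat.card_le_card_of_injective (fun a => ⟨a.1, a.2.trans hle1⟩) fun a b e =>
          Subtype.ext (congrArg (fun c : {Q' : Sylow 5 G // (Q' : Subgroup G) ≤ Cg z} => c.1) e)
      omega
    rw [hz2] at hzle hz11 hz27 hzd
    rcases key (inCard 5 (Cg z)) (Finset.mem_range.2 (by omega)) hz5 hne6 hz27 hz11 hzd with h | h
    · refine (Subgroup.eq_of_le_of_card_ge hle1 ?_).symm
      rw [hz2, h, hCK.1, hnK]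
    · exfalso
      obtain ⟨j, hj, hj'⟩ := (Nat.dvd_prime_pow Nat.prime_three).1 hz3
      have hj0 : j ≠ 0 := fun e => hz1 (orderOf_eq_one_iff.1 (by rw [hj', e, pow_zero]))
      set y' := z ^ 3 ^ (j - 1) with hy'_def
      have hy' : orderOf y' = 3 := by
        rw [hy'_def, orderOf_pow, hj', Nat.gcd_eq_right (pow_dvd_pow 3 (by omega)),
          Nat.pow_div (by omega) (by norm_num), show j - (j - 1) = 1 by omega, pow_one]
      have hy'K : y' ∈ K := pow_mem hz _
      refine false_index_eleven hG (H := Cg z) (by rw [hz2, h]) hq hy'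
        ((mem_Cs.1 (hKC hy'K) q hqQ).symm) fun g hg => ?_
      have h1 : g * z * g⁻¹ ∈ K := hcent _ ⟨2, by rw [orderOf_conj']; exact hz3⟩ (by
        show g * z * g⁻¹ * q = q * (g * z * g⁻¹)
        calc g * z * g⁻¹ * q = g * (z * (g⁻¹ * q * g)) * g⁻¹ := by group
          _ = g * ((g⁻¹ * q * g) * z) * g⁻¹ := by rw [mem_Cg.1 hg]
          _ = q * (g * z * g⁻¹) := by group)
      have h2 := mem_Cg.1 (Small.le_centralizer_of_card_sq (p := 3) hKc h1 hy'K)
      rw [mem_Cg]
      calc g⁻¹ * y' * g * z = g⁻¹ * (y' * (g * z * g⁻¹)) * g := by group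
        _ = g⁻¹ * ((g * z * g⁻¹) * y') * g := by rw [h2]
        _ = z * (g⁻¹ * y' * g) := by group
  -- so the normaliser of the Sylow 3-subgroup normalises `K`
  have hTK : Ng (T : Subgroup G) ≤ Ng K := by
    intro g hg
    have hK'T : K.map (MulAut.conj g).toMonoidHom ≤ (T : Subgroup G) := by
      rintro _ ⟨x, hx, rfl⟩
      exact conj_mem_of_mem_Ng hg (hKT hx)
    obtain ⟨z, hz, hz1⟩ := exists_ne_one_of_ne_bot
      (inf_ne_bot_of_card hKT hK'T (by rw [card_map_conj, hT, hKc]; norm_num))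
    have hz' : g⁻¹ * z * g ∈ K := mem_map_conj.1 hz.2
    have hz'1 : g⁻¹ * z * g ≠ 1 := fun e => hz1 (by
      calc z = g * (g⁻¹ * z * g) * g⁻¹ := by group
        _ = 1 := by rw [e, mul_one, mul_inv_cancel])
    refine mem_Ng_of_map_le ?_
    rintro _ ⟨x, hx, rfl⟩
    refine hcent _ ⟨2, ?_⟩ ?_
    · show orderOf (g * x * g⁻¹) ∣ _
      rw [orderOf_conj', ← hKc]
      exact Subgroup.orderOf_dvd_natCard K hx
    · show g * x * g⁻¹ * q = q * (g * x * g⁻¹)
      have hqz : q ∈ Cg z := (hcy z hz.1 hz1).ge (hQCK hqQ)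
      have hq' : g⁻¹ * q * g ∈ Cs K := by
        rw [← hcy _ hz' hz'1, mem_Cg]
        calc g⁻¹ * q * g * (g⁻¹ * z * g) = g⁻¹ * (q * z) * g := by group
          _ = g⁻¹ * (z * q) * g := by rw [mem_Cg.1 hqz]
          _ = g⁻¹ * z * g * (g⁻¹ * q * g) := by group
      calc g * x * g⁻¹ * q = g * (x * (g⁻¹ * q * g)) * g⁻¹ := by group
        _ = g * ((g⁻¹ * q * g) * x) * g⁻¹ := by rw [mem_Cs.1 hq' x hx]
        _ = q * (g * x * g⁻¹) := by group
  obtain ⟨ht1, ht2⟩ := inCard_spec T hTN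
  rw [inf_eq_right.2 hTK, hnK] at ht2
  have h3 := Small.card_sylow_mul_card_normalizer T
  rw [hG] at h3
  change Nat.card (Sylow 3 G) * Nat.card (Ng (T : Subgroup G)) = 95040 at h3
  have h31 := Small.card_sylow_mod 3 (G := G)
  have hd := Subgroup.card_dvd_of_le (Subgroup.le_normalizer : (T : Subgroup G) ≤ Ng (T : Subgroup G))
  rw [hT] at hd
  obtain ⟨d, hd⟩ := hd
  rw [hd] at ht2 h3
  have hd20 : d ∣ 20 := ⟨inCard 3 (Ng K), by
    have : inCard 3 (Ng K) * (27 * d) = 540 := by omega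
    nlinarith⟩
  have key2 : ∀ d ∈ Nat.divisors 20, (20 / d) % 3 = 1 → (3520 / d) % 3 ≠ 1 := by decide +kernel
  have hd0 : 0 < d := Nat.pos_of_dvd_of_pos hd20 (by norm_num)
  refine key2 d (Nat.mem_divisors.2 ⟨hd20, by norm_num⟩) ?_ ?_
  · rw [show 20 / d = inCard 3 (Ng K) from Nat.div_eq_of_eq_mul_left hd0 (by nlinarith)]
    exact ht1
  · rw [show 3520 / d = Nat.card (Sylow 3 G) from Nat.div_eq_of_eq_mul_left hd0 (by nlinarith)]
    exact h31

/-- An involution commutes with an element of order five. -/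
theorem exists_five_invol : ∃ w : G, orderOf w = 2 ∧ 5 ∣ Nat.card (Cg w) := by
  haveI := Fact.mk Nat.prime_five
  obtain ⟨Q⟩ : Nonempty (Sylow 5 G) := inferInstance
  have hQ := card_sylow_five hG Q
  obtain ⟨hN, hC⟩ := five_options hG Q
  have h2 : 2 ∣ Nat.card (Cs (Q : Subgroup G)) := by
    rcases hN with h | h | h | h | h | h <;> rw [h] at hC
    · omega
    · omega
    · exact (false_540 hG Q h hC).elim
    · omega
    · exact (false_90 hG Q h hC).elim
    · omega
  obtain ⟨w, hwC, hw⟩ := Small.Fusion.exists_orderOf Nat.prime_two h2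
  exact ⟨w, hw, hQ ▸ Subgroup.card_dvd_of_le (Small.sylow_le_centralizer_singleton Q hwC)⟩

end CfsgLib.MTwelveUnique
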