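import Cfsg.Agent.MTwelveUnique.ElevenB
import Cfsg.Agent.MTwelveUnique.DegreeCheck

/-!
A simple group of order 95040: the orders of the centralisers of involutions, given an involution
commuting with an element of order five.
-/

set_option autoImplicit false
set_option maxRecDepth 4000

open scoped Pointwise

namespace CfsgLib.MTwelveUnique

open CfsgLib.MElevenUnique (Cg Ng Cs mem_Cg)
open CfsgLib.Small.Check

variable {G : Type*} [Group G] [Finite G] [IsSimpleGroup G] (hG : Nat.card G = 95040)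
include hG

theorem Cg_card_mem_divisors [Fact (Nat.Prime 11)] {t : G} (ht : orderOf t = 2) :
    2 ∣ Nat.card (Cg t) ∧ Nat.card (Cg t) ∈ Nat.divisors 8640 ∧ Nat.card (Cg t) ≤ 8640 := by
  have ht1 : t ≠ 1 := fun e => by rw [e, orderOf_one] at ht; norm_num at ht
  refine ⟨ht ▸ Subgroup.orderOf_dvd_natCard _ (mem_Cg.2 rfl), Nat.mem_divisors.2 ⟨?_, by norm_num⟩,
    card_le' hG (Cg_ne_top' hG ht1)⟩
  have h := card_dvd' hG (Cg t)
  rw [show 95040 = 11 * 8640 by norm_num] at h
  exact (Nat.Coprime.symm ((show Nat.Prime 11 by norm_num).coprime_iff_not_dvd.2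
    (not_eleven_Cg' hG ht1 (by rw [ht]; norm_num)))).dvd_of_dvd_mul_left h

/-- Every involution centraliser has order 120, 192 or 240. -/
theorem invol_orders {w : G} (hw : orderOf w = 2) (h5 : 5 ∣ Nat.card (Cg w)) {t : G} (ht : orderOf t = 2) :
    Nat.card (Cg t) = 120 ∨ Nat.card (Cg t) = 192 ∨ Nat.card (Cg t) = 240 := by
  classical
  haveI : Fact (Nat.Prime 11) := ⟨by norm_num⟩
  haveI := Fact.mk Nat.prime_two
  obtain ⟨S⟩ : Nonempty (Sylow 2 G) := inferInstance
  have hS := card_sylow_two hG S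
  obtain ⟨z, hzS, hz, hzC⟩ := Small.Fusion.exists_central_involution S.2
    (Subgroup.le_normalizer (H := (S : Subgroup G))) (by rw [hS]; norm_num)
  have h64 : 64 ∣ Nat.card (Cg z) := hS ▸ Subgroup.card_dvd_of_le hzC
  obtain ⟨P⟩ : Nonempty (Sylow 11 G) := inferInstance
  by_contra hbad
  push Not at hbad
  obtain ⟨hb1, hb2, hb3⟩ := hbad
  have hP := card_sylow_eleven hG P
  have hC : Subgroup.centralizer ((P : Subgroup G) : Set G) = (P : Subgroup G) :=
    (Subgroup.eq_of_le_of_card_ge (GraphSimple.le_centralizer_of_cyclic_prime hP)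
      (by rw [hP]; exact (eleven_data hG P).2.le)).symm
  have hall : ∀ d ∈ Nat.divisors 8640, 2 ∣ d →
      (64 ∣ d → d ∈ centralOrders) ∧ (5 ∣ d → d ∈ fiveOrders) ∧
      (d ≠ 120 → d ≠ 192 → d ≠ 240 → d ∈ badOrders) := by decide +kernel
  obtain ⟨hz2, hzd, -⟩ := Cg_card_mem_divisors hG hz
  obtain ⟨hw2, hwd, -⟩ := Cg_card_mem_divisors hG hw
  obtain ⟨ht2, htd, -⟩ := Cg_card_mem_divisors hG ht
  have key := sel_eq_true_orth (not_comm hG) (P : Subgroup G) hP hC 5 2 309
    (by rw [(eleven_data hG P).1]) (by norm_num) (by norm_num) (by rw [hG]; norm_num) badPred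
    (by norm_num) (invol_not_conj_N11 hG P) (fun items V hV hcol => by
      simp only [hG] at hV
      unfold badPred
      rw [Bool.and_eq_true, List.any_eq_true, List.any_eq_true]
      refine ⟨⟨_, (hall _ hwd hw2).2.1 h5, ?_⟩, ⟨_, (hall _ hzd hz2).1 h64, ?_⟩⟩
      · have hne := List.ne_nil_of_mem (hV w hw)
        simpa [List.isEmpty_iff] using hne
      · rw [List.any_eq_true]
        refine ⟨V z, hV z hz, ?_⟩
        rw [List.any_eq_true]
        refine ⟨_, (hall _ htd ht2).2.2 hb1 hb2 hb3, ?_⟩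
        rw [List.any_eq_true]
        refine ⟨V t, hV t ht, ?_⟩
        rw [Bool.or_eq_true]
        by_cases hc : IsConj z t
        · left
          rw [show Nat.card (Cg t) = Nat.card (Cg z) from MElevenUnique.card_Cg_of_isConj hc]
          exact Nat.beq_refl _
        · exact Or.inr (hcol z t hz ht hc))
  rw [hG, badPred_search] at key
  exact Bool.false_ne_true key

theorem invol_orders_192 {w : G} (hw : orderOf w = 2) (h5 : 5 ∣ Nat.card (Cg w)) {t : G}
    (ht : orderOf t = 2) (h64 : 64 ∣ Nat.card (Cg t)) : Nat.card (Cg t) = 192 := by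
  rcases invol_orders hG hw h5 ht with h | h | h
  · rw [h] at h64; norm_num at h64
  · exact h
  · rw [h] at h64; norm_num at h64

end CfsgLib.MTwelveUnique
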