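import Cfsg.Agent.MTwelveUnique.Five
import Cfsg.Agent.MTwelveUnique.Orders

/-!
A simple group of order 95040: the Sylow 5-normaliser is small.
-/

set_option autoImplicit false

open scoped Pointwise
open MulAction

namespace CfsgLib.MTwelveUnique

open CfsgLib.MElevenUnique (Cg Ng Cs fixCard mem_Cg mem_Cs Cs_le_Ng inCard inCard_spec)

/-- A 2-element centralising one of six Sylow 5-subgroups of a group normalises all six. -/
theorem mem_Ng_of_six {G : Type*} [Group G] [Finite G] [Fact (Nat.Prime 5)]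
    (hall : ∀ R : Sylow 5 G, Nat.card (R : Subgroup G) = 5) {L : Subgroup G} {Q Q' : Sylow 5 G}
    (hQ : (Q : Subgroup G) ≤ L) (hQ' : (Q' : Subgroup G) ≤ L) (h6 : inCard 5 L = 6) {w : G} (hwL : w ∈ L)
    (hwQ : w ∈ Cs (Q : Subgroup G)) {k : ℕ} (hk : w ^ 2 ^ k = 1) : w ∈ Ng (Q' : Subgroup G) := by
  classical
  haveI := Fact.mk Nat.prime_two
  let X := {R : Sylow 5 G // (R : Subgroup G) ≤ L}
  letI : MulAction L X :=
    { smul := fun l R => ⟨(l : G) • R.1, by
        intro z hz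
        rw [Sylow.coe_subgroup_smul, Subgroup.mem_pointwise_smul_iff_inv_smul_mem, ← map_inv] at hz
        simp only [MulAut.smul_def, MulAut.conj_apply, inv_inv] at hz
        have := L.mul_mem (L.mul_mem l.2 (R.2 hz)) (L.inv_mem l.2)
        simpa [mul_assoc] using this⟩
      one_smul := fun R => Subtype.ext (one_smul G R.1)
      mul_smul := fun a b R => Subtype.ext (mul_smul (a : G) (b : G) R.1) }
  have hval : ∀ (l : L) (R : X), (l • R).1 = (l : G) • R.1 := fun _ _ => rfl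
  obtain ⟨q, hqQ, hq⟩ := Small.Fusion.exists_orderOf (H := (Q : Subgroup G)) Nat.prime_five
    (dvd_of_eq (hall Q).symm)
  set wL : L := ⟨w, hwL⟩
  set qL : L := ⟨q, hQ hqQ⟩
  have hc : Commute w q := (mem_Cs.1 hwQ q hqQ).symm
  have hinter : Nat.card {R : X // wL • R = R ∧ qL • R = R} = 1 := by
    rw [Nat.card_eq_one_iff_unique]
    refine ⟨⟨fun a b => Subtype.ext (Subtype.ext ?_)⟩, ⟨⟨⟨Q, hQ⟩, Subtype.ext ?_, Subtype.ext ?_⟩⟩⟩
    · exact (MElevenUnique.fixed_sylow_eq hall hq hqQ (congrArg Subtype.val a.2.2)).trans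
        (MElevenUnique.fixed_sylow_eq hall hq hqQ (congrArg Subtype.val b.2.2)).symm
    · exact MElevenUnique.smul_sylow_eq_iff.2 (Cs_le_Ng _ hwQ)
    · exact MElevenUnique.smul_sylow_eq_iff.2 (Subgroup.le_normalizer hqQ)
  have h1 := MElevenUnique.fix_modEq_inter (X := X) (x := wL) (y := qL) (Subtype.ext hc.eq)
    (Subtype.ext (by rw [SubmonoidClass.coe_pow, OneMemClass.coe_one]; exact hq ▸ pow_orderOf_eq_one q))
  rw [hinter] at h1
  have h2 : Nat.card X % 2 = fixCard X wL % 2 := by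
    have hX : IsPGroup 2 (Subgroup.zpowers wL) := by
      obtain ⟨j, -, hj⟩ := (Nat.dvd_prime_pow Nat.prime_two).1
        (orderOf_dvd_of_pow_eq_one (x := wL) (n := 2 ^ k) (Subtype.ext (by simpa using hk)))
      exact IsPGroup.of_card (n := j) (by rw [Nat.card_zpowers, hj])
    refine Eq.trans (hX.card_modEq_card_fixedPoints X) ?_
    congr 1
    refine Nat.card_congr (Equiv.subtypeEquivRight fun c => ⟨fun h => h ⟨wL, Subgroup.mem_zpowers _⟩,
      fun h z => ?_⟩)
    obtain ⟨j, hj⟩ := z.2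
    show (z : L) • c = c
    rw [← hj]
    exact (stabilizer L c).zpow_mem h j
  have h3 := MElevenUnique.fixCard_le (X := X) wL
  rw [show Nat.card X = 6 from h6] at h2 h3
  have h66 : fixCard X wL = 6 := by omega
  have hfix : (⟨Q', hQ'⟩ : X) ∈ fixedBy X wL := by
    have hu : fixedBy X wL = Set.univ := (Set.eq_univ_iff_ncard _).2 (by
      rw [← Nat.card_coe_set_eq]; exact h66.trans h6.symm)
    rw [hu]; trivial
  exact MElevenUnique.smul_sylow_eq_iff.1 (congrArg Subtype.val hfix)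

variable {G : Type*} [Group G] [Finite G] [IsSimpleGroup G] (hG : Nat.card G = 95040)
include hG

theorem invol_orders' {t : G} (ht : orderOf t = 2) :
    Nat.card (Cg t) = 120 ∨ Nat.card (Cg t) = 192 ∨ Nat.card (Cg t) = 240 :=
  let ⟨_, hw, h5⟩ := exists_five_invol hG
  invol_orders hG hw h5 ht

theorem invol_orders_192' {t : G} (ht : orderOf t = 2) (h64 : 64 ∣ Nat.card (Cg t)) :
    Nat.card (Cg t) = 192 :=
  let ⟨_, hw, h5⟩ := exists_five_invol hG
  invol_orders_192 hG hw h5 ht h64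

variable [Fact (Nat.Prime 5)] (Q : Sylow 5 G)

omit [IsSimpleGroup G] in
theorem exists_central_in_Cs {a : ℕ} {R : Subgroup G} (hRN : R ≤ Ng (Q : Subgroup G))
    (hR : Nat.card R = 2 ^ a)
    (hbig : Nat.card (Ng (Q : Subgroup G)) < Nat.card R * Nat.card (Cs (Q : Subgroup G))) :
    ∃ u ∈ Cs (Q : Subgroup G), u ∈ R ∧ orderOf u = 2 ∧ R ≤ Cg u ∧ 5 ∣ Nat.card (Cg u) := by
  haveI := Fact.mk Nat.prime_two
  obtain ⟨u, hu, hu2, huR⟩ := Small.Fusion.exists_central_involution (IsPGroup.of_card hR)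
    (le_Ng_inf Subgroup.le_normalizer (hRN.trans (Small.Fusion.N_le_normalizer_C Q)))
    (two_dvd_of_ne_bot ((IsPGroup.of_card hR).to_le inf_le_left)
      (inf_ne_bot_of_card hRN (Cs_le_Ng _) hbig))
  exact ⟨u, hu.2, hu.1, hu2, huR,
    card_sylow_five hG Q ▸ Subgroup.card_dvd_of_le (Small.sylow_le_centralizer_singleton Q hu.2)⟩

theorem false_8640 (hN : Nat.card (Ng (Q : Subgroup G)) = 8640)
    (hC : Nat.card (Cs (Q : Subgroup G)) * 2 = 8640 ∨ Nat.card (Cs (Q : Subgroup G)) * 4 = 8640) :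
    False := by
  obtain ⟨R, hRN, hR⟩ := Small.exists_two_subgroup_le (H := Ng (Q : Subgroup G)) (k := 6)
    (by rw [hN]; norm_num)
  obtain ⟨u, -, -, hu2, huR, h5⟩ := exists_central_in_Cs hG Q hRN hR (by rw [hR, hN]; omega)
  have h := invol_orders_192' hG hu2 (by
    have := Subgroup.card_dvd_of_le huR
    rw [hR] at this
    exact this)
  rw [h] at h5
  norm_num at h5

theorem false_1440 (hN : Nat.card (Ng (Q : Subgroup G)) = 1440)
    (hC : Nat.card (Cs (Q : Subgroup G)) * 2 = 1440 ∨ Nat.card (Cs (Q : Subgroup G)) * 4 = 1440) :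
    False := by
  obtain ⟨R, hRN, hR⟩ := Small.exists_two_subgroup_le (H := Ng (Q : Subgroup G)) (k := 5)
    (by rw [hN]; norm_num)
  obtain ⟨u, -, -, hu2, huR, h5⟩ := exists_central_in_Cs hG Q hRN hR (by rw [hR, hN]; omega)
  have h32 := Subgroup.card_dvd_of_le huR
  rw [hR] at h32
  rcases invol_orders' hG hu2 with h | h | h <;> rw [h] at h5 h32 <;> revert h5 h32 <;> norm_num

theorem false_240 (hN : Nat.card (Ng (Q : Subgroup G)) = 240)
    (hC : Nat.card (Cs (Q : Subgroup G)) * 2 = 240 ∨ Nat.card (Cs (Q : Subgroup G)) * 4 = 240) :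
    False := by
  haveI : Fact (Nat.Prime 11) := ⟨by norm_num⟩
  haveI := Fact.mk Nat.prime_two
  haveI := Fact.mk Nat.prime_three
  have hQ := card_sylow_five hG Q
  obtain ⟨R, hRN, hR⟩ := Small.exists_two_subgroup_le (H := Ng (Q : Subgroup G)) (k := 4)
    (by rw [hN]; norm_num)
  obtain ⟨u₀, hu₀C, -, hu₀2, hu₀R, -⟩ := exists_central_in_Cs hG Q hRN hR (by rw [hR, hN]; omega)
  -- central involutions of `R` inside the centraliser
  have hcen : ∀ u ∈ Cs (Q : Subgroup G), orderOf u = 2 → R ≤ Cg u → Cg u = Ng (Q : Subgroup G) := by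
    intro u huC hu2 huR
    have hQu : (Q : Subgroup G) ≤ Cg u := Small.sylow_le_centralizer_singleton Q huC
    obtain ⟨hn1, hn2⟩ := inCard_spec Q hQu
    have h80 : 80 ∣ Nat.card ↥(Cg u ⊓ Ng (Q : Subgroup G)) := by
      have h1 := Subgroup.card_dvd_of_le (le_inf huR hRN : R ≤ Cg u ⊓ Ng (Q : Subgroup G))
      have h2 := Subgroup.card_dvd_of_le
        (le_inf hQu Subgroup.le_normalizer : (Q : Subgroup G) ≤ Cg u ⊓ Ng (Q : Subgroup G))
      rw [hR] at h1
      rw [hQ] at h2
      exact (show Nat.Coprime (2 ^ 4) 5 by norm_num).mul_dvd_of_dvd_of_dvd h1 h2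
    have hd := Subgroup.card_dvd_of_le (inf_le_right : Cg u ⊓ Ng (Q : Subgroup G) ≤ _)
    rw [hN] at hd
    have hle := Nat.le_of_dvd (by norm_num) hd
    obtain ⟨c, hc⟩ := h80
    rw [hc] at hn2 hle
    have h240 : Nat.card (Cg u) = 240 := by
      rcases invol_orders' hG hu2 with h | h | h
      · rw [h, mul_comm, mul_assoc] at hn2; omega
      · rw [h, mul_comm, mul_assoc] at hn2; omega
      · exact h
    have hc3 : c = 3 := by
      rw [h240] at hn2
      have hm : inCard 5 (Cg u) * c = 3 := by nlinarith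
      have hm3 : inCard 5 (Cg u) ∣ 3 := ⟨c, hm.symm⟩
      rcases (Nat.dvd_prime Nat.prime_three).1 hm3 with h | h
      · rw [h] at hm; omega
      · rw [h] at hn1; norm_num at hn1
    refine ((Subgroup.eq_of_le_of_card_ge (inf_le_left : Cg u ⊓ Ng (Q : Subgroup G) ≤ _)
      (by rw [h240, hc, hc3])).symm.trans ?_)
    exact Subgroup.eq_of_le_of_card_ge inf_le_right (by rw [hN, hc, hc3])
  -- the 2-subgroup outside
  obtain ⟨S, hS⟩ := (IsPGroup.of_card hR).exists_le_sylow
  have hSN : (S : Subgroup G) ⊓ Ng (Q : Subgroup G) = R := by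
    symm
    refine Subgroup.eq_of_le_of_card_ge (le_inf hS hRN) ?_
    have h1 := Subgroup.card_dvd_of_le (inf_le_right : (S : Subgroup G) ⊓ Ng (Q : Subgroup G) ≤ _)
    have h2 := Subgroup.card_dvd_of_le (inf_le_left : (S : Subgroup G) ⊓ Ng (Q : Subgroup G) ≤ _)
    rw [hN] at h1
    rw [card_sylow_two hG S] at h2
    have h3 := Nat.dvd_gcd h1 h2
    rw [show Nat.gcd 240 64 = 16 by norm_num] at h3
    rw [hR]
    exact (Nat.le_of_dvd (by norm_num) h3).trans_eq (by norm_num)
  have hRS : R ≠ (S : Subgroup G) := fun e => by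
    have := card_sylow_two hG S
    rw [← e, hR] at this
    norm_num at this
  obtain ⟨t, htS, htR, htn⟩ := exists_normalizing_not_mem S.2 hS hRS
  set R₀ := R ⊓ Cs (Q : Subgroup G) with hR₀
  have hRC : R ≤ Ng (Cs (Q : Subgroup G)) := hRN.trans (Small.Fusion.N_le_normalizer_C Q)
  have hRR₀ : R ≤ Ng R₀ := le_Ng_inf Subgroup.le_normalizer hRC
  have hR₀' : R₀.map (MulAut.conj t).toMonoidHom ≤ R := by
    rintro _ ⟨x, hx, rfl⟩
    exact conj_mem_of_mem_Ng htn hx.1
  have hdisj : R₀ ⊓ R₀.map (MulAut.conj t).toMonoidHom = ⊥ := by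
    by_contra hne
    obtain ⟨u, hu, hu2, huR⟩ := Small.Fusion.exists_central_involution (IsPGroup.of_card hR)
      (le_Ng_inf hRR₀ (le_Ng_map_conj hRR₀ htn))
      (two_dvd_of_ne_bot ((IsPGroup.of_card hR).to_le (inf_le_left.trans inf_le_left)) hne)
    have h1 := hcen u hu.1.2 hu2 huR
    have h2 : Cg (t⁻¹ * u * t) = Ng (Q : Subgroup G) := by
      refine hcen _ (mem_map_conj.1 hu.2).2 ?_ ?_
      · have := orderOf_conj' t⁻¹ u
        rwa [inv_inv, hu2] at this
      · intro r hr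
        have h := mem_Cg.1 (huR (conj_mem_of_mem_Ng htn hr))
        rw [mem_Cg]
        calc r * (t⁻¹ * u * t) = t⁻¹ * ((t * r * t⁻¹) * u) * t := by group
          _ = t⁻¹ * (u * (t * r * t⁻¹)) * t := by rw [h]
          _ = t⁻¹ * u * t * r := by group
    have htN : t ∈ Ng (Ng (Q : Subgroup G)) := by
      refine mem_Ng_of_map_le ?_
      rintro _ ⟨x, hx, rfl⟩
      show t * x * t⁻¹ ∈ Ng (Q : Subgroup G)
      rw [← h1, mem_Cg]
      have h := mem_Cg.1 (h2.ge hx)
      calc t * x * t⁻¹ * u = t * (x * (t⁻¹ * u * t)) * t⁻¹ := by group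
        _ = t * (t⁻¹ * u * t * x) * t⁻¹ := by rw [h]
        _ = u * (t * x * t⁻¹) := by group
    have htQ : t ∈ Ng (Q : Subgroup G) := by
      refine mem_Ng_of_map_le ?_
      rintro _ ⟨x, hx, rfl⟩
      by_cases hx1 : x = 1
      · simp [hx1]
      refine MElevenUnique.mem_sylow_of_normalizes (k := 1) ?_
        (conj_mem_of_mem_Ng htN (Subgroup.le_normalizer hx))
      show orderOf (t * x * t⁻¹) = 5 ^ 1
      rw [orderOf_conj', pow_one]
      exact Small.orderOf_eq_of_mem_prime hQ hx hx1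
    exact htR (hSN ▸ ⟨htS, htQ⟩)
  -- hence the centraliser has order sixty
  have hC60 : Nat.card (Cs (Q : Subgroup G)) = 60 := by
    rcases hC with h | h
    swap
    · omega
    exfalso
    have h1 : ¬ Nat.card R < Nat.card R₀ * Nat.card (R₀.map (MulAut.conj t).toMonoidHom : Subgroup G) :=
      fun hlt => inf_ne_bot_of_card (inf_le_left : R₀ ≤ R) hR₀' hlt hdisj
    rw [card_map_conj, hR] at h1
    have h2 := GraphSimple.relIndex_mul_card (H := R₀) (K := R) inf_le_left
    have h3 : R₀.relIndex R ≤ (Cs (Q : Subgroup G)).relIndex (Ng (Q : Subgroup G)) := by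
      rw [hR₀, inf_comm, Subgroup.inf_relIndex_right]
      exact Subgroup.relIndex_le_of_le_right hRN Subgroup.index_ne_zero_of_finite
    have h4 : Nat.card (Cs (Q : Subgroup G)) * (Cs (Q : Subgroup G)).relIndex (Ng (Q : Subgroup G))
        = Nat.card (Ng (Q : Subgroup G)) := Small.card_centralizer_mul_relIndex _
    rw [hN] at h4
    have h5 : (Cs (Q : Subgroup G)).relIndex (Ng (Q : Subgroup G)) = 2 := by
      rw [show Nat.card (Cs (Q : Subgroup G)) = 120 by omega] at h4
      omega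
    rw [h5] at h3
    rw [hR] at h2
    rw [show (2 : ℕ) ^ 4 = 16 by norm_num] at h1 h2
    have h8 : 8 ≤ Nat.card R₀ := by
      have := Nat.mul_le_mul_right (Nat.card R₀) h3
      omega
    have := Nat.mul_le_mul h8 h8
    omega
  -- a normal subgroup of order three
  have hu₀N : Cg u₀ = Ng (Q : Subgroup G) := hcen u₀ hu₀C hu₀2 hu₀R
  have hCN := Cs_le_Ng (Q : Subgroup G)
  obtain ⟨T⟩ : Nonempty (Sylow 3 (Cs (Q : Subgroup G))) := inferInstance
  have hT : Nat.card (T : Subgroup (Cs (Q : Subgroup G))) = 3 ^ 1 :=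
    Small.card_sylow_eq (k := 1) (m := 20) (by rw [hC60]; norm_num) (by norm_num) T
  have hT1 : Nat.card (Sylow 3 (Cs (Q : Subgroup G))) = 1 := by
    have h1 := Small.card_sylow_mul_card_normalizer T
    rw [hC60] at h1
    have h2 := Small.card_sylow_mod 3 (G := Cs (Q : Subgroup G))
    set M := Subgroup.normalizer ((T : Subgroup (Cs (Q : Subgroup G))) : Set (Cs (Q : Subgroup G)))
    have hcenter : ∀ x (hx : x ∈ Cs (Q : Subgroup G)),
        (∀ c ∈ Cs (Q : Subgroup G), c * x = x * c) → (⟨x, hx⟩ : Cs (Q : Subgroup G)) ∈ M :=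
      fun x hx hc => Subgroup.center_le_normalizer _
        (Subgroup.mem_center_iff.2 fun c => Subtype.ext (hc c c.2))
    obtain ⟨q, hqQ, hq⟩ := Small.Fusion.exists_orderOf (H := (Q : Subgroup G)) Nat.prime_five
      (dvd_of_eq hQ.symm)
    have hq' := Subgroup.orderOf_dvd_natCard M (hcenter q (GraphSimple.le_centralizer_of_cyclic_prime hQ hqQ)
      fun c hc => (mem_Cs.1 hc q hqQ).symm)
    have hu' := Subgroup.orderOf_dvd_natCard M (hcenter u₀ hu₀C
      fun c hc => mem_Cg.1 (hu₀N.ge (hCN hc)))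
    have hT' := Subgroup.card_dvd_of_le (Subgroup.le_normalizer (H := (T : Subgroup (Cs (Q : Subgroup G)))))
    rw [← Subgroup.orderOf_coe] at hq' hu'
    simp only at hq' hu'
    rw [hq] at hq'
    rw [hu₀2] at hu'
    rw [hT] at hT'
    change 3 ^ 1 ∣ Nat.card M at hT'
    change Nat.card (Sylow 3 (Cs (Q : Subgroup G))) * Nat.card M = 60 at h1
    have h30 : 30 ∣ Nat.card M := (show Nat.Coprime 10 (3 ^ 1) by norm_num).mul_dvd_of_dvd_of_dvd
      ((show Nat.Coprime 5 2 by norm_num).mul_dvd_of_dvd_of_dvd hq' hu') hT'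
    obtain ⟨c, hc⟩ := h30
    rw [hc] at h1
    have : Nat.card (Sylow 3 (Cs (Q : Subgroup G))) ∣ 2 := ⟨c, by
      rw [mul_comm 30 c, ← mul_assoc] at h1
      omega⟩
    rcases (Nat.dvd_prime Nat.prime_two).1 this with h | h
    · exact h
    · rw [h] at h2; norm_num at h2
  obtain ⟨Y, hYC, hY, -, hYm⟩ := unique_of_sylow_one T hT1 hT (by rw [hC60]; norm_num)
  have hNY : Ng (Q : Subgroup G) ≤ Ng Y :=
    le_Ng_of_all_mem hYC hY (Small.Fusion.N_le_normalizer_C Q) hYm
  have hn5 : Nat.card (Sylow 5 G) = 396 := by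
    have h := Small.card_sylow_mul_card_normalizer Q
    rw [hG] at h
    change Nat.card (Sylow 5 G) * Nat.card (Ng (Q : Subgroup G)) = 95040 at h
    rw [hN] at h
    omega
  obtain ⟨n, hn1, hne, hnY⟩ := card_normalizer_trick Q (hYC.trans hCN) hNY hY (by rw [hN]; norm_num)
    (by rw [hn5]; norm_num)
  rw [hN] at hnY
  have hle := card_le' hG (Ng_ne_top' hG (A := Y) (by rw [hY]; norm_num) (by rw [hY]; norm_num))
  have hdvd := card_dvd' hG (Ng Y)
  have h11 := not_eleven_Ng hG (A := Y) (by rw [hY]; norm_num) (by rw [hY]; norm_num) (by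
    rw [hY]; exact forall_dvd_of_divisors (by norm_num) (by decide +kernel))
  rw [hnY] at hle hdvd h11
  have key : ∀ n ∈ Finset.range 37, n % 5 = 1 → n ≠ 1 → ¬ 11 ∣ n * 240 → n * 240 ∣ 95040 →
      n = 6 ∨ n = 36 := by decide +kernel
  obtain ⟨q, hqQ, hq⟩ := Small.Fusion.exists_orderOf (H := (Q : Subgroup G)) Nat.prime_five
    (dvd_of_eq hQ.symm)
  have hq1 : q ≠ 1 := fun e => by rw [e, orderOf_one] at hq; norm_num at hq
  rcases key n (Finset.mem_range.2 (by omega)) hn1 hne h11 hdvd with rfl | rfl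
  · -- six Sylow subgroups normalise `Y`
    have hQY : (Q : Subgroup G) ≤ Ng Y := Subgroup.le_normalizer.trans hNY
    obtain ⟨-, hm2⟩ := inCard_spec Q hQY
    rw [inf_eq_right.2 hNY, hnY, hN] at hm2
    have h6 : inCard 5 (Ng Y) = 6 := by omega
    obtain ⟨⟨Q', hQ'Y⟩, hQ'⟩ : ∃ R : {R : Sylow 5 G // (R : Subgroup G) ≤ Ng Y}, R.1 ≠ Q := by
      by_contra hc
      push Not at hc
      have : inCard 5 (Ng Y) ≤ 1 := by
        haveI : Subsingleton {R : Sylow 5 G // (R : Subgroup G) ≤ Ng Y} :=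
          ⟨fun a b => Subtype.ext ((hc a).trans (hc b).symm)⟩
        exact Finite.card_le_one_iff_subsingleton.2 this
      omega
    have hwY : u₀ ∈ Ng Y := hNY (hCN hu₀C)
    have hwQ' : u₀ ∈ Ng (Q' : Subgroup G) := mem_Ng_of_six (fun R => card_sylow_five hG R)
      hQY hQ'Y h6 hwY hu₀C (k := 1) (by rw [pow_one, ← hu₀2, pow_orderOf_eq_one])
    refine hQ' (Sylow.ext (Subgroup.eq_of_le_of_card_ge (fun a ha => ?_)
      (by rw [card_sylow_five hG Q', hQ])))
    have haY := hQ'Y ha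
    -- a commutator lies in both `Q'` and `N(Q)`
    set c := a⁻¹ * u₀ * a * u₀⁻¹ with hc
    have hcQ' : c ∈ (Q' : Subgroup G) := by
      rw [show c = a⁻¹ * (u₀ * a * u₀⁻¹) by rw [hc]; group]
      exact mul_mem (inv_mem ha) (conj_mem_of_mem_Ng hwQ' ha)
    have huN : u₀ ∈ Ng (Q : Subgroup G) := hCN hu₀C
    have hsix' : a⁻¹ * u₀ * a ∈ Ng (Q : Subgroup G) := by
      have hfix : u₀ • (a • Q) = a • Q := by
        rw [MElevenUnique.smul_sylow_eq_iff]
        refine mem_Ng_of_six (fun R => card_sylow_five hG R) hQY ?_ h6 hwY hu₀C (k := 1)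
          (by rw [pow_one, ← hu₀2, pow_orderOf_eq_one])
        intro z hz
        rw [Sylow.coe_subgroup_smul, Subgroup.mem_pointwise_smul_iff_inv_smul_mem, ← map_inv] at hz
        simp only [MulAut.smul_def, MulAut.conj_apply, inv_inv] at hz
        have := mul_mem (mul_mem haY (hQY hz)) (inv_mem haY)
        simpa [mul_assoc] using this
      rw [← MElevenUnique.smul_sylow_eq_iff, ← smul_smul, ← smul_smul, hfix, inv_smul_smul]
    have hcN : c ∈ Ng (Q : Subgroup G) := mul_mem hsix' (inv_mem huN)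
    by_contra haQ
    have hc1 : c = 1 := by
      by_contra hc1
      have hcQ := MElevenUnique.mem_sylow_of_normalizes (k := 1)
        (by rw [pow_one]; exact Small.orderOf_eq_of_mem_prime (card_sylow_five hG Q') hcQ' hc1) hcN
      rw [← Small.eq_zpowers_of_mem_prime (card_sylow_five hG Q') hcQ' hc1,
        Small.eq_zpowers_of_mem_prime hQ hcQ hc1] at ha
      exact haQ ha
    have ha1 : a ≠ 1 := fun e => haQ (e ▸ one_mem _)
    have haN : a ∈ Ng (Q : Subgroup G) := by
      rw [← hu₀N, mem_Cg]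
      rw [hc, mul_inv_eq_one] at hc1
      calc a * u₀ = a * (a⁻¹ * u₀ * a) := by rw [hc1]
        _ = u₀ * a := by group
    exact haQ (MElevenUnique.mem_sylow_of_normalizes (k := 1)
      (by rw [pow_one]; exact Small.orderOf_eq_of_mem_prime (card_sylow_five hG Q') ha ha1) haN)
  · -- index eleven
    obtain ⟨y, hyY, hy⟩ := Small.Fusion.exists_orderOf (H := Y) Nat.prime_three (by rw [hY]; norm_num)
    refine false_index_eleven hG (H := Ng Y) (by rw [hnY]) hq hy ((mem_Cs.1 (hYC hyY) q hqQ).symm)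
      fun g hg => ?_
    have ho : orderOf (g⁻¹ * q * g) = 5 := by
      have := orderOf_conj' g⁻¹ q
      rwa [inv_inv, hq] at this
    have hcY := GraphSimple.le_centralizer_of_mod (p := 5) (H := Subgroup.zpowers (g⁻¹ * q * g)) (Q := Y)
      (IsPGroup.of_card (n := 1) (by rw [Nat.card_zpowers, ho, pow_one]))
      (Subgroup.zpowers_le.2 hg) (by rw [hY]; exact forall_dvd_of_divisors (by norm_num) (by decide +kernel))
    refine Subgroup.le_normalizer (conj_mem_of_mem_Ng' (mem_Ng_of_map_le ?_) hyY)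
    rintro _ ⟨x, hx, rfl⟩
    refine hYm _ (Small.mem_centralizer_of_commute_prime hQ hqQ hq1 ?_) 1 ?_
    · show g * x * g⁻¹ * q = q * (g * x * g⁻¹)
      calc g * x * g⁻¹ * q = g * (x * (g⁻¹ * q * g)) * g⁻¹ := by group
        _ = g * ((g⁻¹ * q * g) * x) * g⁻¹ := by rw [mem_Cs.1 (hcY hx) _ (Subgroup.mem_zpowers _)]
        _ = q * (g * x * g⁻¹) := by group
    · show orderOf (g * x * g⁻¹) ∣ _
      rw [orderOf_conj', ← hY]
      exact Subgroup.orderOf_dvd_natCard Y hx

end CfsgLib.MTwelveUnique
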