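import Cfsg.Agent.MTwelveUnique.Basic

/-!
Centralisers of elements of order three in a group with Sylow 3-subgroups of order 27.
-/

set_option autoImplicit false

open scoped Pointwise

namespace CfsgLib.MTwelveUnique

open CfsgLib.MElevenUnique (Cg Ng Cs mem_Cg mem_Cs)

variable {G : Type*} [Group G] [Finite G] [Fact (Nat.Prime 3)]
  (h27 : ∀ T : Sylow 3 G, Nat.card (T : Subgroup G) = 27)
include h27

theorem nine_dvd_Cg {y : G} (hy : orderOf y = 3) : 9 ∣ Nat.card (Cg y) := by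
  obtain ⟨T, hyT⟩ := exists_sylow_mem hy
  have hT : IsPGroup 3 (T : Subgroup G) := T.2
  set D := (T : Subgroup G) ⊓ Cg y with hD
  have hz : Subgroup.zpowers y ≤ D := Subgroup.zpowers_le.2 ⟨hyT, mem_Cg.2 rfl⟩
  have hd : Nat.card D ∣ 27 := h27 T ▸ Subgroup.card_dvd_of_le inf_le_left
  suffices h9 : 9 ∣ Nat.card D from h9.trans (Subgroup.card_dvd_of_le inf_le_right)
  have h3 : 3 ∣ Nat.card D := by
    rw [← hy, ← Nat.card_zpowers]; exact Subgroup.card_dvd_of_le hz
  have key : ∀ d ∈ Nat.divisors 27, 3 ∣ d → d ≠ 3 → 9 ∣ d := by decide +kernel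
  refine key _ (Nat.mem_divisors.2 ⟨hd, by norm_num⟩) h3 fun he => ?_
  have hDy : Subgroup.zpowers y = D :=
    Subgroup.eq_of_le_of_card_ge hz (by rw [he, Nat.card_zpowers, hy])
  haveI : Nontrivial (T : Subgroup G) := by
    rw [← Finite.one_lt_card_iff_nontrivial, h27 T]; norm_num
  obtain ⟨⟨c, hc⟩, hc1⟩ := @exists_ne _ hT.center_nontrivial 1
  have hc' : ∀ t ∈ (T : Subgroup G), t * (c : G) = (c : G) * t := fun t ht =>
    congrArg Subtype.val (Subgroup.mem_center_iff.1 hc ⟨t, ht⟩)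
  have hcD : (c : G) ∈ Subgroup.zpowers y := by
    rw [hDy]; exact ⟨c.2, mem_Cg.2 (hc' y hyT).symm⟩
  have hcz : Subgroup.zpowers (c : G) = Subgroup.zpowers y := Small.eq_zpowers_of_mem_prime
    (p := 3) (by rw [Nat.card_zpowers, hy]) hcD fun e => hc1 (Subtype.ext (Subtype.ext e))
  have hle : (T : Subgroup G) ≤ D := by
    intro t ht
    refine ⟨ht, mem_Cg.2 ?_⟩
    have hyc : y ∈ Subgroup.zpowers (c : G) := hcz ▸ Subgroup.mem_zpowers y
    obtain ⟨k, hk⟩ := hyc
    rw [← hk]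
    exact ((show Commute t (c : G) from hc' t ht).zpow_right k).eq
  have := Subgroup.card_le_of_le hle
  rw [h27 T, he] at this
  omega

end CfsgLib.MTwelveUnique
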