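import Cfsg.Agent.MTwelveUnique.SixPoints
import Cfsg.Agent.MTwelveUnique.ThreeTools

/-!
A simple group of order 95040: the centraliser of a Sylow 5-subgroup has order ten.
-/

set_option autoImplicit false

open scoped Pointwise
open MulAction

namespace CfsgLib.MTwelveUnique

open CfsgLib.MElevenUnique (Cg Ng Cs fixCard mem_Cg mem_Cs Cs_le_Ng inCard inCard_spec)

variable {G : Type*} [Group G] [Finite G] [IsSimpleGroup G] (hG : Nat.card G = 95040)
  [Fact (Nat.Prime 5)] {Q : Sylow 5 G}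
include hG

omit [IsSimpleGroup G] in
theorem card_Cs_five_eq (R : Sylow 5 G) :
    Nat.card (Cs (R : Subgroup G)) = Nat.card (Cs (Q : Subgroup G)) := by
  haveI : Finite (Sylow 5 G) := inferInstance
  obtain ⟨g, rfl⟩ := MulAction.exists_smul_eq G Q R
  have hQ := card_sylow_five hG Q
  have hR := card_sylow_five hG (g • Q)
  obtain ⟨q, hqQ, hq⟩ := Small.Fusion.exists_orderOf (H := (Q : Subgroup G)) Nat.prime_five
    (dvd_of_eq hQ.symm)
  have hq1 : q ≠ 1 := fun e => by rw [e, orderOf_one] at hq; norm_num at hq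
  have hmem : g * q * g⁻¹ ∈ ((g • Q : Sylow 5 G) : Subgroup G) := by
    rw [Sylow.coe_subgroup_smul, Subgroup.mem_pointwise_smul_iff_inv_smul_mem, ← map_inv]
    simp only [MulAut.smul_def, MulAut.conj_apply, inv_inv]
    simpa [mul_assoc] using hqQ
  rw [show Cs ((g • Q : Sylow 5 G) : Subgroup G) = Cg (g * q * g⁻¹) from
      (Small.centralizer_singleton_eq_of_prime hR hmem (fun e => hq1 (conj_eq_one_iff.1 e))).symm,
    show Cs (Q : Subgroup G) = Cg q from (Small.centralizer_singleton_eq_of_prime hQ hqQ hq1).symm,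
    MElevenUnique.card_Cg_conj]

/-- An involution of `C(Q)` central in a Sylow 2-subgroup of `N(Q)`. -/
theorem central_data (hN : Nat.card (Ng (Q : Subgroup G)) = 40) {R : Subgroup G}
    (hR : Nat.card R = 2 ^ 3) (hRN : R ≤ Ng (Q : Subgroup G)) {u : G} (huC : u ∈ Cs (Q : Subgroup G))
    (hu : orderOf u = 2) (huR : R ≤ Cg u) :
    Ng (Q : Subgroup G) ≤ Cg u ∧ Nat.card (Cg u) = 240 ∧ inCard 5 (Cg u) = 6 := by
  have hQ := card_sylow_five hG Q
  have hQu : (Q : Subgroup G) ≤ Cg u := Small.sylow_le_centralizer_singleton Q huC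
  obtain ⟨hn1, hn2⟩ := inCard_spec Q hQu
  have h40 : Nat.card ↥(Cg u ⊓ Ng (Q : Subgroup G)) = 40 := by
    have h1 := Subgroup.card_dvd_of_le (le_inf huR hRN : R ≤ Cg u ⊓ Ng (Q : Subgroup G))
    have h2 := Subgroup.card_dvd_of_le
      (le_inf hQu Subgroup.le_normalizer : (Q : Subgroup G) ≤ Cg u ⊓ Ng (Q : Subgroup G))
    have h3 := Subgroup.card_dvd_of_le (inf_le_right : Cg u ⊓ Ng (Q : Subgroup G) ≤ _)
    rw [hR] at h1
    rw [hQ] at h2
    rw [hN] at h3
    exact Nat.dvd_antisymm h3 ((show Nat.Coprime (2 ^ 3) 5 by norm_num).mul_dvd_of_dvd_of_dvd h1 h2)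
  refine ⟨inf_eq_right.1 (Subgroup.eq_of_le_of_card_ge inf_le_right (by rw [h40, hN])), ?_⟩
  rw [h40] at hn2
  rcases invol_orders' hG hu with h | h | h <;> rw [h] at hn2 <;> omega

theorem false_C20 (hN : Nat.card (Ng (Q : Subgroup G)) = 40)
    (hC : Nat.card (Cs (Q : Subgroup G)) = 20) : False := by
  classical
  haveI : Fact (Nat.Prime 11) := ⟨by norm_num⟩
  haveI := Fact.mk Nat.prime_two
  haveI := Fact.mk Nat.prime_three
  have hQ := card_sylow_five hG Q
  have hall : ∀ R : Sylow 5 G, Nat.card (R : Subgroup G) = 5 := fun R => card_sylow_five hG R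
  have hCN := Cs_le_Ng (Q : Subgroup G)
  -- the Sylow 2-subgroup `K` of the centraliser
  obtain ⟨K, hKC, -, hKc, -, hKm⟩ := exists_complement (p := 5) (a := 1) (L := Cs (Q : Subgroup G))
    (H := (Q : Subgroup G)) (GraphSimple.le_centralizer_of_cyclic_prime hQ) (by rw [hQ, pow_one])
    (by rw [hC]; norm_num) inf_le_left
  have hK : Nat.card K = 2 ^ 2 := by rw [hC] at hKc; norm_num; omega
  have hK2 : ∀ x ∈ Cs (Q : Subgroup G), ∀ k, orderOf x ∣ 2 ^ k → x ∈ K := fun x hx k hk =>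
    hKm x hx fun h5 => absurd (Nat.prime_five.dvd_of_dvd_pow (h5.trans hk)) (by norm_num)
  have hKord : ∀ x ∈ K, orderOf x ∣ 2 ^ 2 := fun x hx => hK ▸ Subgroup.orderOf_dvd_natCard K hx
  have hKab : ∀ a ∈ K, ∀ b ∈ K, b * a = a * b := fun a ha b hb =>
    mem_Cg.1 (Small.le_centralizer_of_card_sq (p := 2) hK ha hb)
  obtain ⟨R, hKR, hRN, hR⟩ := exists_sylow_le (q := 2) (b := 3) (hKC.trans hCN) (IsPGroup.of_card hK)
    (by rw [hN]; norm_num) (by rw [hN]; norm_num)
  obtain ⟨w, hwC, -, hw, hwR, -⟩ := exists_central_in_Cs hG Q hRN hR (by rw [hR, hN, hC]; norm_num)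
  have hwK : w ∈ K := hK2 w hwC 1 (by rw [hw, pow_one])
  obtain ⟨hNw, hW, h6⟩ := central_data hG hN hR hRN hwC hw hwR
  have hQw : (Q : Subgroup G) ≤ Cg w := Subgroup.le_normalizer.trans hNw
  -- `K` centralises the six Sylow 5-subgroups of `C(w)`
  have hKall : ∀ k ∈ K, ∀ R' : Sylow 5 G, (R' : Subgroup G) ≤ Cg w → k ∈ Cs (R' : Subgroup G) :=
    fun k hk R' hR' => mem_Cs_of_six hall hQw hR' h6 (hNw (hCN (hKC hk))) (hKC hk) (hKord k hk)
  have hWK : Cg w ≤ Ng K := by
    intro l hl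
    refine mem_Ng_of_map_le ?_
    rintro _ ⟨k, hk, rfl⟩
    refine hK2 _ ?_ 2 (by show orderOf (l * k * l⁻¹) ∣ _; rw [orderOf_conj']; exact hKord k hk)
    rw [mem_Cs]
    intro a ha
    have hmem : l⁻¹ * a * l ∈ ((l⁻¹ • Q : Sylow 5 G) : Subgroup G) := by
      rw [Sylow.coe_subgroup_smul, Subgroup.mem_pointwise_smul_iff_inv_smul_mem, ← map_inv]
      simp only [MulAut.smul_def, MulAut.conj_apply, inv_inv]
      simpa [mul_assoc] using ha
    have h := mem_Cs.1 (hKall k hk _ (smul_sylow_le hQw (inv_mem hl))) _ hmem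
    show a * (l * k * l⁻¹) = l * k * l⁻¹ * a
    calc a * (l * k * l⁻¹) = l * ((l⁻¹ * a * l) * k) * l⁻¹ := by group
      _ = l * (k * (l⁻¹ * a * l)) * l⁻¹ := by rw [h]
      _ = l * k * l⁻¹ * a := by group
  have hCcomm : Cs (Q : Subgroup G) ≤ Cs K := by
    have a1 : K ≤ Cs (Q : Subgroup G) ⊓ Cs K :=
      le_inf hKC fun a ha => mem_Cs.2 fun b hb => hKab a ha b hb
    have a2 : (Q : Subgroup G) ≤ Cs (Q : Subgroup G) ⊓ Cs K :=
      le_inf (GraphSimple.le_centralizer_of_cyclic_prime hQ) fun a ha =>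
        mem_Cs.2 fun b hb => (mem_Cs.1 (hKC hb) a ha).symm
    refine inf_eq_left.1 (Subgroup.eq_of_le_of_card_ge inf_le_left ?_)
    have b1 := Subgroup.card_dvd_of_le a1
    have b2 := Subgroup.card_dvd_of_le a2
    rw [hK] at b1
    rw [hQ] at b2
    rw [hC]
    exact Nat.le_of_dvd Nat.card_pos
      ((show Nat.Coprime (2 ^ 2) 5 by norm_num).mul_dvd_of_dvd_of_dvd b1 b2)
  -- no proper subgroup of `C(w)` contains `C(Q)` and the six Sylow 5-subgroups
  have hproper : ∀ E ≤ Cg w, Cs (Q : Subgroup G) ≤ E →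
      (∀ R' : Sylow 5 G, (R' : Subgroup G) ≤ Cg w → (R' : Subgroup G) ≤ E) → E = Cg w := by
    intro E hEW hCE hsix
    by_contra hne
    have hQE := hsix Q hQw
    obtain ⟨-, he2⟩ := inCard_spec Q hQE
    have hin : inCard 5 E = 6 := by
      rw [← h6]
      exact Nat.card_congr (Equiv.subtypeEquivRight fun R' => ⟨fun h => h.trans hEW, hsix R'⟩)
    rw [hin] at he2
    have h1 := Subgroup.card_dvd_of_le (le_inf hCE hCN)
    have h2 := Subgroup.card_dvd_of_le (inf_le_right : E ⊓ Ng (Q : Subgroup G) ≤ _)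
    rw [hC] at h1
    rw [hN] at h2
    have h2' := Nat.le_of_dvd (by norm_num) h2
    obtain ⟨c, hc⟩ := h1
    have h3 : Nat.card E ≠ 240 := fun h => hne (Subgroup.eq_of_le_of_card_ge hEW (by rw [h, hW]))
    have hk : Nat.card ↥(E ⊓ Ng (Q : Subgroup G)) = 20 := by
      have := Nat.card_pos (α := E)
      omega
    have hEN : E ⊓ Ng (Q : Subgroup G) ≤ Cs (Q : Subgroup G) :=
      (Subgroup.eq_of_le_of_card_ge (le_inf hCE hCN) (by rw [hk, hC])).ge
    rw [hk] at he2
    obtain ⟨M, -, hEM, hMc, hM5, -⟩ := exists_complement (p := 5) (a := 1) hQE (by rw [hQ, pow_one])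
      (by rw [he2]; norm_num) hEN
    rw [he2] at hMc
    obtain ⟨Y, -, hYc, -, hYC⟩ := exists_centralised_sylow (q := 3) (b := 1) hQ (hQE.trans hEM) hM5
      (by rw [show Nat.card M = 24 by omega]; norm_num) (by rw [show Nat.card M = 24 by omega]; norm_num)
      (forall_dvd_of_divisors (by norm_num) (by decide +kernel))
    have h := Subgroup.card_dvd_of_le hYC
    change _ ∣ Nat.card (Cs (Q : Subgroup G)) at h
    rw [hYc, hC] at h
    norm_num at h
  have hQK : ∀ R' : Sylow 5 G, (R' : Subgroup G) ≤ Cg w → (R' : Subgroup G) ≤ Cs K := fun R' hR' a ha =>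
    mem_Cs.2 fun k hk => (mem_Cs.1 (hKall k hk R' hR') a ha).symm
  have hCK : Cs K = Cg w := by
    have hsub : Cs K ≤ Cg w := Subgroup.centralizer_le (Set.singleton_subset_iff.2 hwK)
    exact hproper _ hsub hCcomm hQK
  have hcenK : ∀ k ∈ K, ∀ x ∈ Cg w, k * x = x * k := fun k hk x hx => mem_Cs.1 (hCK.ge hx) k hk
  -- a Sylow 2-subgroup of `C(w)`
  obtain ⟨S, hKS, hSW, hS⟩ := exists_sylow_le (q := 2) (b := 4)
    (hKC.trans (hCN.trans hNw)) (IsPGroup.of_card hK) (by rw [hW]; norm_num) (by rw [hW]; norm_num)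
  obtain ⟨T, hT⟩ := (IsPGroup.of_card hS).exists_le_sylow
  have hTW : (T : Subgroup G) ⊓ Cg w = S := by
    symm
    refine Subgroup.eq_of_le_of_card_ge (le_inf hT hSW) ?_
    have h1 := Subgroup.card_dvd_of_le (inf_le_right : (T : Subgroup G) ⊓ Cg w ≤ _)
    have h2 := Subgroup.card_dvd_of_le (inf_le_left : (T : Subgroup G) ⊓ Cg w ≤ _)
    rw [hW] at h1
    rw [card_sylow_two hG T] at h2
    have h3 := Nat.dvd_gcd h1 h2
    rw [show Nat.gcd 240 64 = 16 by norm_num] at h3
    rw [hS]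
    exact (Nat.le_of_dvd (by norm_num) h3).trans_eq (by norm_num)
  obtain ⟨n, hnT, hnS, hnn⟩ := exists_normalizing_not_mem T.2 hT (fun e => by
    have := card_sylow_two hG T
    rw [← e, hS] at this
    norm_num at this)
  have hnW : n ∉ Cg w := fun h => hnS (hTW ▸ ⟨hnT, h⟩)
  -- `N(K) = C(w)`
  have hNK : Ng K = Cg w := by
    have hge : Cg w ≤ Ng K := hWK
    have hsix : ∀ R' : Sylow 5 G, (R' : Subgroup G) ≤ Ng K → (R' : Subgroup G) ≤ Cg w := by
      intro R' hR' a ha
      have hc := GraphSimple.le_centralizer_of_mod (p := 5) (H := (R' : Subgroup G)) (Q := K) R'.2 hR'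
        (by rw [hK]; exact forall_dvd_of_divisors (by norm_num) (by decide +kernel))
      exact mem_Cg.2 (mem_Cs.1 (hc hwK) a ha)
    have hin : inCard 5 (Ng K) = 6 := by
      rw [← h6]
      exact Nat.card_congr (Equiv.subtypeEquivRight fun R' => ⟨hsix R', fun h => h.trans hge⟩)
    obtain ⟨-, h2⟩ := inCard_spec Q (hQw.trans hge)
    have hle := Subgroup.card_le_of_le (inf_le_right : Ng K ⊓ Ng (Q : Subgroup G) ≤ _)
    rw [hN] at hle
    rw [hin] at h2
    exact (Subgroup.eq_of_le_of_card_ge hge (by rw [hW, h2]; omega)).symm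
  set K' := K.map (MulAut.conj n).toMonoidHom with hK'
  have hK'S : K' ≤ S := by
    rintro _ ⟨k, hk, rfl⟩
    exact conj_mem_of_mem_Ng hnn (hKS hk)
  have hK'ne : K' ≠ K := fun e => hnW (hNK.le (mem_Ng_of_map_le e.le))
  -- `S` is abelian
  have hZ : ∀ z ∈ K ⊔ K', ∀ s ∈ S, z * s = s * z := by
    have hZle : K ⊔ K' ≤ Cs S := by
      refine sup_le (fun k hk => mem_Cs.2 fun s hs => (hcenK k hk s (hSW hs)).symm) ?_
      intro x hx
      rw [mem_Cs]
      intro s hs
      have h := hcenK _ (mem_map_conj.1 hx) _ (hSW (conj_mem_of_mem_Ng' hnn hs))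
      calc s * x = n * ((n⁻¹ * s * n) * (n⁻¹ * x * n)) * n⁻¹ := by group
        _ = n * ((n⁻¹ * x * n) * (n⁻¹ * s * n)) * n⁻¹ := by rw [h]
        _ = x * s := by group
    exact fun z hz s hs => (mem_Cs.1 (hZle hz) s hs).symm
  have hSab : ∀ a ∈ S, ∀ b ∈ S, a * b = b * a := by
    intro a ha b hb
    set Z := K ⊔ K'
    have hZS : Z ≤ S := sup_le hKS hK'S
    by_cases haZ : a ∈ Z
    · exact hZ a haZ b hb
    by_cases hbZ : b ∈ Z
    · exact (hZ b hbZ a ha).symm
    have h1 := Subgroup.card_dvd_of_le (le_sup_left : K ≤ Z)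
    have h2 := Subgroup.card_dvd_of_le hZS
    rw [hK] at h1
    rw [hS] at h2
    have h4 : Nat.card Z ≠ 4 := fun h => hK'ne (by
      have e := Subgroup.eq_of_le_of_card_ge (le_sup_left : K ≤ Z) (by rw [h, hK]; norm_num)
      exact Subgroup.eq_of_le_of_card_ge (e ▸ le_sup_right) (by rw [hK', card_map_conj]))
    have h16 : Nat.card Z ≠ 16 := fun h => haZ
      ((Subgroup.eq_of_le_of_card_ge hZS (by rw [hS, h]; norm_num)).ge ha)
    have key : ∀ d ∈ Nat.divisors 16, 4 ∣ d → d ≠ 4 → d ≠ 16 → d = 8 := by decide +kernel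
    have h8 := key _ (Nat.mem_divisors.2 ⟨by simpa using h2, by norm_num⟩) (by simpa using h1) h4 h16
    have hidx : (Z.subgroupOf S).index = 2 := by
      have h := (Z.subgroupOf S).index_mul_card
      rw [card_subgroupOf hZS, h8, hS] at h
      omega
    have hab : (a⁻¹ * b) ∈ Z := by
      have := (Subgroup.mul_mem_iff_of_index_two hidx (a := (⟨a, ha⟩ : S)⁻¹) (b := ⟨b, hb⟩)).2
        (iff_of_false (fun h => haZ (by simpa [Subgroup.mem_subgroupOf] using h))
          (fun h => hbZ (Subgroup.mem_subgroupOf.1 h)))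
      exact Subgroup.mem_subgroupOf.1 this
    have h := hZ _ hab a ha
    calc a * b = a * (a * (a⁻¹ * b)) := by group
      _ = a * ((a⁻¹ * b) * a) := by rw [h]
      _ = b * a := by group
  -- `K` is a four group
  have hKexp : ∀ k ∈ K, k * k = 1 := by
    by_contra hcon
    push Not at hcon
    obtain ⟨k, hk, hk2⟩ := hcon
    have hk4 : orderOf k = 4 := by
      obtain ⟨j, hj, hj'⟩ := (Nat.dvd_prime_pow Nat.prime_two).1 (hKord k hk)
      interval_cases j
      · rw [pow_zero, orderOf_eq_one_iff] at hj'; exact absurd (by rw [hj', one_mul]) hk2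
      · exact absurd (by rw [← pow_two, show (2 : ℕ) = orderOf k by rw [hj']; norm_num,
          pow_orderOf_eq_one]) hk2
      · rw [hj']; norm_num
    have hKgen : Subgroup.zpowers k = K := Subgroup.eq_of_le_of_card_ge (Subgroup.zpowers_le.2 hk)
      (by rw [Nat.card_zpowers, hk4, hK]; norm_num)
    have hinvol : ∀ x ∈ K, orderOf x = 2 → x = k ^ 2 := by
      intro x hx hx2
      rw [← hKgen, ← mem_powers_iff_mem_zpowers] at hx
      obtain ⟨i, rfl⟩ := hx
      simp only at hx2 ⊢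
      have h := pow_mod_orderOf k i
      rw [hk4] at h
      rw [← h] at hx2 ⊢
      have hi : i % 4 < 4 := Nat.mod_lt _ (by norm_num)
      interval_cases i % 4
      · rw [pow_zero, orderOf_one] at hx2; norm_num at hx2
      · rw [pow_one, hk4] at hx2; norm_num at hx2
      · rfl
      · rw [orderOf_pow, hk4] at hx2; norm_num at hx2
    have hinter : K ⊓ K' = ⊥ := by
      by_contra hne
      obtain ⟨x, hx, hx2⟩ := Small.Fusion.exists_orderOf (H := K ⊓ K') Nat.prime_two
        (two_dvd_of_ne_bot ((IsPGroup.of_card hK).to_le inf_le_left) hne)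
      have e1 : x = w := (hinvol x hx.1 hx2).trans (hinvol w hwK hw).symm
      have e2 : n⁻¹ * x * n = w := (hinvol _ (mem_map_conj.1 hx.2) (by
        have := orderOf_conj' n⁻¹ x
        rwa [inv_inv, hx2] at this)).trans (hinvol w hwK hw).symm
      rw [e1] at e2
      apply hnW
      rw [mem_Cg]
      calc n * w = n * (n⁻¹ * w * n) := by rw [e2]
        _ = w * n := by group
    -- `S` maps onto a cyclic group modulo `K`
    set W := Cg w
    haveI : (K.subgroupOf W).Normal := normal_subgroupOf (hKC.trans (hCN.trans hNw)) hWK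
    set π := QuotientGroup.mk' (K.subgroupOf W)
    set k' := n * k * n⁻¹
    have hk'S : k' ∈ S := hK'S ⟨k, hk, rfl⟩
    have hWq : Nat.card (W ⧸ K.subgroupOf W) = 60 := by
      have h := (K.subgroupOf W).index_mul_card
      rw [card_subgroupOf (hKC.trans (hCN.trans hNw)), hW, hK, Subgroup.index_eq_card] at h
      omega
    have hord : orderOf (π ⟨k', hSW hk'S⟩) = 4 := by
      rw [← Nat.card_zpowers]
      have hinj : Function.Injective (π.comp (Subgroup.inclusion (hK'S.trans hSW))) := by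
        rw [injective_iff_map_eq_one]
        intro x hx
        have h1 : (x : G) ∈ K := Subgroup.mem_subgroupOf.1 ((QuotientGroup.eq_one_iff (N := K.subgroupOf W) (Subgroup.inclusion (hK'S.trans hSW) x)).1 hx)
        have h2 : (x : G) ∈ K ⊓ K' := ⟨h1, x.2⟩
        rw [hinter, Subgroup.mem_bot] at h2
        exact Subtype.ext h2
      have := orderOf_injective _ hinj (⟨k', ⟨k, hk, rfl⟩⟩ : K')
      rw [Nat.card_zpowers]
      refine this.trans ?_
      rw [← Subgroup.orderOf_coe]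
      exact (orderOf_conj' n k).trans hk4
    obtain ⟨M, -, hMn, hMc, -, hMm⟩ := exists_odd_complement (a := 2) (L := (⊤ : Subgroup (W ⧸ K.subgroupOf W)))
      (R := Subgroup.zpowers (π ⟨k', hSW hk'S⟩)) le_top inferInstance
      (by rw [Nat.card_zpowers, hord]; norm_num) two_ne_zero (by rw [Subgroup.card_top, hWq]; norm_num)
    rw [Subgroup.card_top, hWq] at hMc
    set E := (M.comap π).map W.subtype with hE
    have hEW : E ≤ W := Subgroup.map_subtype_le _
    have hCE : Cs (Q : Subgroup G) ≤ E := by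
      intro x hx
      refine ⟨⟨x, hNw (hCN hx)⟩, ?_, rfl⟩
      show π _ ∈ M
      have hx20 : orderOf x ∣ 20 := hC ▸ Subgroup.orderOf_dvd_natCard _ hx
      set xW : W := ⟨x, hNw (hCN hx)⟩
      have h4 : π xW ^ 5 = 1 := by
        rw [← map_pow]
        refine (QuotientGroup.eq_one_iff _).2 (Subgroup.mem_subgroupOf.2 ?_)
        rw [SubmonoidClass.coe_pow]
        refine hK2 _ (pow_mem hx 5) 2 (orderOf_dvd_of_pow_eq_one ?_)
        rw [← pow_mul]
        exact orderOf_dvd_iff_pow_eq_one.1 hx20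
      refine hMm _ (Subgroup.mem_top _) fun h2 => ?_
      have := h2.trans (orderOf_dvd_of_pow_eq_one h4)
      norm_num at this
    have hsix : ∀ R' : Sylow 5 G, (R' : Subgroup G) ≤ W → (R' : Subgroup G) ≤ E := by
      intro R' hR' x hx
      refine ⟨⟨x, hR' hx⟩, hMm _ (Subgroup.mem_top _) fun h2 => ?_, rfl⟩
      have h5 : orderOf x ∣ 5 := hall R' ▸ Subgroup.orderOf_dvd_natCard _ hx
      have h5' : orderOf (⟨x, hR' hx⟩ : W) ∣ 5 := (Subgroup.orderOf_coe (⟨x, hR' hx⟩ : W)) ▸ h5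
      have := h2.trans ((orderOf_map_dvd π ⟨x, hR' hx⟩).trans h5')
      norm_num at this
    have hEeq := hproper E hEW hCE hsix
    have hMtop : ∀ x : W, π x ∈ M := fun x => by
      obtain ⟨y, hy, hyx⟩ := hEeq.ge x.2
      have : y = x := Subtype.ext hyx
      exact this ▸ hy
    have : M = ⊤ := by
      rw [eq_top_iff]
      intro x _
      obtain ⟨y, rfl⟩ := QuotientGroup.mk'_surjective (K.subgroupOf W) x
      exact hMtop y
    rw [this, Subgroup.card_top, hWq] at hMc
    norm_num at hMc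
  -- each involution of `K` has centraliser `C(w)`
  have hCu : ∀ u ∈ K, u ≠ 1 → Cg u = Cg w := by
    intro u hu hu1
    have hu2 : orderOf u = 2 := orderOf_eq_prime (by rw [pow_two]; exact hKexp u hu) hu1
    obtain ⟨-, hu240, -⟩ := central_data hG hN hR hRN (hKC hu) hu2
      (fun r hr => mem_Cg.2 (hcenK u hu r (hNw (hRN hr))).symm)
    refine (Subgroup.eq_of_le_of_card_ge (fun x hx => mem_Cg.2 (hcenK u hu x hx).symm) ?_).symm
    rw [hu240, hW]
  -- an element of order three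
  obtain ⟨y, hyW, hy⟩ := Small.Fusion.exists_orderOf (H := Cg w) Nat.prime_three (by rw [hW]; norm_num)
  have hy1 : y ≠ 1 := fun e => by rw [e, orderOf_one] at hy; norm_num at hy
  have hKy : K ≤ Cg y := fun k hk => mem_Cg.2 (hcenK k hk y hyW)
  set L := Cg w with hLdef
  have hnL : ∀ R' : Sylow 5 G, (R' : Subgroup G) ≤ L →
      Nat.card ↥(L ⊓ Ng (R' : Subgroup G)) = 40 := by
    intro R' hR'
    obtain ⟨-, h2⟩ := inCard_spec R' hR'
    rw [h6, hW] at h2
    omega
  have hfy : fixCard (SylIn L) (⟨y, hyW⟩ : L) = 0 :=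
    fixCard_eq_zero hnL (by simp only; rw [hy]; norm_num)
  have heven : ∀ σ : L, ∀ [Fintype (SylIn L)] [DecidableEq (SylIn L)],
      Equiv.Perm.sign (toPermHom L (SylIn L) σ) = 1 := by
    intro σ _ _
    by_contra hσ
    set ψ := Equiv.Perm.sign.comp (toPermHom L (SylIn L))
    have hψ : ψ.ker.map L.subtype = L := by
      refine hproper _ (Subgroup.map_subtype_le _) ?_ ?_
      · intro x hx
        refine ⟨⟨x, hNw (hCN hx)⟩, ?_, rfl⟩
        have h : ψ ⟨x, hNw (hCN hx)⟩ ^ 5 = 1 := by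
          rw [← map_pow, MonoidHom.comp_apply, toPerm_eq_one_of_Cs, map_one]
          intro R' hR'
          refine hKall _ ?_ R' hR'
          rw [SubmonoidClass.coe_pow]
          refine hK2 _ (pow_mem hx 5) 2 (orderOf_dvd_of_pow_eq_one ?_)
          rw [← pow_mul]
          refine orderOf_dvd_iff_pow_eq_one.1 ?_
          have := Subgroup.orderOf_dvd_natCard _ hx
          change _ ∣ Nat.card (Cs (Q : Subgroup G)) at this
          rw [hC] at this
          exact this
        rcases Int.units_eq_one_or (ψ ⟨x, hNw (hCN hx)⟩) with h' | h'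
        · exact h'
        · rw [h'] at h; exact absurd h (by decide)
      · intro R' hR' x hx
        refine ⟨⟨x, hR' hx⟩, ?_, rfl⟩
        have h : ψ ⟨x, hR' hx⟩ ^ 5 = 1 := by
          rw [← map_pow, show (⟨x, hR' hx⟩ : L) ^ 5 = 1 from Subtype.ext (by
            rw [SubmonoidClass.coe_pow, OneMemClass.coe_one, ← orderOf_dvd_iff_pow_eq_one]
            exact hall R' ▸ Subgroup.orderOf_dvd_natCard _ hx), map_one]
        rcases Int.units_eq_one_or (ψ ⟨x, hR' hx⟩) with h' | h'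
        · exact h'
        · rw [h'] at h; exact absurd h (by decide)
    obtain ⟨z, hz, hzσ⟩ := hψ.ge σ.2
    rw [show z = σ from Subtype.ext hzσ] at hz
    exact hσ hz
  have htwo : ∀ x ∈ L, x ∈ Cg y → (∃ k, orderOf x ∣ 2 ^ k) → x ∈ K := by
    intro x hx hxy ⟨k, hk⟩
    have hone := toPerm_eq_one_of_commute h6 heven (y := ⟨y, hyW⟩)
      (Subtype.ext (by rw [SubmonoidClass.coe_pow, OneMemClass.coe_one, ← hy]; exact pow_orderOf_eq_one y))
      hfy (x := ⟨x, hx⟩) (Subtype.ext (mem_Cg.1 hxy))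
      (Subtype.ext (by
        rw [SubmonoidClass.coe_pow, OneMemClass.coe_one]; exact orderOf_dvd_iff_pow_eq_one.1 hk))
    exact hK2 x (mem_Cs_of_toPerm_eq_one hall (by omega) hone hQw) k hk
  -- `C(w) ∩ C(y)` has order twelve
  have hno5 : ¬ 5 ∣ Nat.card (Cg y) := by
    intro h5
    obtain ⟨q, hqy, hq⟩ := Small.Fusion.exists_orderOf (H := Cg y) Nat.prime_five h5
    obtain ⟨R', hqR'⟩ := exists_sylow_mem hq
    have hy' : y ∈ Cs (R' : Subgroup G) := Small.mem_centralizer_of_commute_prime (hall R') hqR'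
      (fun e => by rw [e, orderOf_one] at hq; norm_num at hq) (mem_Cg.1 hqy).symm
    have h := Subgroup.orderOf_dvd_natCard _ hy'
    rw [hy, card_Cs_five_eq hG (Q := Q) R', hC] at h
    norm_num at h
  have hJ : ∀ x ∈ L ⊓ Cg y, ¬ 2 ∣ orderOf x → x ∈ Subgroup.zpowers y := by
    intro x hx hodd
    have hd : orderOf x ∣ 240 := hW ▸ Subgroup.orderOf_dvd_natCard L hx.1
    have h5 : ¬ 5 ∣ orderOf x := fun h => hno5 (h.trans (Subgroup.orderOf_dvd_natCard _ hx.2))
    have key : ∀ d ∈ Nat.divisors 240, ¬ 2 ∣ d → ¬ 5 ∣ d → d ∣ 3 ^ 1 := by decide +kernel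
    have hx3 := key _ (Nat.mem_divisors.2 ⟨hd, by norm_num⟩) hodd h5
    set J := L ⊓ Cg y
    have hyJ : Subgroup.zpowers y ≤ J := Subgroup.zpowers_le.2 ⟨hyW, mem_Cg.2 rfl⟩
    refine mem_of_normal_sylow (q := 3) (a := 1) hyJ ?_ (by rw [Nat.card_zpowers, hy, pow_one]) ?_ hx hx3
    · exact fun j hj => Cs_le_Ng _ (mem_Cs.2 fun b hb => by
        obtain ⟨i, rfl⟩ := hb
        exact ((show Commute j y from mem_Cg.1 hj.2).zpow_right i).eq.symm)
    · intro h9
      have := (h9.trans (Subgroup.card_dvd_of_le inf_le_left)).trans (dvd_of_eq hW)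
      norm_num at this
  obtain ⟨R2, hKR2, hR2y, hR2⟩ : ∃ R2 : Subgroup G, K ≤ R2 ∧ R2 ≤ Cg y ∧ IsPGroup 2 R2 ∧
      ∀ j, 2 ^ j ∣ Nat.card (Cg y) → 2 ^ j ∣ Nat.card R2 := by
    obtain ⟨b, hb, hb'⟩ : ∃ b, 2 ^ b ∣ Nat.card (Cg y) ∧ ¬ 2 ^ (b + 1) ∣ Nat.card (Cg y) :=
      ⟨(Nat.card (Cg y)).factorization 2, Nat.ordProj_dvd _ _,
        Nat.pow_succ_factorization_not_dvd Nat.card_pos.ne' Nat.prime_two⟩
    obtain ⟨R2, h1, h2, h3⟩ := exists_sylow_le hKy (IsPGroup.of_card hK) hb hb'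
    refine ⟨R2, h1, h2, IsPGroup.of_card h3, fun j hj => h3 ▸ pow_dvd_pow 2 ?_⟩
    by_contra hlt
    exact hb' ((pow_dvd_pow 2 (show b + 1 ≤ j by omega)).trans hj)
  have hR2K : R2 = K := by
    by_contra hne
    obtain ⟨t, ht, htK, htn⟩ := exists_normalizing_not_mem hR2.1 hKR2 (Ne.symm hne)
    obtain ⟨j, hj⟩ := IsPGroup.iff_orderOf.1 hR2.1 ⟨t, ht⟩
    rw [← Subgroup.orderOf_coe] at hj
    exact htK (htwo t (hNK.le htn) (hR2y ht) ⟨j, dvd_of_eq hj⟩)
  obtain ⟨M, hMy, hyM, hMc, hM2, -⟩ := exists_complement (p := 2) (a := 2) hKy hK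
    (fun h => by
      have := hR2.2 3 h
      rw [hR2K, hK] at this
      norm_num at this)
    (fun x hx => hCK.ge (hNK.le hx.2))
  have hK4 : ¬ IsCyclic K := by
    intro hcyc
    obtain ⟨g, hg⟩ := hcyc.exists_ofOrder_eq_natCard
    rw [← Subgroup.orderOf_coe, hK] at hg
    have := orderOf_dvd_of_pow_eq_one (n := 2) (show (g : G) ^ 2 = 1 by rw [pow_two]; exact hKexp g g.2)
    rw [hg] at this
    norm_num at this
  haveI : IsMulCommutative K := ⟨⟨fun a b => Subtype.ext (hKab b b.2 a a.2)⟩⟩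
  have hMle : M ≤ Subgroup.zpowers y := by
    have hKM : K ≤ Ng M := hKy.trans hyM
    refine Coprime.le_of_forall_inf_centralizer_le hK4 hKM ?_ fun u hu hu1 x hx => ?_
    · rw [hK]
      exact Nat.Coprime.pow_left 2 (Nat.prime_two.coprime_iff_not_dvd.2 hM2)
    · exact hJ x ⟨(hCu u hu hu1).le hx.2, hMy hx.1⟩ fun h2 =>
        hM2 (h2.trans (Subgroup.orderOf_dvd_natCard M hx.1))
  have h9 := nine_dvd_Cg (fun T => card_sylow_three' hG T) hy
  have hM3 := Subgroup.card_dvd_of_le hMle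
  rw [Nat.card_zpowers, hy] at hM3
  rw [← hMc] at h9
  rcases (Nat.dvd_prime Nat.prime_three).1 hM3 with h | h <;> rw [h] at h9 <;> norm_num at h9

/-- The normaliser of a Sylow 5-subgroup has order 40 and its centraliser order 10. -/
theorem five_data (Q : Sylow 5 G) :
    Nat.card (Ng (Q : Subgroup G)) = 40 ∧ Nat.card (Cs (Q : Subgroup G)) = 10 := by
  obtain ⟨hN, hC⟩ := five_options hG Q
  rcases hN with h | h | h | h | h | h <;> rw [h] at hC
  · exact (false_8640 hG Q h hC).elim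
  · exact (false_1440 hG Q h hC).elim
  · exact (false_540 hG Q h hC).elim
  · exact (false_240 hG Q h hC).elim
  · exact (false_90 hG Q h hC).elim
  · rcases hC with h' | h'
    · exact (false_C20 hG (Q := Q) h (by omega)).elim
    · exact ⟨h, by omega⟩

end CfsgLib.MTwelveUnique
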