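import Cfsg.Agent.MTwelveUnique.Words

set_option autoImplicit false
set_option maxRecDepth 4000

/-!
The model `C₂ × S₅` of the centralizer of an involution in `M₁₂`, and the partial conjugation maps
used to locate loops in it.
-/

namespace CfsgLib.MTwelveUnique

/-- The model. -/
abbrev Mdl := Multiplicative (ZMod 2) × Equiv.Perm (Fin 5)

def mp : Mdl := (1, Equiv.swap 0 1)
def mq : Mdl := (1, Equiv.swap 1 2)
def mr : Mdl := (1, Equiv.swap 2 3)
def ms : Mdl := (1, Equiv.swap 3 4)
def mw : Mdl := (Multiplicative.ofAdd 1, 1)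

/-- Value of a letter other than `g`. -/
def letM : ℕ → Mdl
  | 0 => mp | 1 => mp | 2 => mq | 3 => mq | 4 => mr | 5 => mr | 6 => ms | 7 => ms
  | 10 => mw | 11 => mw | _ => 1

/-- Value of a word without `g`. -/
def wordM (w : List ℕ) : Mdl := (w.map letM).prod

/-- Generators of the domain of conjugation by `g`. -/
def gGen : List (Mdl × Mdl) := [(mw, mp), (mp, mw * mp), (mr * ms, mr * ms), (mp * mr, mp * mr)]

/-- Products giving the whole domain. -/
def gDomIdx : List (List ℕ) :=
  [[], [0], [1], [2], [3], [0, 1], [0, 2], [0, 3], [1, 2], [1, 3], [2, 2], [2, 3], [3, 2],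
    [0, 1, 2], [0, 1, 3], [0, 2, 2], [0, 2, 3], [0, 3, 2], [1, 2, 2], [1, 2, 3], [1, 3, 2],
    [0, 1, 2, 2], [0, 1, 2, 3], [0, 1, 3, 2]]

/-- The graph of conjugation by `g`. -/
def gPairs : List (Mdl × Mdl) := gDomIdx.map fun l => (l.map fun i => gGen.getD i 1).prod

/-- Conjugate by one letter. -/
def stepConj (x : ℕ) (m : Mdl) : Option Mdl :=
  if x = 8 then (gPairs.find? fun ab => decide (ab.1 = m)).map Prod.snd
  else if x = 9 then (gPairs.find? fun ab => decide (ab.2 = m)).map Prod.fst
  else if x < 12 then some ((letM x)⁻¹ * m * letM x) else none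

/-- Conjugate by a word. -/
def conjWord : List ℕ → Mdl → Option Mdl
  | [], m => some m
  | x :: w, m => (stepConj x m).bind (conjWord w)

/-- The class of `w` inside the centralizer. -/
def InClass (m : Mdl) : Prop := m * m = 1 ∧ m ≠ 1 ∧ ¬ (m.1 = 1 ∧ Equiv.Perm.sign m.2 = 1)

instance : DecidablePred InClass := fun _ => by unfold InClass; infer_instance

theorem inClass_covered : ∀ m : Mdl, InClass m →
    ∃ j < 36, conjWord (classWords.getD j []) mw = some m := by decide +kernel

theorem loop_candidates : ∀ k : Mdl,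
    (([mp, mr, mw].all fun a => decide (conjWord loopWord a = some (k⁻¹ * a * k))) = true) →
    ∃ j < 8, wordM (loopVals.getD j []) = k := by decide +kernel

theorem loop_defined : ([mp, mr, mw].all fun a => (conjWord loopWord a).isSome) = true := by
  decide +kernel

theorem hitV₀_spec : conjWord hitV₀ mw = some (wordM hitX₀) := by decide +kernel
theorem hitV₁_spec : conjWord hitV₁ mw = some (wordM hitX₁) := by decide +kernel

theorem mp_ne_mw : mp ≠ mw := by decide +kernel
theorem mpq_ne : mp * mq ≠ mq * mp := by decide +kernel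

/-- The model is generated by the five letters. -/
theorem closure_letters : ∀ m : Mdl, m ∈ Subgroup.closure ({mp, mq, mr, ms, mw} : Set Mdl) := by
  intro m
  obtain ⟨a, σ⟩ := m
  have key : ∀ σ : Equiv.Perm (Fin 5), ((1, σ) : Mdl) ∈
      Subgroup.closure ({mp, mq, mr, ms, mw} : Set Mdl) := by
    intro σ
    have hσ : σ ∈ (Subgroup.closure ({mp, mq, mr, ms, mw} : Set Mdl)).comap
        (MonoidHom.inr (Multiplicative (ZMod 2)) (Equiv.Perm (Fin 5))) := by
      have hgen := Equiv.Perm.mclosure_swap_castSucc_succ 4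
      have : σ ∈ Submonoid.closure
          (Set.range fun i : Fin 4 ↦ Equiv.swap i.castSucc i.succ) := by
        rw [hgen]; exact Submonoid.mem_top σ
      refine (Submonoid.closure_le (S := ((Subgroup.closure ({mp, mq, mr, ms, mw} : Set Mdl)).comap
        (MonoidHom.inr (Multiplicative (ZMod 2)) (Equiv.Perm (Fin 5)))).toSubmonoid)).2 ?_ this
      rintro _ ⟨i, rfl⟩
      show ((1, Equiv.swap i.castSucc i.succ) : Mdl) ∈ Subgroup.closure ({mp, mq, mr, ms, mw} : Set Mdl)
      apply Subgroup.subset_closure
      fin_cases i <;> simp [mp, mq, mr, ms]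
    exact hσ
  have hw : ∀ a : Multiplicative (ZMod 2), ((a, 1) : Mdl) ∈
      Subgroup.closure ({mp, mq, mr, ms, mw} : Set Mdl) := by
    intro a
    have : a = 1 ∨ a = Multiplicative.ofAdd 1 := by revert a; decide
    rcases this with rfl | rfl
    · exact one_mem _
    · exact Subgroup.subset_closure (by simp [mw])
  simpa using mul_mem (hw a) (key σ)

end CfsgLib.MTwelveUnique
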