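import Cfsg.Agent.MTwelveUnique.Lifts
import Cfsg.Agent.MTwelveUnique.Model

/-!
A simple group of order 95040: the centraliser of `w` is `C₂ × S₅`, with `w` as the generator of the
first factor.
-/

set_option autoImplicit false
set_option maxRecDepth 8000

open scoped Pointwise
open MulAction

namespace CfsgLib.MTwelveUnique

open CfsgLib.MElevenUnique (Cg Ng Cs fixCard mem_Cg mem_Cs Cs_le_Ng inCard inCard_spec)

theorem dihedral_images : ∀ i < 4,
    (Equiv.swap (0 : Fin 5) 1 * (Equiv.swap 0 1 * (Equiv.swap 0 2 * Equiv.swap 1 3)) ^ i ≠ 1) ∧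
    ∀ j < 4, ((Equiv.swap (0 : Fin 5) 1 * (Equiv.swap 0 2 * Equiv.swap 1 3)) ^ i =
        (Equiv.swap 0 1 * (Equiv.swap 0 2 * Equiv.swap 1 3)) ^ j → i = j) ∧
      (Equiv.swap (0 : Fin 5) 1 * (Equiv.swap 0 1 * (Equiv.swap 0 2 * Equiv.swap 1 3)) ^ i ≠
        (Equiv.swap 0 1 * (Equiv.swap 0 2 * Equiv.swap 1 3)) ^ j) := by decide +kernel

theorem dihedral_four : (Equiv.swap (0 : Fin 5) 1 * (Equiv.swap 0 2 * Equiv.swap 1 3)) ^ 4 = 1 ∧
    ((Equiv.swap (0 : Fin 5) 1 * (Equiv.swap 0 2 * Equiv.swap 1 3)) ^ 2) ^ 2 = 1 ∧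
    (Equiv.swap (0 : Fin 5) 1 * (Equiv.swap 0 2 * Equiv.swap 1 3)) ^ 2 ≠ 1 ∧
    Equiv.Perm.sign ((Equiv.swap (0 : Fin 5) 1 * (Equiv.swap 0 2 * Equiv.swap 1 3)) ^ 2) = 1 ∧
    (Equiv.swap (0 : Fin 5) 2 * Equiv.swap 1 3) * (Equiv.swap 0 2 * Equiv.swap 1 3) = 1 ∧
    (Equiv.swap (0 : Fin 5) 2 * Equiv.swap 1 3) ≠ 1 ∧
    Equiv.Perm.sign (Equiv.swap (0 : Fin 5) 2 * Equiv.swap 1 3) = 1 := by decide +kernel

/-- A two-element subgroup missing from a closure of three involutions. -/
theorem closure_pair {H : Type*} [Group H] {u v : H} (hu : u * u = 1) (hv : v * v = 1)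
    (h4 : (u * v) ^ 4 = 1) {x : H} (hx : x ∈ Subgroup.closure ({u, v} : Set H)) :
    ∃ i < 4, x = (u * v) ^ i ∨ x = u * (u * v) ^ i := by
  have hred : ∀ i : ℕ, ∃ j < 4, (u * v) ^ i = (u * v) ^ j := fun i => by
    refine ⟨i % 4, Nat.mod_lt _ (by norm_num), ?_⟩
    conv_lhs => rw [← Nat.div_add_mod i 4, pow_add, pow_mul, h4, one_pow, one_mul]
  have hvu : v * u = (u * v) ^ 3 := by
    have hinv : (u * v)⁻¹ = v * u := by
      rw [mul_inv_rev, inv_eq_of_mul_eq_one_right hu, inv_eq_of_mul_eq_one_right hv]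
    rw [← hinv, inv_eq_iff_mul_eq_one, ← pow_succ']
    exact h4
  have hstep : ∀ a ∈ ({u, v} : Set H), ∀ y, (∃ i < 4, y = (u * v) ^ i ∨ y = u * (u * v) ^ i) →
      ∃ i < 4, a * y = (u * v) ^ i ∨ a * y = u * (u * v) ^ i := by
    rintro a (rfl | rfl) y ⟨i, hi, rfl | rfl⟩
    · exact ⟨i, hi, Or.inr rfl⟩
    · exact ⟨i, hi, Or.inl (by rw [← mul_assoc, hu, one_mul])⟩
    · obtain ⟨j, hj, e⟩ := hred (i + 1)
      refine ⟨j, hj, Or.inr ?_⟩
      rw [← e, pow_succ', ← mul_assoc, ← mul_assoc, hu, one_mul]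
    · obtain ⟨j, hj, e⟩ := hred (3 + i)
      refine ⟨j, hj, Or.inl ?_⟩
      rw [← e, pow_add, ← hvu, mul_assoc]
  induction hx using Subgroup.closure_induction_left with
  | one => exact ⟨0, by norm_num, Or.inl (pow_zero _).symm⟩
  | mul_left a ha y _ ih => exact hstep a ha y ih
  | inv_mul_cancel a ha y _ ih =>
    have : a⁻¹ = a := by
      rcases ha with rfl | rfl
      · exact inv_eq_of_mul_eq_one_right hu
      · exact inv_eq_of_mul_eq_one_right hv
    rw [this]
    exact hstep a ha y ih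

variable {G : Type*} [Group G] [Finite G] [IsSimpleGroup G] (hG : Nat.card G = 95040)
include hG

/-- Lifts of involutions of `S₅` are involutions. -/
theorem lift_sq_eq_one {w : G} (hw : orderOf w = 2) (h240 : Nat.card (Cg w) = 240)
    (ρ : Cg w →* Equiv.Perm (Fin 5)) (hρ : Function.Surjective ρ)
    (hker : ∀ x : Cg w, ρ x = 1 ↔ (x : G) = 1 ∨ (x : G) = w) {x : Cg w} (hx : ρ x * ρ x = 1) :
    (x : G) * x = 1 := by
  classical
  haveI := Fact.mk Nat.prime_two
  have hw2 : w * w = 1 := by rw [← pow_two, ← hw, pow_orderOf_eq_one]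
  have hcase : ∀ y : Cg w, ρ y * ρ y = 1 → (y : G) * y = 1 ∨ (y : G) * y = w := by
    intro y hy
    have h := (hker (y * y)).1 (by rw [map_mul, hy])
    simpa using h
  have hmulw : ∀ a b : Cg w, ρ a = ρ b → (b : G) * b = 1 → (a : G) * a = 1 := by
    intro a b h hb
    rcases (hker (b⁻¹ * a)).1 (by rw [map_mul, map_inv, h, inv_mul_cancel]) with h' | h'
    · have h'' : (b : G)⁻¹ * a = 1 := by simpa using h'
      rw [inv_mul_eq_iff_eq_mul.1 h'']
      simpa using hb
    · have h'' : (b : G)⁻¹ * a = w := by simpa using h'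
      rw [inv_mul_eq_iff_eq_mul.1 h'']
      calc (b : G) * w * (b * w) = b * (w * b) * w := by group
        _ = b * (b * w) * w := by rw [mem_Cg.1 b.2]
        _ = (b * b) * (w * w) := by group
        _ = 1 := by rw [hb, hw2, one_mul]
  by_cases hone : ρ x = 1
  · refine hmulw x 1 (by rw [hone, map_one]) ?_
    simp
  rcases Int.units_eq_one_or (Equiv.Perm.sign (ρ x)) with hs | hs
  swap
  · exact (hcase x hx).resolve_right fun h => false_lift_four hG hw ρ hρ hker hx hs h
  -- a central involution of a Sylow 2-subgroup covers a double transposition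
  obtain ⟨R, hRW, hR⟩ := Small.exists_two_subgroup_le (H := Cg w) (k := 4) (by rw [h240]; norm_num)
  have hwR : w ∈ R := by
    by_contra hwR
    have hle : R ⊔ Subgroup.zpowers w ≤ Cg w := sup_le hRW (Subgroup.zpowers_le.2 (mem_Cg.2 rfl))
    have hp : IsPGroup 2 (R ⊔ Subgroup.zpowers w : Subgroup G) :=
      (IsPGroup.of_card hR).to_sup_of_normal_right'
        (IsPGroup.of_card (n := 1) (by rw [Nat.card_zpowers, hw, pow_one]))
        (fun r hr => Cs_le_Ng _ (mem_Cs.2 fun b hb => by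
          obtain ⟨i, rfl⟩ := hb
          exact ((show Commute r w from mem_Cg.1 (hRW hr)).zpow_right i).eq.symm))
    obtain ⟨b, hb⟩ := IsPGroup.iff_card.1 hp
    have h1 := hb ▸ Subgroup.card_dvd_of_le hle
    rw [h240] at h1
    have hb4 : b ≤ 4 := by
      by_contra hgt
      have := (pow_dvd_pow 2 (show 5 ≤ b by omega)).trans h1
      norm_num at this
    have h2 : R = R ⊔ Subgroup.zpowers w := Subgroup.eq_of_le_of_card_ge le_sup_left
      (by rw [hb, hR]; exact Nat.pow_le_pow_right two_pos hb4)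
    exact hwR (h2 ▸ Subgroup.mem_sup_right (Subgroup.mem_zpowers w))
  obtain ⟨S, hS⟩ := (IsPGroup.of_card hR).exists_le_sylow
  obtain ⟨z, hzS, hz, hzC⟩ := Small.Fusion.exists_central_involution S.2
    (Subgroup.le_normalizer (H := (S : Subgroup G))) (by rw [card_sylow_two hG S]; norm_num)
  have hzw : z ∈ Cg w := mem_Cg.2 (mem_Cg.1 (hzC (hS hwR))).symm
  have hzne : z ≠ w := fun e => by
    have := Subgroup.card_dvd_of_le hzC
    rw [card_sylow_two hG S, e, h240] at this
    norm_num at this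
  have hz1 : z ≠ 1 := fun e => by rw [e, orderOf_one] at hz; norm_num at hz
  set zW : Cg w := ⟨z, hzw⟩
  have hρz2 : ρ zW * ρ zW = 1 := by
    rw [← map_mul, show zW * zW = 1 from Subtype.ext
      (by show z * z = 1; rw [← pow_two, ← hz, pow_orderOf_eq_one]), map_one]
  have hρz1 : ρ zW ≠ 1 := fun e => by
    rcases (hker zW).1 e with h | h
    · exact hz1 h
    · exact hzne h
  have hρzs : Equiv.Perm.sign (ρ zW) = 1 := by
    rcases Int.units_eq_one_or (Equiv.Perm.sign (ρ zW)) with h | h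
    · exact h
    exfalso
    refine perm_five_even_of_central _ hρz2 h ?_
    set Z := Subgroup.centralizer ({ρ zW} : Set (Equiv.Perm (Fin 5)))
    have hcard : (Finset.univ.filter fun τ : Equiv.Perm (Fin 5) => τ * ρ zW = ρ zW * τ).card
        = Nat.card Z := by
      rw [Nat.card_eq_fintype_card, Fintype.card_of_subtype]
      intro τ
      simp [Z, Subgroup.mem_centralizer_singleton_iff]
    rw [hcard]
    set Rρ := (R.subgroupOf (Cg w)).map ρ
    have hle : Rρ ≤ Z := by
      rintro _ ⟨r, hr, rfl⟩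
      rw [Subgroup.mem_centralizer_singleton_iff, ← map_mul, ← map_mul]
      exact congrArg ρ (Subtype.ext (mem_Cg.1 (hzC (hS (Subgroup.mem_subgroupOf.1 hr)))))
    refine dvd_trans ?_ (Subgroup.card_dvd_of_le hle)
    obtain ⟨b, hb⟩ := IsPGroup.iff_card.1 ((IsPGroup.of_card (G := R.subgroupOf (Cg w))
      ((card_subgroupOf hRW).trans hR)).map ρ)
    have h16 : Nat.card (R.subgroupOf (Cg w)) ≤ Nat.card Rρ * 2 := by
      haveI := Fintype.ofFinite Rρ
      have : ∀ r : R.subgroupOf (Cg w), ∃ s : Rρ × Bool, s.1.1 = ρ r.1 ∧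
          (s.2 = true ↔ (r.1 : G) = ((Function.surjInv hρ (ρ r.1) : Cg w) : G)) := fun r =>
        ⟨(⟨ρ r.1, r.1, r.2, rfl⟩, decide ((r.1 : G) = ((Function.surjInv hρ (ρ r.1) : Cg w) : G))),
          rfl, by simp⟩
      choose s hs1 hs2 using this
      refine (Nat.card_le_card_of_injective s fun r r' e => ?_).trans_eq (by simp [Nat.card_prod])
      have e1 : ρ r.1 = ρ r'.1 := by rw [← hs1, ← hs1, e]
      have e2 : ((r.1 : G) = ((Function.surjInv hρ (ρ r.1) : Cg w) : G)) ↔
          ((r'.1 : G) = ((Function.surjInv hρ (ρ r.1) : Cg w) : G)) := by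
        rw [← hs2 r, e, hs2 r', e1]
      set p := Function.surjInv hρ (ρ r.1) with hp
      have hp' : ρ p = ρ r.1 := Function.surjInv_eq hρ _
      have opts : ∀ q : Cg w, ρ q = ρ r.1 → (q : G) = p ∨ (q : G) = p * w := by
        intro q hq
        rcases (hker (p⁻¹ * q)).1 (by rw [map_mul, map_inv, hp', hq, inv_mul_cancel]) with h' | h'
        · left
          have h'' : (p : G)⁻¹ * q = 1 := by simpa using h'
          exact (inv_mul_eq_one.1 h'').symm
        · right
          have h'' : (p : G)⁻¹ * q = w := by simpa using h'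
          exact inv_mul_eq_iff_eq_mul.1 h''
      refine Subtype.ext (Subtype.ext ?_)
      rcases opts r.1 rfl with h1 | h1 <;> rcases opts r'.1 e1.symm with h2 | h2
      · rw [h1, h2]
      · rw [h1, e2.1 h1]
      · rw [h2, e2.2 h2]
      · rw [h1, h2]
    rw [card_subgroupOf hRW, hR] at h16
    have hb3 : 3 ≤ b := by
      by_contra hlt
      rw [hb] at h16
      have := Nat.pow_le_pow_right (show 1 ≤ 2 by norm_num) (show b ≤ 2 by omega)
      norm_num at h16
      omega
    rw [hb]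
    exact pow_dvd_pow 2 hb3 |> (dvd_trans (by norm_num : 8 ∣ 2 ^ 3))
  obtain ⟨c₁, hc₁⟩ := perm_five_double _ hρz2 hρz1 hρzs
  obtain ⟨c₂, hc₂⟩ := perm_five_double _ hx hone hs
  obtain ⟨p, hp⟩ := hρ (c₂⁻¹ * c₁)
  refine hmulw x (p * zW * p⁻¹) ?_ ?_
  · rw [map_mul, map_mul, map_inv, hp]
    calc ρ x = c₂⁻¹ * (c₂ * ρ x * c₂⁻¹) * c₂ := by group
      _ = c₂⁻¹ * (c₁ * ρ zW * c₁⁻¹) * c₂ := by rw [hc₁, hc₂]
      _ = _ := by group
  · simp only [Subgroup.coe_mul, Subgroup.coe_inv]
    calc (p : G) * z * (p : G)⁻¹ * (p * z * (p : G)⁻¹) = p * (z * z) * (p : G)⁻¹ := by group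
      _ = 1 := by rw [show z * z = 1 by rw [← pow_two, ← hz, pow_orderOf_eq_one], mul_one, mul_inv_cancel]

/-- The centraliser of `w` as the image of the model. -/
theorem exists_iota {w : G} (hw : orderOf w = 2) (h240 : Nat.card (Cg w) = 240) :
    ∃ ι : Mdl →* G, Function.Injective ι ∧ ι mw = w ∧ ι.range = Cg w := by
  classical
  obtain ⟨ρ, hρ, hker⟩ := exists_hom_perm_five hG hw h240
  have hinv : ∀ x : Cg w, ρ x * ρ x = 1 → x * x = 1 := fun x hx =>
    Subtype.ext (lift_sq_eq_one hG hw h240 ρ hρ hker hx)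
  obtain ⟨hd4, hd22, -, -, hv2, -, -⟩ := dihedral_four
  obtain ⟨u, hu⟩ := hρ (Equiv.swap 0 1)
  obtain ⟨v, hv⟩ := hρ (Equiv.swap 0 2 * Equiv.swap 1 3)
  have hu2 : u * u = 1 := hinv u (by rw [hu, Equiv.swap_mul_self])
  have hv2' : v * v = 1 := hinv v (by rw [hv, hv2])
  have huv4 : (u * v) ^ 4 = 1 := by
    rw [show 4 = 2 * 2 by norm_num, pow_mul, pow_two ((u * v) ^ 2)]
    refine hinv _ ?_
    rw [map_pow, map_mul, hu, hv, ← pow_two]
    exact hd22
  set wW : Cg w := ⟨w, mem_Cg.2 rfl⟩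
  have hwρ : ρ wW = 1 := (hker wW).2 (Or.inr rfl)
  have hw1 : wW ≠ 1 := fun e => by
    have : w = 1 := congrArg Subtype.val e
    rw [this, orderOf_one] at hw
    norm_num at hw
  have hwc : ∀ x : Cg w, x * wW = wW * x := fun x => Subtype.ext (mem_Cg.1 x.2)
  set R' := Subgroup.closure ({u, v} : Set (Cg w))
  have hwR' : wW ∉ R' := by
    intro h
    obtain ⟨i, hi, e⟩ := closure_pair hu2 hv2' huv4 h
    rcases e with e | e
    · have h1 := congrArg ρ e
      rw [map_pow, map_mul, hu, hv, hwρ, ← pow_zero (Equiv.swap (0 : Fin 5) 1 * _)] at h1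
      obtain rfl := ((dihedral_images 0 (by norm_num)).2 i hi).1 h1
      rw [pow_zero] at e
      exact hw1 e
    · have h1 := congrArg ρ e
      rw [map_mul, map_pow, map_mul, hu, hv, hwρ] at h1
      exact (dihedral_images i hi).1 h1.symm
  -- `R` is the product with `⟨w⟩`
  set R := R' ⊔ Subgroup.zpowers wW
  have hR'R : R' ≤ R := le_sup_left
  have hwR : wW ∈ R := Subgroup.mem_sup_right (Subgroup.mem_zpowers _)
  have hwn : (Subgroup.zpowers wW).Normal := ⟨fun n hn g => by
    obtain ⟨k, rfl⟩ := hn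
    rw [((show Commute g wW from hwc g).zpow_right k).eq, mul_inv_cancel_right]
    exact ⟨k, rfl⟩⟩
  have hidx : (R'.subgroupOf R).index = 2 := by
    rw [Subgroup.index_eq_two_iff]
    refine ⟨⟨wW, hwR⟩, fun b => ?_⟩
    simp only [Subgroup.mem_subgroupOf, Subgroup.coe_mul]
    have hb := b.2
    rw [← SetLike.mem_coe, Subgroup.mul_normal R' (Subgroup.zpowers wW)] at hb
    obtain ⟨r, hr, k, hk, hrk⟩ := hb
    rw [SetLike.mem_coe, ← mem_powers_iff_mem_zpowers] at hk
    obtain ⟨i, rfl⟩ := hk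
    simp only at hrk
    rw [← hrk]
    have hw2 : wW * wW = 1 := Subtype.ext (show w * w = 1 by rw [← pow_two, ← hw, pow_orderOf_eq_one])
    rcases Nat.even_or_odd i with ⟨m, rfl⟩ | ⟨m, rfl⟩
    · rw [← two_mul, pow_mul, pow_two wW, hw2, one_pow, mul_one]
      exact Or.inr ⟨hr, fun h => hwR' ((mul_mem_cancel_left hr).1 h)⟩
    · rw [pow_succ, pow_mul, pow_two wW, hw2, one_pow, one_mul]
      refine Or.inl ⟨?_, fun h => hwR' ((mul_mem_cancel_left hr).1 h)⟩
      rw [mul_assoc, hw2, mul_one]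
      exact hr
  let φ : R →* Multiplicative (ZMod 2) :=
    { toFun := fun r => if r ∈ R'.subgroupOf R then 1 else Multiplicative.ofAdd 1
      map_one' := by simp
      map_mul' := fun a b => by
        by_cases ha : a ∈ R'.subgroupOf R <;> by_cases hb : b ∈ R'.subgroupOf R <;>
          simp [Subgroup.mul_mem_iff_of_index_two hidx, ha, hb] <;> decide }
  -- the index of `R` is odd
  have hodd : Odd R.index := by
    have h1 := R.index_mul_card
    rw [h240] at h1
    have h2 := (R'.subgroupOf R).index_mul_card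
    rw [hidx, card_subgroupOf hR'R] at h2
    have h3 : Nat.card R' = 8 := by
      have huv' : u * v ∈ R' := mul_mem (Subgroup.subset_closure (by simp)) (Subgroup.subset_closure (by simp))
      have hu' : u ∈ R' := Subgroup.subset_closure (by simp)
      refine le_antisymm ?_ ?_
      · refine le_trans (Nat.card_le_card_of_surjective
          (fun s : Bool × Fin 4 => (if s.1 then ⟨u * (u * v) ^ (s.2 : ℕ), ?_⟩ else ⟨(u * v) ^ (s.2 : ℕ), ?_⟩ : R'))
          fun x => ?_) (by simp)
        · exact mul_mem hu' (pow_mem huv' _)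
        · exact pow_mem huv' _
        obtain ⟨i, hi, e | e⟩ := closure_pair hu2 hv2' huv4 x.2
        · exact ⟨(false, ⟨i, hi⟩), Subtype.ext (by simp [e])⟩
        · exact ⟨(true, ⟨i, hi⟩), Subtype.ext (by simp [e])⟩
      · refine le_trans (by simp) (Nat.card_le_card_of_injective
          (fun s : Bool × Fin 4 => (if s.1 then ⟨u * (u * v) ^ (s.2 : ℕ), ?_⟩ else ⟨(u * v) ^ (s.2 : ℕ), ?_⟩ : R'))
          fun s s' e => ?_)
        · exact mul_mem hu' (pow_mem huv' _)
        · exact pow_mem huv' _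
        obtain ⟨a, i⟩ := s
        obtain ⟨a', j⟩ := s'
        have e' := congrArg (fun x : R' => ρ x.1) e
        cases a <;> cases a' <;> simp [hu, hv] at e'
        · exact Prod.ext rfl (Fin.ext (((dihedral_images i i.2).2 j j.2).1 e'))
        · exact absurd e'.symm ((dihedral_images j j.2).2 i i.2).2
        · exact absurd e' ((dihedral_images i i.2).2 j j.2).2
        · exact Prod.ext rfl (Fin.ext (((dihedral_images i i.2).2 j j.2).1 e'))
    rw [h3] at h2
    rw [show Nat.card R = 16 by omega] at h1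
    rw [show R.index = 15 by omega]
    exact ⟨7, rfl⟩
  have hτw : MonoidHom.transfer φ wW = Multiplicative.ofAdd 1 := by
    rw [transfer_eq_pow_of_key φ hwR fun k g h => by
      rw [← map_pow]
      congr 1
      refine Subtype.ext ?_
      show g⁻¹ * wW ^ k * g = wW ^ k
      rw [mul_assoc, ((show Commute g wW from hwc g).pow_right k).eq.symm, inv_mul_cancel_left]]
    have hval : φ ⟨wW, hwR⟩ = Multiplicative.ofAdd 1 := if_neg fun h => hwR' h
    obtain ⟨m, hm⟩ := hodd
    rw [hval, hm, pow_succ, pow_mul]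
    have : (Multiplicative.ofAdd (1 : ZMod 2)) ^ 2 = 1 := by decide
    rw [this, one_pow, one_mul]
  set Φ := (MonoidHom.transfer φ).prod ρ with hΦ
  have hΦw : Φ wW = mw := Prod.ext hτw hwρ
  have hΦinj : Function.Injective Φ := by
    rw [injective_iff_map_eq_one]
    intro x hx
    rcases (hker x).1 (congrArg Prod.snd hx) with h | h
    · exact Subtype.ext h
    · rw [show x = wW from Subtype.ext h, hΦw] at hx
      exact absurd hx (by decide)
  have hΦbij : Function.Bijective Φ := (Nat.bijective_iff_injective_and_card Φ).2 ⟨hΦinj, by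
    rw [h240, Nat.card_prod, Nat.card_perm]
    simp [Nat.factorial]⟩
  set e := MulEquiv.ofBijective Φ hΦbij
  refine ⟨(Cg w).subtype.comp e.symm.toMonoidHom, Subtype.val_injective.comp e.symm.injective, ?_, ?_⟩
  · show ((e.symm mw : Cg w) : G) = w
    rw [show e.symm mw = wW from (MulEquiv.symm_apply_eq e).2 hΦw.symm]
  · rw [MonoidHom.range_comp, MonoidHom.range_eq_top.2 e.symm.surjective, ← MonoidHom.range_eq_map,
      Subgroup.range_subtype]

end CfsgLib.MTwelveUnique
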