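import Cfsg.Agent.MTwelveUnique.CentralizerW

/-!
A simple group of order 95040: the lifts of the involutions of `S₅` to the centraliser of `w` are
involutions.
-/

set_option autoImplicit false
set_option maxRecDepth 8000

open scoped Pointwise
open MulAction

namespace CfsgLib.MTwelveUnique

open CfsgLib.MElevenUnique (Cg Ng Cs fixCard mem_Cg mem_Cs Cs_le_Ng inCard inCard_spec)

theorem perm_five_even_of_central : ∀ σ : Equiv.Perm (Fin 5), σ * σ = 1 → Equiv.Perm.sign σ = -1 →
    ¬ 8 ∣ (Finset.univ.filter fun τ : Equiv.Perm (Fin 5) => τ * σ = σ * τ).card := by decide +kernel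

theorem perm_five_double : ∀ σ : Equiv.Perm (Fin 5), σ * σ = 1 → σ ≠ 1 → Equiv.Perm.sign σ = 1 →
    ∃ c : Equiv.Perm (Fin 5), c * σ * c⁻¹ = Equiv.swap 0 1 * Equiv.swap 2 3 := by decide +kernel

theorem perm_five_three : ∀ σ : Equiv.Perm (Fin 5), σ * σ = 1 → Equiv.Perm.sign σ = -1 →
    ∃ π : Equiv.Perm (Fin 5), π * π * π = 1 ∧ π ≠ 1 ∧ σ * π = π * σ ∧
      (∃ c : Equiv.Perm (Fin 5), c * π * c⁻¹ = π⁻¹) := by decide +kernel

theorem perm_five_centraliser : ∀ σ : Equiv.Perm (Fin 5), σ * σ = 1 → Equiv.Perm.sign σ = -1 →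
    ∀ π : Equiv.Perm (Fin 5), π * π * π = 1 → π ≠ 1 → σ * π = π * σ →
    ∀ τ : Equiv.Perm (Fin 5), τ * π = π * τ → ∃ i < 2, ∃ j < 3, τ = σ ^ i * π ^ j := by decide +kernel

variable {G : Type*} [Group G] [Finite G] [IsSimpleGroup G] (hG : Nat.card G = 95040)
include hG

/-- The possible orders of the normaliser of a Sylow 3-subgroup. -/
theorem card_Ng_three [Fact (Nat.Prime 3)] (T : Sylow 3 G) :
    Nat.card (Ng (T : Subgroup G)) = 27 ∨ Nat.card (Ng (T : Subgroup G)) = 108 ∨
      Nat.card (Ng (T : Subgroup G)) = 432 ∨ Nat.card (Ng (T : Subgroup G)) = 1728 := by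
  haveI : Fact (Nat.Prime 11) := ⟨by norm_num⟩
  haveI := Fact.mk Nat.prime_five
  have hT := card_sylow_three' hG T
  have h11 := not_eleven_Ng hG (A := (T : Subgroup G)) (by rw [hT]; norm_num) (by rw [hT]; norm_num)
    (by rw [hT]; exact forall_dvd_of_divisors (by norm_num) (by decide +kernel))
  have h5 : ¬ 5 ∣ Nat.card (Ng (T : Subgroup G)) := by
    intro h
    obtain ⟨q, hqN, hq⟩ := Small.Fusion.exists_orderOf Nat.prime_five h
    obtain ⟨Q, hqQ⟩ := exists_sylow_mem hq
    have hZ : IsPGroup 5 (Subgroup.zpowers q) :=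
      IsPGroup.of_card (n := 1) (by rw [Nat.card_zpowers, hq, pow_one])
    have hmod := GraphSimple.card_inf_centralizer_modEq hZ (Subgroup.zpowers_le.2 hqN)
    rw [hT] at hmod
    set D := (T : Subgroup G) ⊓ Subgroup.centralizer (Subgroup.zpowers q : Set G)
    have hd : Nat.card D ∣ 27 := hT ▸ Subgroup.card_dvd_of_le inf_le_left
    have h3 : 3 ∣ Nat.card D := by
      have key : ∀ d ∈ Nat.divisors 27, 27 % 5 = d % 5 → 3 ∣ d := by decide +kernel
      exact key _ (Nat.mem_divisors.2 ⟨hd, by norm_num⟩) hmod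
    obtain ⟨x, hxD, hx⟩ := Small.Fusion.exists_orderOf Nat.prime_three h3
    have hxQ : x ∈ Cs (Q : Subgroup G) := Small.mem_centralizer_of_commute_prime (card_sylow_five hG Q)
      hqQ (fun e => by rw [e, orderOf_one] at hq; norm_num at hq)
      (mem_Cs.1 hxD.2 q (Subgroup.mem_zpowers q)).symm
    have h' := Subgroup.orderOf_dvd_natCard _ hxQ
    change _ ∣ Nat.card (Cs (Q : Subgroup G)) at h'
    rw [hx, (five_data hG Q).2] at h'
    norm_num at h'
  have hd27 := Subgroup.card_dvd_of_le (Subgroup.le_normalizer : (T : Subgroup G) ≤ Ng (T : Subgroup G))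
  rw [hT] at hd27
  have hn := Small.card_sylow_mul_card_normalizer T
  rw [hG] at hn
  change Nat.card (Sylow 3 G) * Nat.card (Ng (T : Subgroup G)) = 95040 at hn
  have hmod := Small.card_sylow_mod 3 (G := G)
  have hle := card_le' hG (Ng_ne_top' hG (A := (T : Subgroup G)) (by rw [hT]; norm_num) (by rw [hT]; norm_num))
  have hN : Nat.card (Ng (T : Subgroup G)) ∈ Nat.divisors 1728 := by
    refine Nat.mem_divisors.2 ⟨?_, by norm_num⟩
    have h := card_dvd' hG (Ng (T : Subgroup G))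
    rw [show 95040 = 11 * (5 * 1728) by norm_num] at h
    exact (Nat.Coprime.symm (Nat.prime_five.coprime_iff_not_dvd.2 h5)).dvd_of_dvd_mul_left
      ((Nat.Coprime.symm ((show Nat.Prime 11 by norm_num).coprime_iff_not_dvd.2 h11)).dvd_of_dvd_mul_left h)
  have key : ∀ d ∈ Nat.divisors 1728, 27 ∣ d → 95040 / d % 3 = 1 → d ≤ 8640 →
      d = 27 ∨ d = 108 ∨ d = 432 ∨ d = 1728 := by decide +kernel
  refine key _ hN hd27 ?_ hle
  rw [show 95040 / Nat.card (Ng (T : Subgroup G)) = Nat.card (Sylow 3 G) from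
    Nat.div_eq_of_eq_mul_left Nat.card_pos hn.symm]
  exact hmod

theorem not_five_dvd_Cg_three {y : G} (hy : orderOf y = 3) : ¬ 5 ∣ Nat.card (Cg y) := by
  haveI := Fact.mk Nat.prime_five
  intro h5
  obtain ⟨q, hqy, hq⟩ := Small.Fusion.exists_orderOf (H := Cg y) Nat.prime_five h5
  obtain ⟨Q, hqQ⟩ := exists_sylow_mem hq
  have hy' : y ∈ Cs (Q : Subgroup G) := Small.mem_centralizer_of_commute_prime (card_sylow_five hG Q) hqQ
    (fun e => by rw [e, orderOf_one] at hq; norm_num at hq) (mem_Cg.1 hqy).symm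
  have h := Subgroup.orderOf_dvd_natCard _ hy'
  change _ ∣ Nat.card (Cs (Q : Subgroup G)) at h
  rw [hy, (five_data hG Q).2] at h
  norm_num at h

theorem Cg_three_dvd {y : G} (hy : orderOf y = 3) : Nat.card (Cg y) ∣ 1728 := by
  haveI : Fact (Nat.Prime 11) := ⟨by norm_num⟩
  have hy1 : y ≠ 1 := fun e => by rw [e, orderOf_one] at hy; norm_num at hy
  have h := card_dvd' hG (Cg y)
  rw [show 95040 = 11 * (5 * 1728) by norm_num] at h
  exact (Nat.Coprime.symm (Nat.prime_five.coprime_iff_not_dvd.2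
    (not_five_dvd_Cg_three hG hy))).dvd_of_dvd_mul_left
    ((Nat.Coprime.symm ((show Nat.Prime 11 by norm_num).coprime_iff_not_dvd.2
      (not_eleven_Cg' hG hy1 (by rw [hy]; norm_num)))).dvd_of_dvd_mul_left h)

/-- A lift of a transposition does not have order four. -/
theorem false_lift_four {w : G} (hw : orderOf w = 2)
    (ρ : Cg w →* Equiv.Perm (Fin 5)) (hρ : Function.Surjective ρ)
    (hker : ∀ x : Cg w, ρ x = 1 ↔ (x : G) = 1 ∨ (x : G) = w) {t : Cg w} (hσ : ρ t * ρ t = 1)
    (hsign : Equiv.Perm.sign (ρ t) = -1) (htw : (t : G) * t = w) : False := by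
  classical
  haveI := Fact.mk Nat.prime_two
  haveI := Fact.mk Nat.prime_three
  have hw1 : w ≠ 1 := fun e => by rw [e, orderOf_one] at hw; norm_num at hw
  have hw2 : w * w = 1 := by rw [← pow_two, ← hw, pow_orderOf_eq_one]
  have hlift : ∀ a b : Cg w, ρ a = ρ b → (a : G) = b ∨ (a : G) = b * w := by
    intro a b h
    rcases (hker (b⁻¹ * a)).1 (by rw [map_mul, map_inv, h, inv_mul_cancel]) with h' | h'
    · left
      exact (inv_mul_eq_one.1 (by rw [← h']; simp)).symm
    · right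
      have h'' : (b : G)⁻¹ * a = w := by simpa using h'
      exact inv_mul_eq_iff_eq_mul.1 h''
  obtain ⟨π, hπ3, hπ1, hσπ, c, hc⟩ := perm_five_three _ hσ hsign
  obtain ⟨y₀, hy₀⟩ := hρ π
  obtain ⟨h₀, hh₀⟩ := hρ c
  set yW : Cg w := y₀ ^ 4 with hyW
  set y : G := (yW : G) with hy_def
  have hy3 : y ^ 3 = 1 := by
    have h : ρ (y₀ ^ 3) = 1 := by rw [map_pow, hy₀, pow_succ, pow_two]; exact hπ3
    rcases (hker _).1 h with h' | h'
    all_goals
      rw [SubmonoidClass.coe_pow] at h'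
      rw [hy_def, hyW, SubmonoidClass.coe_pow, ← pow_mul, show 4 * 3 = 3 * 4 by norm_num, pow_mul, h']
    · exact one_pow 4
    · rw [show (4 : ℕ) = 2 * 2 by norm_num, pow_mul, pow_two w, hw2, one_pow]
  have hρy : ρ yW = π := by
    rw [hyW, map_pow, hy₀, pow_succ, pow_succ, pow_two, hπ3, one_mul]
  have hy : orderOf y = 3 := orderOf_eq_prime hy3 fun e => hπ1 (by
    rw [← hρy, show yW = 1 from Subtype.ext e, map_one])
  -- conjugates of `y` with the same image
  have hsame : ∀ (a : Cg w) (b : G), b ^ 3 = 1 → ∀ hb : b ∈ Cg w,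
      ρ (a * yW * a⁻¹) = ρ ⟨b, hb⟩ → (a : G) * y * (a : G)⁻¹ = b := by
    intro a b hb3 hb h
    rcases hlift _ _ h with h' | h'
    · simpa using h'
    · exfalso
      have h1 : ((a * yW * a⁻¹ : Cg w) : G) ^ 3 = 1 := by
        rw [Subgroup.coe_mul, Subgroup.coe_mul, Subgroup.coe_inv, conj_pow, ← hy_def, hy3, mul_one,
          mul_inv_cancel]
      rw [h', Commute.mul_pow (show Commute b w from mem_Cg.1 hb), hb3, one_mul, pow_succ, pow_two, hw2,
        one_mul] at h1
      exact hw1 h1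
  have hty : Commute (t : G) y := by
    have h := hsame t y hy3 yW.2 (by
      rw [map_mul, map_mul, map_inv, hρy, hσπ, mul_inv_cancel_right, ← hρy])
    show (t : G) * y = y * t
    calc (t : G) * y = (t : G) * y * (t : G)⁻¹ * t := by group
      _ = y * t := by rw [h]
  have htw2 : (t : G) ^ 2 = w := by rw [pow_two, htw]
  have ht4 : orderOf (t : G) = 4 := by
    refine orderOf_eq_prime_pow (p := 2) (n := 1) ?_ ?_
    · rw [pow_one, htw2]; exact hw1
    · rw [show 2 ^ (1 + 1) = 2 * 2 by norm_num, pow_mul, htw2, pow_two, hw2]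
  -- the elements of `C(w) ∩ C(y)`
  have hJ : ∀ x ∈ Cg w, x ∈ Cg y → ∃ i j : ℕ, x = (t : G) ^ i * y ^ j := by
    intro x hxw hxy
    have hcm : ρ ⟨x, hxw⟩ * π = π * ρ ⟨x, hxw⟩ := by
      rw [← hρy, ← map_mul, ← map_mul]
      exact congrArg ρ (Subtype.ext (mem_Cg.1 hxy))
    obtain ⟨i, -, j, -, hij⟩ := perm_five_centraliser _ hσ hsign π hπ3 hπ1 hσπ _ hcm
    rw [← hρy, ← map_pow, ← map_pow, ← map_mul] at hij
    rcases hlift _ _ hij with h | h
    · exact ⟨i, j, by simpa [hy_def] using h⟩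
    · refine ⟨i + 2, j, ?_⟩
      rw [pow_add, htw2]
      have h' : x = (t : G) ^ i * y ^ j * w := by simpa [hy_def] using h
      rw [h', mul_assoc, mul_assoc]
      congr 1
      exact (show Commute y w from mem_Cg.1 yW.2).pow_left j
  have hJ2 : ∀ x ∈ Cg w, x ∈ Cg y → (∃ k, orderOf x ∣ 2 ^ k) → x ∈ Subgroup.zpowers (t : G) := by
    rintro x hxw hxy ⟨k, hk⟩
    obtain ⟨i, j, rfl⟩ := hJ x hxw hxy
    have h := orderOf_dvd_iff_pow_eq_one.1 (hk.trans (pow_dvd_pow 2 (show k ≤ k + 2 by omega)))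
    rw [Commute.mul_pow ((hty.pow_left i).pow_right j), ← pow_mul, ← pow_mul,
      show (t : G) ^ (i * 2 ^ (k + 2)) = 1 from orderOf_dvd_iff_pow_eq_one.1
        (by rw [ht4]; exact Dvd.dvd.mul_left (Dvd.intro_left (2 ^ k) (by rw [pow_add]; norm_num)) i),
      one_mul] at h
    have hd := orderOf_dvd_of_pow_eq_one h
    rw [hy] at hd
    have hj : 3 ∣ j := (Nat.Coprime.pow_right (k + 2) (show Nat.Coprime 3 2 by norm_num)).dvd_of_dvd_mul_right hd
    rw [show y ^ j = 1 from orderOf_dvd_iff_pow_eq_one.1 (by rw [hy]; exact hj), mul_one]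
    exact pow_mem (Subgroup.mem_zpowers _) i
  have hJodd : ∀ x ∈ Cg w, x ∈ Cg y → ¬ 2 ∣ orderOf x → x ∈ Subgroup.zpowers y := by
    intro x hxw hxy hodd
    obtain ⟨i, j, rfl⟩ := hJ x hxw hxy
    set n := orderOf ((t : G) ^ i * y ^ j) with hn
    have h := pow_orderOf_eq_one ((t : G) ^ i * y ^ j)
    rw [← hn] at h
    have h3 : ((t : G) ^ i * y ^ j) ^ (n * 3) = 1 := by rw [pow_mul, h, one_pow]
    rw [Commute.mul_pow ((hty.pow_left i).pow_right j), ← pow_mul, ← pow_mul,
      show y ^ (j * (n * 3)) = 1 from orderOf_dvd_iff_pow_eq_one.1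
        (by rw [hy]; exact Dvd.dvd.mul_left (Dvd.intro_left n rfl) j), mul_one] at h3
    have hd := orderOf_dvd_of_pow_eq_one h3
    rw [ht4] at hd
    have hn2 : Nat.Coprime 4 (n * 3) := Nat.Coprime.mul_right
      ((Nat.prime_two.coprime_iff_not_dvd.2 hodd).pow_left 2) (by norm_num)
    rw [show (t : G) ^ i = 1 from orderOf_dvd_iff_pow_eq_one.1
      (by rw [ht4]; exact hn2.dvd_of_dvd_mul_right hd), one_mul]
    exact pow_mem (Subgroup.mem_zpowers y) j
  -- the odd complement of `⟨t⟩` in `C(y)`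
  set T2 := Subgroup.zpowers (t : G) with hT2def
  have hT2 : Nat.card T2 = 2 ^ 2 := by rw [hT2def, Nat.card_zpowers, ht4]; norm_num
  have hty' : T2 ≤ Cg y := Subgroup.zpowers_le.2 (mem_Cg.2 hty.eq)
  have h8 : ¬ 2 ^ (2 + 1) ∣ Nat.card (Cg y) := by
    intro h
    obtain ⟨b, hb, hb'⟩ : ∃ b, 2 ^ b ∣ Nat.card (Cg y) ∧ ¬ 2 ^ (b + 1) ∣ Nat.card (Cg y) :=
      ⟨(Nat.card (Cg y)).factorization 2, Nat.ordProj_dvd _ _,
        Nat.pow_succ_factorization_not_dvd Nat.card_pos.ne' Nat.prime_two⟩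
    obtain ⟨R, hTR, hRy, hR⟩ := exists_sylow_le hty' (IsPGroup.of_card hT2) hb hb'
    have hne : T2 ≠ R := fun e => by
      rw [← e, hT2] at hR
      obtain rfl := Nat.pow_right_injective le_rfl hR
      exact hb' h
    obtain ⟨n, hnR, hnT, hnn⟩ := exists_normalizing_not_mem (IsPGroup.of_card hR) hTR hne
    apply hnT
    refine hJ2 n ?_ (hRy hnR) ⟨b, hR ▸ Subgroup.orderOf_dvd_natCard R hnR⟩
    have hx : n * (t : G) * n⁻¹ ∈ T2 := conj_mem_of_mem_Ng hnn (Subgroup.mem_zpowers _)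
    rw [hT2def, ← mem_powers_iff_mem_zpowers] at hx
    obtain ⟨i, hi⟩ := hx
    simp only at hi
    have ho : orderOf ((t : G) ^ i) = 4 := by rw [hi, orderOf_conj', ht4]
    have hi2 : Odd i := by
      rw [← Nat.not_even_iff_odd]
      rintro ⟨m, rfl⟩
      have := orderOf_dvd_of_pow_eq_one (x := (t : G) ^ (m + m)) (n := 2) (by
        rw [← pow_mul, show (m + m) * 2 = 4 * m by ring, ← ht4, pow_mul, pow_orderOf_eq_one, one_pow])
      rw [ho] at this
      norm_num at this
    obtain ⟨m, rfl⟩ := hi2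
    have hnw : n * w * n⁻¹ = w := by
      rw [← htw2, ← conj_pow, ← hi, ← pow_mul, show (2 * m + 1) * 2 = 4 * m + 2 by ring, pow_add,
        ← ht4, pow_mul, pow_orderOf_eq_one, one_pow, one_mul]
    rw [mem_Cg]
    exact mul_inv_eq_iff_eq_mul.1 hnw
  obtain ⟨M, hMy, hyM, hMc, hM2, hMm⟩ := exists_odd_complement (L := Cg y) hty' inferInstance hT2
    two_ne_zero h8
  have hyM' : y ∈ M := hMm y (mem_Cg.2 rfl) (by rw [hy]; norm_num)
  have hMw : ∀ x ∈ M, x ∈ Cg w → x ∈ Subgroup.zpowers y := fun x hx hxw => hJodd x hxw (hMy hx)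
    fun h2 => hM2 (h2.trans (Subgroup.orderOf_dvd_natCard M hx))
  have h9 := nine_dvd_Cg (fun T => card_sylow_three' hG T) hy
  have hd := Cg_three_dvd hG hy
  rw [← hMc] at h9 hd
  have hM927 : Nat.card M = 9 ∨ Nat.card M = 27 := by
    have hdM : Nat.card M ∈ Nat.divisors 432 :=
      Nat.mem_divisors.2 ⟨(Nat.mul_dvd_mul_iff_right (a := Nat.card M) (b := 432) (c := 4) (by norm_num)).1 (by norm_num; norm_num at hd; exact hd),
        by norm_num⟩
    have key : ∀ d ∈ Nat.divisors 432, ¬ 2 ∣ d → 9 ∣ d * 2 ^ 2 → d = 9 ∨ d = 27 := by decide +kernel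
    exact key _ hdM hM2 h9
  have htM : (t : G) ∈ Ng M := hyM (hty' (Subgroup.mem_zpowers _))
  have hwy : w ∈ Cg y := htw2 ▸ pow_mem (hty' (Subgroup.mem_zpowers _)) 2
  have hwM : w ∈ Ng M := hyM hwy
  rcases hM927 with h | h
  · -- order nine
    have hab : ∀ a ∈ M, ∀ b ∈ M, b * a = a * b := fun a ha b hb =>
      mem_Cg.1 (Small.le_centralizer_of_card_sq (p := 3) (by rw [h]; norm_num) ha hb)
    have hwinv : w⁻¹ = w := inv_eq_of_mul_eq_one_right hw2
    have hM1 : ∀ x ∈ M, x = x⁻¹ → x = 1 := by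
      intro x hx e
      rw [← orderOf_eq_one_iff]
      refine Nat.eq_one_of_dvd_coprimes (Nat.Coprime.symm (Nat.prime_two.coprime_iff_not_dvd.2 hM2))
        (Subgroup.orderOf_dvd_natCard M hx) (orderOf_dvd_of_pow_eq_one ?_)
      rw [pow_two]
      nth_rw 1 [e]
      exact inv_mul_cancel x
    let I : Subgroup G :=
      { carrier := {x | x ∈ M ∧ w * x * w⁻¹ = x⁻¹}
        one_mem' := ⟨one_mem M, by simp⟩
        mul_mem' := by
          rintro a b ⟨ha, ha'⟩ ⟨hb, hb'⟩
          refine ⟨mul_mem ha hb, ?_⟩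
          calc w * (a * b) * w⁻¹ = (w * a * w⁻¹) * (w * b * w⁻¹) := by group
            _ = a⁻¹ * b⁻¹ := by rw [ha', hb']
            _ = (a * b)⁻¹ := by rw [← mul_inv_rev, hab a ha b hb]
        inv_mem' := by
          rintro a ⟨ha, ha'⟩
          refine ⟨inv_mem ha, ?_⟩
          calc w * a⁻¹ * w⁻¹ = (w * a * w⁻¹)⁻¹ := by group
            _ = _ := by rw [ha'] }
    have hIM : I ≤ M := fun x hx => hx.1
    obtain ⟨x, hxM, hxy⟩ : ∃ x ∈ M, x ∉ Subgroup.zpowers y := by
      by_contra hc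
      push Not at hc
      have := Subgroup.card_le_of_le (show M ≤ Subgroup.zpowers y from hc)
      rw [h, Nat.card_zpowers, hy] at this
      norm_num at this
    set a := x * (w * x * w⁻¹)⁻¹ with ha_def
    have haI : a ∈ I := by
      have hxw := conj_mem_of_mem_Ng hwM hxM
      refine ⟨mul_mem hxM (inv_mem hxw), ?_⟩
      calc w * (x * (w * x * w⁻¹)⁻¹) * w⁻¹ = (w * x * w⁻¹) * ((w * w) * x⁻¹ * (w * w)⁻¹) := by group
        _ = (x * (w * x * w⁻¹)⁻¹)⁻¹ := by rw [hw2]; group
    have ha1 : a ≠ 1 := fun e => hxy (hMw x hxM (mem_Cg.2 (by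
      rw [ha_def, mul_inv_eq_one] at e
      conv_lhs => rw [e]
      group)))
    have hI3 : Nat.card I = 3 := by
      have h1 : Nat.card I ≤ 3 := by
        by_contra hgt
        obtain ⟨z, hz, hz1⟩ := exists_ne_one_of_ne_bot (inf_ne_bot_of_card hIM
          (Subgroup.zpowers_le.2 hyM') (by rw [h, Nat.card_zpowers, hy]; omega))
        have hzw : w * z * w⁻¹ = z := by
          obtain ⟨i, rfl⟩ := hz.2
          exact mul_inv_eq_iff_eq_mul.2 ((show Commute w y from mem_Cg.1 hwy).zpow_right i).eq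
        exact hz1 (hM1 z (hIM hz.1) (hzw.symm.trans hz.1.2))
      have h2 := (h ▸ Subgroup.card_dvd_of_le hIM : Nat.card I ∣ 9)
      have h3 : 1 < Nat.card I := by
        rw [Finite.one_lt_card_iff_nontrivial]
        exact ⟨⟨⟨a, haI⟩, 1, fun e => ha1 (congrArg Subtype.val e)⟩⟩
      have := Nat.card_pos (α := I)
      interval_cases Nat.card I <;> omega
    have htI : (t : G) * a * (t : G)⁻¹ ∈ I := by
      refine ⟨conj_mem_of_mem_Ng htM haI.1, ?_⟩
      have hcm : w * (t : G) = (t : G) * w := (mem_Cg.1 t.2).symm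
      calc w * ((t : G) * a * (t : G)⁻¹) * w⁻¹
          = (w * (t : G)) * a * (w * (t : G))⁻¹ := by group
        _ = (t : G) * (w * a * w⁻¹) * (t : G)⁻¹ := by rw [hcm]; group
        _ = _ := by rw [haI.2]; group
    have hIa : Subgroup.zpowers a = I := Small.eq_zpowers_of_mem_prime hI3 haI ha1
    have hoa : orderOf a = 3 := Small.orderOf_eq_of_mem_prime hI3 haI ha1
    rw [← hIa, ← mem_powers_iff_mem_zpowers] at htI
    obtain ⟨i, hi⟩ := htI
    simp only at hi
    have hti : (t : G) * a * (t : G)⁻¹ = a ∨ (t : G) * a * (t : G)⁻¹ = a⁻¹ := by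
      rw [← hi, ← pow_mod_orderOf, hoa]
      have : i % 3 < 3 := Nat.mod_lt _ (by norm_num)
      interval_cases hj : i % 3
      · exfalso
        rw [← pow_mod_orderOf, hoa, hj, pow_zero, eq_comm, conj_eq_one_iff] at hi
        exact ha1 hi
      · left; rw [pow_one]
      · right
        rw [eq_inv_iff_mul_eq_one, ← pow_succ, show 2 + 1 = orderOf a by rw [hoa], pow_orderOf_eq_one]
    have hwa : w * a * w⁻¹ = a := by
      rw [← htw2, pow_two]
      rcases hti with e | e
      · calc (t : G) * t * a * ((t : G) * t)⁻¹ = t * ((t : G) * a * (t : G)⁻¹) * (t : G)⁻¹ := by group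
          _ = a := by rw [e, e]
      · calc (t : G) * t * a * ((t : G) * t)⁻¹ = t * ((t : G) * a * (t : G)⁻¹) * (t : G)⁻¹ := by group
          _ = (t : G) * a⁻¹ * (t : G)⁻¹ := by rw [e]
          _ = ((t : G) * a * (t : G)⁻¹)⁻¹ := by group
          _ = a := by rw [e, inv_inv]
    exact ha1 (hM1 a haI.1 (hwa.symm.trans haI.2))
  · -- order twenty-seven
    obtain ⟨T, hMT⟩ := (IsPGroup.of_card (n := 3) (p := 3) (by rw [h]; norm_num) : IsPGroup 3 M).exists_le_sylow
    have hT := card_sylow_three' hG T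
    have hMT' : M = (T : Subgroup G) := Subgroup.eq_of_le_of_card_ge hMT (by rw [hT, h])
    set N := Ng (T : Subgroup G)
    have hCN : Cg y ≤ N := by rw [show N = Ng M by rw [hMT']]; exact hyM
    have hCy : Nat.card (Cg y) = 108 := by rw [← hMc, h]; norm_num
    set a₀ : G := (h₀ : G)
    have hinv : a₀ * y * a₀⁻¹ = y⁻¹ := by
      refine hsame h₀ y⁻¹ (by rw [inv_pow, hy3, inv_one]) (inv_mem yW.2) ?_
      rw [map_mul, map_mul, map_inv, hρy, hh₀, hc,
        show (⟨y⁻¹, inv_mem yW.2⟩ : Cg w) = yW⁻¹ from rfl, map_inv, hρy]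
    have hinvC : a₀ ∈ Ng (Cg y) := by
      refine mem_Ng_of_map_le ?_
      rintro _ ⟨z, hz, rfl⟩
      show a₀ * z * a₀⁻¹ ∈ Cg y
      rw [mem_Cg]
      have hzy : z * y⁻¹ = y⁻¹ * z := (show Commute z y from mem_Cg.1 hz).inv_right.eq
      have hinv' : a₀⁻¹ * y * a₀ = y⁻¹ := by
        have h' := congrArg (fun g => a₀⁻¹ * g * a₀) hinv
        rw [show a₀⁻¹ * (a₀ * y * a₀⁻¹) * a₀ = y by group] at h'
        rw [← inv_inj, inv_inv]
        simpa [mul_assoc] using h'.symm
      calc a₀ * z * a₀⁻¹ * y = a₀ * (z * (a₀⁻¹ * y * a₀)) * a₀⁻¹ := by group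
        _ = a₀ * (y⁻¹ * z) * a₀⁻¹ := by rw [hinv', hzy]
        _ = (a₀ * y * a₀⁻¹)⁻¹ * (a₀ * z * a₀⁻¹) := by group
        _ = y * (a₀ * z * a₀⁻¹) := by rw [hinv, inv_inv]
    have ha₀N : a₀ ∈ N := by
      rw [show N = Ng M by rw [hMT']]
      refine mem_Ng_of_map_le ?_
      rintro _ ⟨z, hz, rfl⟩
      refine hMm _ (conj_mem_of_mem_Ng hinvC (hMy hz)) ?_
      show ¬ 2 ∣ orderOf (a₀ * z * a₀⁻¹)
      rw [orderOf_conj']
      exact fun h2 => hM2 (h2.trans (Subgroup.orderOf_dvd_natCard M hz))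
    have hyinv : y⁻¹ ≠ y := fun e => by
      have h2 : orderOf y ∣ 2 := orderOf_dvd_of_pow_eq_one (by
        rw [pow_two]; nth_rw 1 [← e]; exact inv_mul_cancel y)
      rw [hy] at h2
      norm_num at h2
    have ha₀C : a₀ ∉ Cg y := fun hh => hyinv (by
      rw [← hinv]
      exact mul_inv_eq_iff_eq_mul.2 (mem_Cg.1 hh))
    have hN : Nat.card N = 432 ∨ Nat.card N = 1728 := by
      have h1 : Nat.card (Cg y) < Nat.card N := lt_of_le_of_ne (Subgroup.card_le_of_le hCN) fun e =>
        ha₀C ((Subgroup.eq_of_le_of_card_ge hCN e.ge).ge ha₀N)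
      rw [hCy] at h1
      rcases card_Ng_three hG T with h' | h' | h' | h' <;> change Nat.card N = _ at h' <;> omega
    set D := (Cg y).subgroupOf N
    have hX : Nat.card (N ⧸ D) * 108 = Nat.card N := by
      have h := D.index_mul_card
      rwa [card_subgroupOf hCN, hCy, Subgroup.index_eq_card] at h
    have htN : (t : G) ∈ N := hCN (hty' (Subgroup.mem_zpowers _))
    set tN : N := ⟨t, htN⟩
    -- a non-trivial power of `t` fixes exactly two conjugates of `y`
    have hconj : ∀ n n' : N, (n : N ⧸ D) = n' ↔ (n : G) * y * (n : G)⁻¹ = n' * y * (n' : G)⁻¹ := by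
      intro n n'
      rw [QuotientGroup.eq]
      show ((n⁻¹ * n' : N) : G) ∈ Cg y ↔ _
      rw [Subgroup.coe_mul, Subgroup.coe_inv, mem_Cg]
      constructor
      · intro e
        calc (n : G) * y * (n : G)⁻¹ = n * (y * ((n : G)⁻¹ * n')) * (n' : G)⁻¹ := by group
          _ = n * ((n : G)⁻¹ * n' * y) * (n' : G)⁻¹ := by rw [e]
          _ = n' * y * (n' : G)⁻¹ := by group
      · intro e
        calc (n : G)⁻¹ * n' * y = (n : G)⁻¹ * (n' * y * (n' : G)⁻¹) * n' := by group
          _ = (n : G)⁻¹ * (n * y * (n : G)⁻¹) * n' := by rw [e]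
          _ = y * ((n : G)⁻¹ * n') := by group
    have hfix : ∀ a ∈ Subgroup.zpowers tN, a ≠ 1 → fixCard (N ⧸ D) a = 2 := by
      intro a ha ha1
      rw [← mem_powers_iff_mem_zpowers] at ha
      obtain ⟨i, hi⟩ := ha
      simp only at hi
      have hai : (a : G) = (t : G) ^ i := by rw [← hi, SubmonoidClass.coe_pow]
      have hi4 : ¬ 4 ∣ i := fun h4 => ha1 (Subtype.ext (by
        rw [hai, OneMemClass.coe_one, ← orderOf_dvd_iff_pow_eq_one, ht4]; exact h4))
      have hsmul : ∀ n : N, a • (n : N ⧸ D) = n ↔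
          (a : G) * ((n : G) * y * (n : G)⁻¹) = (n : G) * y * (n : G)⁻¹ * a := by
        intro n
        rw [smul_mk_eq_iff]
        show ((n⁻¹ * a * n : N) : G) ∈ Cg y ↔ _
        rw [Subgroup.coe_mul, Subgroup.coe_mul, Subgroup.coe_inv, mem_Cg]
        constructor
        · intro e
          calc (a : G) * ((n : G) * y * (n : G)⁻¹) = n * ((n : G)⁻¹ * a * n * y) * (n : G)⁻¹ := by group
            _ = n * (y * ((n : G)⁻¹ * a * n)) * (n : G)⁻¹ := by rw [e]
            _ = _ := by group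
        · intro e
          calc (n : G)⁻¹ * a * n * y = (n : G)⁻¹ * ((a : G) * ((n : G) * y * (n : G)⁻¹)) * n := by group
            _ = (n : G)⁻¹ * ((n : G) * y * (n : G)⁻¹ * a) * n := by rw [e]
            _ = _ := by group
      have hval : ∀ n : N, a • (n : N ⧸ D) = n →
          (n : G) * y * (n : G)⁻¹ = y ∨ (n : G) * y * (n : G)⁻¹ = y⁻¹ := by
        intro n hn
        set y' := (n : G) * y * (n : G)⁻¹ with hy'
        have hcy : Commute ((t : G) ^ i) y' := hai ▸ (hsmul n).1 hn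
        have hw' : Commute w y' := by
          rcases Nat.even_or_odd i with ⟨m, hm⟩ | ⟨m, hm⟩
          · have hm2 : Odd m := by
              rw [← Nat.not_even_iff_odd]
              rintro ⟨r, hr⟩
              exact hi4 ⟨r, by omega⟩
            obtain ⟨r, rfl⟩ := hm2
            rw [hm, show 2 * r + 1 + (2 * r + 1) = 4 * r + 2 by ring, pow_add, ← ht4, pow_mul,
              pow_orderOf_eq_one, one_pow, one_mul, htw2] at hcy
            exact hcy
          · have h2 := hcy.pow_left 2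
            rw [← pow_mul, hm, show (2 * m + 1) * 2 = 4 * m + 2 by ring, pow_add, ← ht4, pow_mul,
              pow_orderOf_eq_one, one_pow, one_mul, htw2] at h2
            exact h2
        have hy'M : y' ∈ M := hMT' ▸ conj_mem_of_mem_Ng n.2 (hMT' ▸ hyM')
        have hmem := hMw y' hy'M (mem_Cg.2 hw'.eq.symm)
        rw [← mem_powers_iff_mem_zpowers] at hmem
        obtain ⟨j, hj⟩ := hmem
        simp only at hj
        rw [← pow_mod_orderOf, hy] at hj
        have : j % 3 < 3 := Nat.mod_lt _ (by norm_num)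
        interval_cases hj3 : j % 3
        · exfalso
          rw [pow_zero, hy', eq_comm, conj_eq_one_iff] at hj
          rw [hj, orderOf_one] at hy
          norm_num at hy
        · left; rw [← hj, pow_one]
        · right; rw [← hj]; exact eq_inv_of_mul_eq_one_left (by rw [← pow_succ]; exact hy3)
      have hb : a • ((1 : N) : N ⧸ D) = ((1 : N) : N ⧸ D) := (hsmul 1).2 (by
        rw [OneMemClass.coe_one, one_mul, inv_one, mul_one, hai]
        exact (hty.pow_left i).eq)
      have hh : a • ((⟨a₀, ha₀N⟩ : N) : N ⧸ D) = ((⟨a₀, ha₀N⟩ : N) : N ⧸ D) := (hsmul _).2 (by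
        show (a : G) * (a₀ * y * a₀⁻¹) = a₀ * y * a₀⁻¹ * a
        rw [hinv, hai]
        exact (hty.pow_left i).inv_right.eq)
      have hne : ((1 : N) : N ⧸ D) ≠ ((⟨a₀, ha₀N⟩ : N) : N ⧸ D) := by
        rw [Ne, hconj]
        simp only [OneMemClass.coe_one, one_mul, inv_one, mul_one]
        rw [hinv]
        exact hyinv.symm
      have hset : fixedBy (N ⧸ D) a = {((1 : N) : N ⧸ D), ((⟨a₀, ha₀N⟩ : N) : N ⧸ D)} := by
        ext c
        induction c using QuotientGroup.induction_on with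
        | _ n =>
          constructor
          · intro hn
            rcases hval n hn with e | e
            · left
              rw [hconj]
              simpa using e
            · right
              show (n : N ⧸ D) = _
              rw [hconj, e]
              exact hinv.symm
          · rintro (e | e)
            · rw [e]; exact hb
            · rw [show (n : N ⧸ D) = _ from e]; exact hh
      rw [fixCard, Nat.card_coe_set_eq, hset, Set.ncard_pair hne]
    have hdvd := MElevenUnique.card_dvd_add_mul (G := N) (X := N ⧸ D) (Subgroup.zpowers tN) 2 hfix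
    rw [Nat.card_zpowers, show orderOf tN = 4 by rw [← Subgroup.orderOf_coe]; exact ht4] at hdvd
    rcases hN with e | e <;> rw [e] at hX <;> omega

end CfsgLib.MTwelveUnique
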