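import Cfsg.Agent.Small.ClassCheck

/-!
The degree and value search at involutions, with the orthogonality of the columns of two classes.
-/

set_option autoImplicit false

namespace CfsgLib.MTwelveUnique

open CfsgLib.Characters CfsgLib.Small CfsgLib.Small.Degree CfsgLib.Small.Check
open scoped ComplexConjugate

/-- All value lists allowed by the column relation, the class equation and the norm. -/
def valsRec (idx GN : ℕ) (tgt : ℤ) : List Item → ℤ → ℤ → ℤ → List (List ℤ)
  | [], A, R, _ => if A == 0 && R == tgt then [[]] else []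
  | (co, m, d) :: l, A, R, q => (List.range ((d - 1) / 2)).flatMap fun j : ℕ =>
      let v : ℤ := (d : ℤ) - 4 * ((j : ℤ) + 1)
      if decide ((m : ℤ) * (v * v) ≤ q) && decide (((idx : ℤ) * v) % (d : ℤ) = 0) then
        (valsRec idx GN tgt l (A + co * v) (R + co * (v * v) * ((GN / d : ℕ) : ℤ))
          (q - (m : ℤ) * (v * v))).map (fun vs => v :: vs)
      else []

/-- The possible values at an involution with centraliser order `C`, outside the normaliser. -/
def valsOf (GN C : ℕ) (items : List Item) : List (List ℤ) :=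
  valsRec (GN / C) GN 0 items 1 (GN : ℤ) ((C : ℤ) - 1)

/-- The weighted scalar product of two value lists. -/
def dotRec : List Item → List ℤ → List ℤ → ℤ
  | (_, m, _) :: l, a :: as, c :: cs => (m : ℤ) * (a * c) + dotRec l as cs
  | _, _, _ => 0

/-- Orthogonality of two columns allows the value lists. -/
def colOK (items : List Item) (Ct Cu : ℕ) (a c : List ℤ) : Bool :=
  decide ((1 + dotRec items a c) * (1 + dotRec items a c) ≤
    ((Ct : ℤ) - 1 - dotRec items a a) * ((Cu : ℤ) - 1 - dotRec items c c))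

theorem colOK_iff {items : List Item} {Ct Cu : ℕ} {a c : List ℤ} :
    colOK items Ct Cu a c = true ↔ (1 + dotRec items a c) * (1 + dotRec items a c) ≤
      ((Ct : ℤ) - 1 - dotRec items a a) * ((Cu : ℤ) - 1 - dotRec items c c) := by
  simp [colOK]

theorem dotRec_map {α : Type*} (f : α → Item) (a c : α → ℤ) : ∀ l : List α,
    dotRec (l.map f) (l.map a) (l.map c) = (l.map fun x => ((f x).2.1 : ℤ) * (a x * c x)).sum
  | [] => by simp [dotRec]
  | x :: l => by simp [dotRec, dotRec_map f a c l]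

theorem valsRec_sound {α : Type*} (idx GN : ℕ) (tgt : ℤ) (f : α → Item) (v : α → ℤ) :
    ∀ (l : List α) (A R q : ℤ),
      (∀ a ∈ l, ((f a).2.2 : ℤ) % 4 = v a % 4 ∧ ((f a).2.2 : ℤ) ∣ (idx : ℤ) * v a ∧
        -((f a).2.2 : ℤ) < v a ∧ v a < ((f a).2.2 : ℤ)) →
      A + (l.map fun a => (f a).1 * v a).sum = 0 →
      R + (l.map fun a => (f a).1 * (v a * v a) * ((GN / (f a).2.2 : ℕ) : ℤ)).sum = tgt →
      (l.map fun a => ((f a).2.1 : ℤ) * (v a * v a)).sum ≤ q →
      l.map v ∈ valsRec idx GN tgt (l.map f) A R q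
  | [], A, R, q, _, hA, hR, _ => by
    simp only [List.map_nil, List.sum_nil, add_zero] at hA hR
    simp [valsRec, hA, hR]
  | a :: l, A, R, q, hprop, hA, hR, hq => by
    obtain ⟨h1, h2, h3, h4⟩ := hprop a List.mem_cons_self
    have hnn : 0 ≤ (l.map fun a => ((f a).2.1 : ℤ) * (v a * v a)).sum := List.sum_nonneg fun x hx => by
      obtain ⟨b, -, rfl⟩ := List.mem_map.1 hx
      exact mul_nonneg (Int.natCast_nonneg _) (mul_self_nonneg _)
    simp only [List.map_cons, List.sum_cons] at hA hR hq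
    set m := (f a).2.1
    set d := (f a).2.2
    set co := (f a).1
    have hf : f a = (co, m, d) := rfl
    rw [List.map_cons, List.map_cons, hf, valsRec, List.mem_flatMap]
    refine ⟨(((d : ℤ) - v a) / 4 - 1).toNat, List.mem_range.2 (by omega), ?_⟩
    have hj : (d : ℤ) - 4 * ((((((d : ℤ) - v a) / 4 - 1).toNat : ℕ) : ℤ) + 1) = v a := by omega
    simp only [hj]
    rw [if_pos (by
      simp only [Bool.and_eq_true, decide_eq_true_eq]
      exact ⟨by linarith, Int.emod_eq_zero_of_dvd h2⟩)]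
    exact List.mem_map_of_mem (valsRec_sound idx GN tgt f v l _ _ _
      (fun b hb => hprop b (List.mem_cons_of_mem _ hb)) (by linarith) (by linarith) (by linarith))

universe u

variable {G : Type u} [Group G] [Finite G] {p : ℕ} [Fact p.Prime]

set_option maxHeartbeats 1600000 in
/-- **Soundness** of the search for values at all involutions with the orthogonality of different
columns. -/
theorem sel_eq_true_orth [IsSimpleGroup G] (hG : ¬ IsMulCommutative G) (P : Subgroup G)
    (hP : Nat.card P = p) (hC : Subgroup.centralizer (P : Set G) = P) (e k B : ℕ)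
    (he : Nat.card (Subgroup.normalizer (P : Set G)) = p * e) (hk : k * e = p - 1) (hp2 : p ≠ 2)
    (hB : Nat.card G < B * B) (pred : List Item → Bool)
    (hk2 : 2 ≤ k)
    (hN : ∀ t : G, orderOf t = 2 → ¬ ∃ u : G, u ∈ Subgroup.normalizer (P : Set G) ∧ IsConj t u)
    (hpred : ∀ (items : List Item) (V : G → List ℤ),
      (∀ t : G, orderOf t = 2 →
        V t ∈ valsOf (Nat.card G) (Nat.card (Subgroup.centralizer ({t} : Set G))) items) →
      (∀ t u : G, orderOf t = 2 → orderOf u = 2 → ¬ IsConj t u →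
        colOK items (Nat.card (Subgroup.centralizer ({t} : Set G)))
          (Nat.card (Subgroup.centralizer ({u} : Set G))) (V t) (V u) = true) →
      pred items = true) :
    sel p e k (Nat.card G) B pred = true := by
  classical
  haveI := Fintype.ofFinite G
  have hp := (Fact.out : p.Prime)
  set GN := Nat.card G with hGN
  have hk1 : 1 ≤ k := by
    rcases Nat.eq_zero_or_pos k with rfl | h
    · rw [zero_mul] at hk; have := hp.two_le; omega
    · exact h
  obtain ⟨b, dg, X, χ₀, σ, β, d, hσ, hXc, hχX, hb0, hone, hall, hnorm, hdeg, hvan, hsumP⟩ :=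
    exists_data hG P hP hC e k he hk hk1
  obtain ⟨ψ, hψ⟩ : X.Nonempty := Finset.card_pos.1 (by omega)
  have hψ0 : ψ ≠ χ₀ := fun h => hχX (h ▸ hψ)
  have hd0 : dg χ₀ = 1 := by
    have h := (hall χ₀).1
    rw [hone] at h
    exact_mod_cast h.symm
  have hXψ : ∀ φ ∈ X, b φ = β ∧ dg φ = d := fun φ hφ =>
    ⟨((hall φ).2.2.2.2 hφ).1, ((hall φ).2.2.2.2 hφ).2.1⟩
  -- the values at the involutions
  have hvex : ∀ (χ : Cfsg.IrrCharacter G) (t : G), ∃ v : ℤ, orderOf t = 2 → (χ : G → ℂ) t = v ∧
      (χ ≠ χ₀ → (dg χ : ℤ) % 4 = v % 4 ∧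
        (dg χ : ℤ) ∣ ((Subgroup.centralizer ({t} : Set G)).index : ℤ) * v ∧
        -(dg χ : ℤ) < v ∧ v < dg χ) := by
    intro χ t
    by_cases ht : orderOf t = 2
    · by_cases hχ : χ = χ₀
      · exact ⟨1, fun _ => ⟨by rw [hχ, hone, Int.cast_one], fun h => absurd hχ h⟩⟩
      · obtain ⟨v, hv, hv'⟩ := exists_value hG χ (hall χ).1 ((hall χ).2.2.1 hχ) ht
        exact ⟨v, fun _ => ⟨hv, fun _ => hv'⟩⟩
    · exact ⟨0, fun h => absurd h ht⟩
  choose v hv using hvex
  -- the coefficient of the exceptional representative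
  set S := ((Finset.univ \ X).erase χ₀).filter fun χ => b χ ≠ 0
  have hSmem : ∀ χ ∈ S, b χ ≠ 0 ∧ χ ≠ χ₀ ∧ χ ∉ X := fun χ h => by
    obtain ⟨h1, h2⟩ := Finset.mem_filter.1 h
    exact ⟨h2, (Finset.mem_erase.1 h1).1, (Finset.mem_sdiff.1 (Finset.mem_erase.1 h1).2).2⟩
  have hχd : χ₀ ∈ Finset.univ \ X := Finset.mem_sdiff.2 ⟨Finset.mem_univ _, hχX⟩
  have split : ∀ {R : Type} [CommRing R] (F : Cfsg.IrrCharacter G → R) (w : R),
      (∀ φ ∈ X, F φ = w) → (∀ χ, b χ = 0 → F χ = 0) →
      ∑ χ, F χ = F χ₀ + ∑ χ ∈ S, F χ + (k : R) * w := by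
    intro R _ F w hF hF0
    rw [← Finset.sum_sdiff (Finset.subset_univ X), ← Finset.add_sum_erase _ _ hχd,
      Finset.sum_congr rfl hF, Finset.sum_const, hXc, nsmul_eq_mul,
      ← Finset.sum_filter_add_sum_filter_not ((Finset.univ \ X).erase χ₀) (fun χ => b χ ≠ 0),
      Finset.sum_eq_zero (s := ((Finset.univ \ X).erase χ₀).filter fun χ => ¬ b χ ≠ 0)
        (fun χ h => hF0 χ (not_not.1 (Finset.mem_filter.1 h).2)), add_zero]
  have lower : ∀ (F : Cfsg.IrrCharacter G → ℤ) (w : ℤ), (∀ φ ∈ X, F φ = w) → (∀ χ, 0 ≤ F χ) →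
      F χ₀ + ∑ χ ∈ S, F χ + (k : ℤ) * w ≤ ∑ χ, F χ := by
    intro F w hF hF0
    rw [← Finset.sum_sdiff (Finset.subset_univ X), ← Finset.add_sum_erase _ _ hχd,
      Finset.sum_congr rfl hF, Finset.sum_const, hXc, nsmul_eq_mul]
    gcongr
    · intro χ _ _; exact hF0 χ
    · exact Finset.filter_subset _ _
  -- the relations at an involution
  have hrel : ∀ t : G, orderOf t = 2 →
      (∀ φ ∈ X, v φ t = v ψ t) ∧ ∑ χ, b χ * v χ t + σ * v ψ t = 0 := by
    intro t ht
    have htP : ∀ g : G, g * t * g⁻¹ ∉ P := by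
      intro g hg
      have h1 : g * t * g⁻¹ ≠ 1 := fun h => by
        rw [conj_eq_one_iff.1 h, orderOf_one] at ht; omega
      have := orderOf_eq_of_mem_prime hP hg h1
      rw [orderOf_conj_eq, ht] at this
      exact hp2 this.symm
    have h : ∀ φ ∈ X, ∑ χ, b χ * v χ t + σ * v φ t = 0 := by
      intro φ hφ
      have h := hvan t htP φ hφ
      simp only [fun χ => (hv χ t ht).1] at h
      exact_mod_cast h
    refine ⟨fun φ hφ => ?_, h ψ hψ⟩
    have h1 := h φ hφ
    have h2 := h ψ hψ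
    rcases hσ with rfl | rfl <;> linarith
  have hclass : ∀ t : G, orderOf t = 2 → ∀ δ : Bool,
      (δ = true ↔ ∃ u : G, u ∈ Subgroup.normalizer (P : Set G) ∧ IsConj t u) →
      ∑ χ, b χ * (v χ t * v χ t) * ((GN / dg χ : ℕ) : ℤ) + σ * (v ψ t * v ψ t) * ((GN / d : ℕ) : ℤ)
        = if δ = true then ((p * Nat.card (Subgroup.centralizer ({t} : Set G))
            * Nat.card (Subgroup.centralizer ({t} : Set G)) : ℕ) : ℤ) else 0 := by
    intro t ht δ hδ
    have hvt := fun χ => (hv χ t ht).1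
    have key := ClassPairs.card_pairs t t (Finset.univ.filter fun g => g ∈ P ∧ g ≠ 1)
    rw [card_pairs_eq hP hC hp2 ht _ (fun g => by simp), Finset.mul_sum] at key
    simp only [hsumP, hvt, fun χ => (hall χ).1] at key
    have hk'' : ((p : ℂ) - 1) = (k : ℂ) * (e : ℂ) := by
      have : 1 ≤ p := hp.one_le
      rw [show ((p : ℂ) - 1) = ((p - 1 : ℕ) : ℂ) by push_cast [Nat.cast_sub this]; ring, ← hk]
      push_cast; ring
    have hterm : ∀ χ : Cfsg.IrrCharacter G,
        (Nat.card G : ℂ) *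
          ((((((p : ℤ) - 1) * b χ + if χ ∈ X then σ * (e : ℤ) else 0) : ℤ) : ℂ)
            * ((v χ t : ℂ) * (v χ t : ℂ) / (dg χ : ℂ)))
        = ((p : ℂ) - 1) * ((b χ * (v χ t * v χ t) * ((GN / dg χ : ℕ) : ℤ) : ℤ) : ℂ)
          + if χ ∈ X then (e : ℂ) * ((σ * (v ψ t * v ψ t) * ((GN / d : ℕ) : ℤ) : ℤ) : ℂ) else 0 := by
      intro χ
      have hne : (dg χ : ℂ) ≠ 0 := Nat.cast_ne_zero.2 fun h => by
        have := (hall χ).2.1
        rw [h, zero_dvd_iff] at this
        exact Nat.card_pos.ne' this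
      have hcast : ((GN / dg χ : ℕ) : ℂ) = (Nat.card G : ℂ) / (dg χ : ℂ) := by
        rw [Nat.cast_div (hall χ).2.1 hne]
      by_cases hχ : χ ∈ X
      · rw [(hXψ χ hχ).2] at hcast ⊢
        simp only [if_pos hχ, (hrel t ht).1 χ hχ, Int.cast_mul, Int.cast_add, Int.cast_sub,
          Int.cast_natCast, Int.cast_one]
        rw [hcast]; ring
      · simp only [if_neg hχ, Int.cast_mul, Int.cast_add, Int.cast_sub, Int.cast_natCast, Int.cast_one,
          Int.cast_zero]
        rw [hcast]; ring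
    rw [Finset.sum_congr rfl fun χ _ => hterm χ, Finset.sum_add_distrib, ← Finset.mul_sum,
      Finset.sum_ite_mem, Finset.univ_inter, Finset.sum_const, hXc, nsmul_eq_mul, ← mul_assoc,
      ← hk'', ← mul_add] at key
    have hp1 : (p : ℂ) - 1 ≠ 0 := by
      rw [sub_ne_zero]
      exact_mod_cast hp.one_lt.ne'
    have hC' : ∀ c : ℂ, ((p : ℂ) - 1) * p * c ^ 2 = ((p : ℂ) - 1) * (p * c * c) := fun c => by ring
    split_ifs at key with h
    · rw [if_pos (hδ.2 h)]
      rw [hC'] at key
      have := mul_left_cancel₀ hp1 key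
      rw [← Int.cast_inj (α := ℂ)]
      push_cast at this ⊢
      exact this.symm
    · rw [if_neg (fun h' => h (hδ.1 h'))]
      have h0 := (mul_eq_zero.1 key.symm).resolve_left hp1
      rw [← Int.cast_inj (α := ℂ)]
      push_cast at h0 ⊢
      exact h0
  have hsq : ∑ χ, ((dg χ : ℤ)) ^ 2 = (GN : ℤ) := by
    have h := sum_degree_sq (G := G)
    simp only [fun χ => (hall χ).1] at h
    exact_mod_cast h
  have hcol : ∀ t : G, orderOf t = 2 →
      ∑ χ, v χ t * v χ t = (Nat.card (Subgroup.centralizer ({t} : Set G)) : ℤ) := by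
    intro t ht
    have h := sum_irr_mul_conj_of_isConj (IsConj.refl t)
    simp only [fun χ => (hv χ t ht).1, map_intCast] at h
    exact_mod_cast h
  have hidx : ∀ t : G, ((Subgroup.centralizer ({t} : Set G)).index : ℤ)
      = ((GN / Nat.card (Subgroup.centralizer ({t} : Set G)) : ℕ) : ℤ) := fun t => by
    rw [hGN, ← Subgroup.index_mul_card (Subgroup.centralizer ({t} : Set G)),
      Nat.mul_div_cancel _ Nat.card_pos]
  have hdB : ∀ χ : Cfsg.IrrCharacter G, χ ≠ χ₀ → dg χ ∈ degrees GN B := by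
    intro χ hχ
    refine mem_degrees.2 ⟨?_, (hall χ).2.2.1 hχ, (hall χ).2.1⟩
    have h1 : ((dg χ : ℤ)) ^ 2 ≤ (GN : ℤ) :=
      hsq ▸ Finset.single_le_sum (fun i _ => sq_nonneg ((dg i : ℤ))) (Finset.mem_univ χ)
    by_contra hle
    push Not at hle
    have h2 : B * B ≤ dg χ * dg χ := Nat.mul_le_mul hle hle
    have h3 : ((GN : ℤ)) < ((B * B : ℕ) : ℤ) := by exact_mod_cast hB
    push_cast at h3
    have h4 : ((B * B : ℕ) : ℤ) ≤ ((dg χ * dg χ : ℕ) : ℤ) := by exact_mod_cast h2
    push_cast at h4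
    linarith [sq ((dg χ : ℤ))]
  -- the sums, read on lists
  have toList : ∀ {R : Type} [AddCommMonoid R] (T : Finset (Cfsg.IrrCharacter G))
      (l : List (Cfsg.IrrCharacter G)), l.Perm T.toList → ∀ F : Cfsg.IrrCharacter G → R,
      (l.map F).sum = ∑ χ ∈ T, F χ := fun T l hl F => by
    rw [(hl.map F).sum_eq, Finset.sum_map_toList]
  have sumN := split (fun χ => b χ * b χ) (β * β)
    (fun φ hφ => by simp only [(hXψ φ hφ).1]) (fun χ h => by simp only [h, mul_zero])
  have sumD := split (fun χ => b χ * (dg χ : ℤ)) (β * (d : ℤ))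
    (fun φ hφ => by simp only [(hXψ φ hφ).1, (hXψ φ hφ).2]) (fun χ h => by simp only [h, zero_mul])
  have sumQ := lower (fun χ => (dg χ : ℤ) ^ 2) ((d : ℤ) ^ 2)
    (fun φ hφ => by simp only [(hXψ φ hφ).2]) (fun χ => sq_nonneg _)
  rw [hnorm, hb0] at sumN
  rw [sumD, hb0, hd0] at hdeg
  rw [hsq, hd0] at sumQ
  push_cast at hdeg sumQ
  have sumA : ∀ t : G, orderOf t = 2 →
      1 + ∑ χ ∈ S, b χ * v χ t + ((k : ℤ) * β + σ) * v ψ t = 0 := by
    intro t ht
    have h := split (fun χ => b χ * v χ t) (β * v ψ t)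
      (fun φ hφ => by simp only [(hXψ φ hφ).1, (hrel t ht).1 φ hφ]) (fun χ h => by simp only [h, zero_mul])
    have h' := (hrel t ht).2
    have hv1 : v χ₀ t = 1 := by
      have h1 := (hv χ₀ t ht).1
      rw [hone] at h1
      exact_mod_cast h1.symm
    rw [h, hb0, hv1] at h'
    linarith
  have sumR : ∀ t : G, orderOf t = 2 → ∀ δ : Bool,
      (δ = true ↔ ∃ u : G, u ∈ Subgroup.normalizer (P : Set G) ∧ IsConj t u) →
      (GN : ℤ) + ∑ χ ∈ S, b χ * (v χ t * v χ t) * ((GN / dg χ : ℕ) : ℤ)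
        + ((k : ℤ) * β + σ) * (v ψ t * v ψ t) * ((GN / d : ℕ) : ℤ)
        = if δ = true then ((p * Nat.card (Subgroup.centralizer ({t} : Set G))
            * Nat.card (Subgroup.centralizer ({t} : Set G)) : ℕ) : ℤ) else 0 := by
    intro t ht δ hδ
    have h := split (fun χ => b χ * (v χ t * v χ t) * ((GN / dg χ : ℕ) : ℤ))
      (β * (v ψ t * v ψ t) * ((GN / d : ℕ) : ℤ))
      (fun φ hφ => by simp only [(hXψ φ hφ).1, (hXψ φ hφ).2, (hrel t ht).1 φ hφ])
      (fun χ h => by simp only [h, zero_mul])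
    have hv1 : v χ₀ t = 1 := by
      have h1 := (hv χ₀ t ht).1
      rw [hone] at h1
      exact_mod_cast h1.symm
    rw [← hclass t ht δ hδ, h, hb0, hv1, hd0, Nat.div_one]
    ring
  have sumC : ∀ t : G, orderOf t = 2 →
      1 + ∑ χ ∈ S, v χ t * v χ t + (k : ℤ) * (v ψ t * v ψ t)
        ≤ (Nat.card (Subgroup.centralizer ({t} : Set G)) : ℤ) := by
    intro t ht
    have h := lower (fun χ => v χ t * v χ t) (v ψ t * v ψ t)
      (fun φ hφ => by simp only [(hrel t ht).1 φ hφ]) (fun χ => mul_self_nonneg _)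
    have hv1 : v χ₀ t = 1 := by
      have h1 := (hv χ₀ t ht).1
      rw [hone] at h1
      exact_mod_cast h1.symm
    rw [hcol t ht, hv1] at h
    linarith
  have hGN1 : ((GN - 1 : ℕ) : ℤ) = (GN : ℤ) - 1 := by
    have : 0 < GN := Nat.card_pos
    omega
  unfold sel
  rw [if_neg (by omega : ¬ k ≤ 1), List.any_eq_true]
  have hσσ : σ * σ = 1 := by rcases hσ with rfl | rfl <;> norm_num
  have hn0 : 0 ≤ (e : ℤ) - 2 * σ * β - (k : ℤ) * (β * β) - 1 := by
    have : 0 ≤ ∑ χ ∈ S, b χ * b χ := Finset.sum_nonneg fun χ _ => mul_self_nonneg _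
    linarith
  have hβ : -((e : ℤ) + 2) ≤ β ∧ β ≤ (e : ℤ) + 2 := by
    have hk2 : (2 : ℤ) ≤ k := by exact_mod_cast (by omega : 2 ≤ k)
    rcases hσ with rfl | rfl <;> constructor <;>
      nlinarith [mul_self_nonneg (β - 1), mul_self_nonneg (β + 1), mul_self_nonneg β]
  have hi : (((β + ((e : ℤ) + 2)).toNat : ℕ) : ℤ) - ((e : ℤ) + 2) = β := by omega
  refine ⟨(β + ((e : ℤ) + 2)).toNat, List.mem_range.2 (by omega), ?_⟩
  rw [List.any_eq_true]
  refine ⟨σ, by rcases hσ with rfl | rfl <;> simp, ?_⟩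
  simp only [hi, Bool.and_eq_true, decide_eq_true_eq, List.any_eq_true]
  refine ⟨hn0, d, (hXψ ψ hψ).2 ▸ hdB ψ hψ0, ⟨?_, ?_⟩, ?_⟩
  · have h := ((hall ψ).2.2.2.2 hψ).2.2
    rw [(hXψ ψ hψ).2] at h
    exact Int.emod_eq_zero_of_dvd h
  · have h : ((k * (d * d) : ℕ) : ℤ) ≤ ((GN - 1 : ℕ) : ℤ) := by
      rw [hGN1]; push_cast
      have : 0 ≤ ∑ χ ∈ S, (dg χ : ℤ) ^ 2 := Finset.sum_nonneg fun χ _ => sq_nonneg _
      simp only [sq] at sumQ this
      linarith
    exact_mod_cast h
  · set n := ((e : ℤ) - 2 * σ * β - (k : ℤ) * (β * β) - 1).toNat with hn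
    have hn' : (n : ℤ) = (e : ℤ) - 2 * σ * β - (k : ℤ) * (β * β) - 1 := Int.toNat_of_nonneg hn0
    have eN : ∑ χ ∈ S, b χ * b χ = (n : ℤ) := by rw [hn']; linarith
    refine selRec_sound pred (fun χ => (b χ, dg χ)) _ S.toList _ _ _ _ ?_ ?_ ?_ ?_ ?_ ?_
    · intro χ hχ
      rw [Finset.mem_toList] at hχ
      obtain ⟨h1, h2, h3⟩ := hSmem χ hχ
      refine mem_cands (hdB χ h2) h1 ?_ ((hall χ).2.2.2.1 h3)
      rw [← eN]
      exact Finset.single_le_sum (fun i _ => mul_self_nonneg (b i)) hχ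
    · exact fun χ hχ => (hSmem χ (Finset.mem_toList.1 hχ)).1
    · have h : (((S.toList.map fun χ => (b χ * b χ).natAbs).sum : ℕ) : ℤ) = (n : ℤ) := by
        rw [Finset.sum_map_toList, ← eN]
        push_cast
        exact Finset.sum_congr rfl fun χ _ => abs_of_nonneg (mul_self_nonneg _)
      exact_mod_cast h
    · rw [Finset.sum_map_toList]
      linarith
    · have h : (((S.toList.map fun χ => dg χ * dg χ).sum : ℕ) : ℤ)
          ≤ ((GN - 1 - k * (d * d) : ℕ) : ℤ) := by
        rw [Finset.sum_map_toList]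
        simp only [sq] at sumQ
        have hle : k * (d * d) ≤ GN - 1 := by
          have h : ((k * (d * d) : ℕ) : ℤ) ≤ ((GN - 1 : ℕ) : ℤ) := by
            rw [hGN1]; push_cast
            have : 0 ≤ ∑ χ ∈ S, (dg χ : ℤ) * (dg χ : ℤ) := Finset.sum_nonneg fun χ _ => mul_self_nonneg _
            linarith
          exact_mod_cast h
        rw [Nat.cast_sub hle, hGN1]; push_cast
        linarith
      exact_mod_cast h
    · intro l' hl'
      -- the exceptional representative goes last
      have hmap : (l'.map fun χ => (((b χ), 1, dg χ) : Item)) ++ [((k : ℤ) * β + σ, k, d)]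
          = (l' ++ [ψ]).map (fun χ => if χ = ψ then (((k : ℤ) * β + σ, k, d) : Item) else (b χ, 1, dg χ)) := by
        rw [List.map_append, List.map_singleton, if_pos rfl]
        congr 1
        refine List.map_congr_left fun χ hχ => ?_
        rw [if_neg]
        rintro rfl
        exact (hSmem _ (Finset.mem_toList.1 (hl'.subset hχ))).2.2 hψ
      rw [hmap]
      have hl'ne : ∀ χ ∈ l', χ ≠ ψ := fun χ hχ h =>
        (hSmem χ (Finset.mem_toList.1 (hl'.subset hχ))).2.2 (h ▸ hψ)
      refine hpred _ (fun t => (l' ++ [ψ]).map fun χ => v χ t) (fun t ht => ?_) (fun t u ht hu htu => ?_)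
      · show _ ∈ valsOf GN _ _
        unfold valsOf
        refine valsRec_sound _ _ _ _ (fun χ => v χ t) _ _ _ _ ?_ ?_ ?_ ?_
        · intro χ hχ
          rcases List.mem_append.1 hχ with h | h
          · obtain ⟨h3, h4, h5⟩ := (hv χ t ht).2 (hSmem χ (Finset.mem_toList.1 (hl'.subset h))).2.1
            simp only [if_neg (hl'ne χ h)]
            exact ⟨h3, hidx t ▸ h4, h5⟩
          · obtain rfl := List.mem_singleton.1 h
            obtain ⟨h3, h4, h5⟩ := (hv χ t ht).2 hψ0
            simp only [if_true, ← (hXψ χ hψ).2]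
            exact ⟨h3, hidx t ▸ h4, h5⟩
        · simp only [List.map_append, List.sum_append, List.map_singleton, List.sum_singleton, if_true]
          rw [List.map_congr_left (g := fun χ => b χ * v χ t)
            (fun χ h => by simp only [if_neg (hl'ne χ h)]), toList S l' hl']
          linarith [sumA t ht]
        · simp only [List.map_append, List.sum_append, List.map_singleton, List.sum_singleton, if_true]
          rw [List.map_congr_left (g := fun χ => b χ * (v χ t * v χ t) * ((GN / dg χ : ℕ) : ℤ))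
            (fun χ h => by simp only [if_neg (hl'ne χ h)]), toList S l' hl']
          have := sumR t ht false (iff_of_false Bool.false_ne_true (hN t ht))
          simp only [Bool.false_eq_true, if_false] at this
          linarith
        · simp only [List.map_append, List.sum_append, List.map_singleton, List.sum_singleton, if_true]
          rw [List.map_congr_left (g := fun χ => v χ t * v χ t)
            (fun χ h => by simp only [if_neg (hl'ne χ h), Nat.cast_one, one_mul]), toList S l' hl']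
          linarith [sumC t ht]
      · show colOK _ _ _ _ _ = true
        rw [colOK_iff]
        -- the characters outside the list
        set R := (((Finset.univ \ X).erase χ₀).filter fun χ => ¬ b χ ≠ 0) with hRdef
        have full : ∀ F : Cfsg.IrrCharacter G → ℤ, (∀ φ ∈ X, F φ = F ψ) →
            ∑ χ, F χ = F χ₀ + ∑ χ ∈ S, F χ + ∑ χ ∈ R, F χ + (k : ℤ) * F ψ := by
          intro F hF
          rw [← Finset.sum_sdiff (Finset.subset_univ X), ← Finset.add_sum_erase _ _ hχd,
            Finset.sum_congr rfl hF, Finset.sum_const, hXc, nsmul_eq_mul,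
            ← Finset.sum_filter_add_sum_filter_not ((Finset.univ \ X).erase χ₀) (fun χ => b χ ≠ 0)]
          ring
        have hv1 : ∀ z : G, orderOf z = 2 → v χ₀ z = 1 := fun z hz => by
          have h1 := (hv χ₀ z hz).1
          rw [hone] at h1
          exact_mod_cast h1.symm
        have hsum0 : ∑ χ, v χ t * v χ u = 0 := by
          have h := sum_irr_mul_conj_of_not_isConj htu
          simp only [fun χ => (hv χ t ht).1, fun χ => (hv χ u hu).1, map_intCast] at h
          exact_mod_cast h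
        have e1 := full (fun χ => v χ t * v χ u) (fun φ hφ => by
          simp only [(hrel t ht).1 φ hφ, (hrel u hu).1 φ hφ])
        have e2 := full (fun χ => v χ t * v χ t) (fun φ hφ => by simp only [(hrel t ht).1 φ hφ])
        have e3 := full (fun χ => v χ u * v χ u) (fun φ hφ => by simp only [(hrel u hu).1 φ hφ])
        rw [hsum0, hv1 t ht, hv1 u hu] at e1
        rw [hcol t ht, hv1 t ht] at e2
        rw [hcol u hu, hv1 u hu] at e3
        simp only [one_mul] at e1 e2 e3
        have hlist : ∀ a c : G, dotRec ((l' ++ [ψ]).map fun χ => if χ = ψ then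
              (((k : ℤ) * β + σ, k, d) : Item) else (b χ, 1, dg χ))
            ((l' ++ [ψ]).map fun χ => v χ a) ((l' ++ [ψ]).map fun χ => v χ c)
            = ∑ χ ∈ S, v χ a * v χ c + (k : ℤ) * (v ψ a * v ψ c) := by
          intro a c
          rw [dotRec_map, List.map_append, List.sum_append, List.map_singleton, List.sum_singleton,
            if_pos rfl, List.map_congr_left (g := fun χ => v χ a * v χ c)
              (fun χ h => by simp only [if_neg (hl'ne χ h), Nat.cast_one, one_mul]), toList S l' hl']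
        rw [hlist, hlist, hlist]
        have cs := Finset.sum_mul_sq_le_sq_mul_sq R (fun χ => v χ t) (fun χ => v χ u)
        simp only [sq] at cs
        have r1 : (1 : ℤ) + (∑ χ ∈ S, v χ t * v χ u + (k : ℤ) * (v ψ t * v ψ u))
            = -∑ χ ∈ R, v χ t * v χ u := by linarith
        have r2 : ∑ χ ∈ R, v χ t * v χ t = (Nat.card (Subgroup.centralizer ({t} : Set G)) : ℤ) - 1 -
            (∑ χ ∈ S, v χ t * v χ t + (k : ℤ) * (v ψ t * v ψ t)) := by linarith
        have r3 : ∑ χ ∈ R, v χ u * v χ u = (Nat.card (Subgroup.centralizer ({u} : Set G)) : ℤ) - 1 -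
            (∑ χ ∈ S, v χ u * v χ u + (k : ℤ) * (v ψ u * v ψ u)) := by linarith
        rw [r1, ← r2, ← r3, neg_mul_neg]
        exact cs

end CfsgLib.MTwelveUnique
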