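import Cfsg.Agent.MTwelveUnique.Reduce
import Cfsg.Agent.MTwelveUnique.Data.Final
import Cfsg.Agent.MTwelveUnique.Data.Orbits

set_option autoImplicit false

/-!
A simple group of order 95040 with a configuration is isomorphic to one explicit permutation group
of degree 396.
-/

namespace CfsgLib.MTwelveUnique

open CfsgLib.CosetEnum Pointwise

noncomputable section

theorem permCheck_spec {x i : ℕ} (hx : x < 6) (hi : i < 396) :
    ext (finalTab.getD x 0) i < 396 ∧ ext (finalInv.getD x 0) i < 396 ∧
      ext (finalInv.getD x 0) (ext (finalTab.getD x 0) i) = i ∧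
      ext (finalTab.getD x 0) (ext (finalInv.getD x 0) i) = i := by
  have h := permCheck_eq
  simp only [permCheck, List.all_eq_true, List.mem_range] at h
  have := h x hx i hi
  simp only [Bool.and_eq_true, Nat.blt_eq, Nat.beq_eq] at this
  exact ⟨this.1, this.2.1, this.2.2.1, this.2.2.2⟩

/-- A generating permutation. -/
def tablePerm (x : Fin 6) : Equiv.Perm (Fin 396) where
  toFun i := ⟨ext (finalTab.getD x 0) i, (permCheck_spec x.2 i.2).1⟩
  invFun i := ⟨ext (finalInv.getD x 0) i, (permCheck_spec x.2 i.2).2.1⟩
  left_inv i := Fin.ext (permCheck_spec x.2 i.2).2.2.1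
  right_inv i := Fin.ext (permCheck_spec x.2 i.2).2.2.2

/-- The explicit group. -/
def tableGroup : Subgroup (Equiv.Perm (Fin 396)) :=
  Subgroup.closure (Set.range fun x => (tablePerm x)⁻¹)

theorem spanCheck_spec {i : ℕ} (hi : i < 396) (h0 : i ≠ 0) :
    ext spanPar i < 396 ∧ ext spanLet i < 6 ∧ ext spanRank (ext spanPar i) < ext spanRank i ∧
      ext (finalTab.getD (ext spanLet i) 0) (ext spanPar i) = i := by
  have h := spanCheck_eq
  simp only [spanCheck, List.all_eq_true, List.mem_range] at h
  have := h i hi
  simp only [Bool.or_eq_true, Bool.and_eq_true, Nat.blt_eq, Nat.beq_eq] at this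
  obtain ⟨a, b, c, d⟩ := this.resolve_left h0
  exact ⟨a, b, c, d⟩

/-- The orbit data are correct. -/
theorem orbitSteps_spec : (orbitSteps.all fun t =>
    decide (t.2.1 < 396 ∧ t.2.2 < 6 ∧ t.2.2 ≠ 4 ∧ ext (finalTab.getD t.2.2 0) t.2.1 = t.1)) = true := by
  decide +kernel

/-- Membership among the orbit representatives or their successors. -/
def reached : ℕ → List (ℕ × ℕ × ℕ) → ℕ
  | R, [] => R
  | R, t :: ts => reached (bif bit R t.2.1 then Nat.lor R (Nat.shiftLeft 1 t.1) else R) ts

/-- The representatives as a bit set. -/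
def repBits : ℕ := orbitReps.foldl (fun R t => Nat.lor R (Nat.shiftLeft 1 t.1)) 0

theorem reached_all : ((List.range 396).all fun i =>
    Nat.beq i 0 || bit (reached repBits orbitSteps) i) = true := by decide +kernel

theorem orbitPaths_ok : ((List.range 9).all fun k =>
    finalCert.reads (orbitReps.getD k (0, [])).2 0
      (ext finalReps (orbitReps.getD k (0, [])).1) (orbitPaths.getD k 0)) = true := by decide +kernel

theorem orbitReps_length : orbitReps.length = 9 := by decide +kernel

theorem finalReps_zero : ext finalReps 0 = 0 := by decide +kernel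

namespace Frame

variable {G : Type*} [Group G] [Finite G] [IsSimpleGroup G] (F : Frame G)

theorem card_range : Nat.card F.ι.range = 240 := by
  rw [← Nat.card_congr (MonoidHom.ofInjective F.inj).toEquiv, Nat.card_eq_fintype_card]
  decide +kernel

/-- The conclusion for one value of the loop word. -/
theorem nonempty_equiv_of_loop (hcard : Nat.card G = 95040)
    (hl : prodw F.gl loopWord = F.ι (wordM (loopVals.getD 0 []))) :
    Nonempty (G ≃* tableGroup) := by
  classical
  obtain ⟨hR, hW⟩ := F.steps_mem hl
  have hfc := finalCheck_eq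
  simp only [finalCheck, Bool.and_eq_true, List.all_eq_true, List.mem_range] at hfc
  obtain ⟨hok, hedge⟩ := hfc
  let c : ℕ → G := fun i => crOf F.gl finalCert.parN finalCert.parX (ext finalReps i)
  let f : Fin 396 → G ⧸ F.ι.range := fun i => (((c i)⁻¹ : G) : G ⧸ F.ι.range)
  have hc0 : c 0 = 1 := by
    simp only [c, finalReps_zero]
    exact crOf_zero _ _ _
  have hf0 : f 0 = ((1 : G) : G ⧸ F.ι.range) := by
    show (((c 0)⁻¹ : G) : G ⧸ F.ι.range) = _
    rw [hc0, inv_one]
  have hstep : ∀ (x : Fin 6) (i : Fin 396), F.gl (2 * x.val) • f (tablePerm x i) = f i := by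
    intro x i
    have h := hedge x x.2 i i.2
    simp only [Bool.and_eq_true, Nat.blt_eq] at h
    have hm := Cert.mem_of_reads F.gl_iv F.gl_eps hR hW hok h.2
    show (((F.gl (2 * x.val)) * (c (tablePerm x i))⁻¹ : G) : G ⧸ F.ι.range) = (((c i)⁻¹ : G) : G ⧸ _)
    rw [QuotientGroup.eq]
    have e : (tablePerm x i).val = ext (finalTab.getD x 0) i := rfl
    have := F.ι.range.inv_mem hm
    simp only [c, e]
    simpa [prodw, mul_assoc] using this
  -- the image is everything
  let L : Fin 6 → G := fun x => F.gl (2 * x.val)
  let S : Set (G ⧸ F.ι.range) := Set.range f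
  have hS : ∀ x, L x • S = S := by
    intro x
    apply Set.eq_of_subset_of_ncard_le _ _ (Set.toFinite _)
    · rintro _ ⟨_, ⟨i, rfl⟩, rfl⟩
      exact ⟨(tablePerm x).symm i, by rw [← hstep x, Equiv.apply_symm_apply]⟩
    · rw [show L x • S = (fun q => L x • q) '' S from rfl,
        Set.ncard_image_of_injective _ (MulAction.injective _)]
  have hstab : ∀ y ∈ Subgroup.closure (Set.range L), y • S = S := by
    intro y hy
    have : Subgroup.closure (Set.range L) ≤ MulAction.stabilizer G S := by
      rw [Subgroup.closure_le]
      rintro _ ⟨x, rfl⟩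
      exact hS x
    exact this hy
  have hrange : F.ι.range ≤ Subgroup.closure (Set.range L) := by
    rintro _ ⟨m, rfl⟩
    have : m ∈ (Subgroup.closure (Set.range L)).comap F.ι := (Subgroup.closure_le _).2 (by
      intro x hx
      simp only [Set.mem_insert_iff, Set.mem_singleton_iff] at hx
      rcases hx with rfl | rfl | rfl | rfl | rfl
      · exact Subgroup.subset_closure ⟨0, rfl⟩
      · exact Subgroup.subset_closure ⟨1, rfl⟩
      · exact Subgroup.subset_closure ⟨2, rfl⟩
      · exact Subgroup.subset_closure ⟨3, rfl⟩
      · exact Subgroup.subset_closure ⟨5, rfl⟩) (closure_letters m)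
    exact this
  have hinj0 : ∀ i : Fin 396, f i = f 0 → i = 0 := by
    intro i hi
    by_contra hne
    have hbit : bit (reached repBits orbitSteps) i.val = true := by
      have h := reached_all
      rw [List.all_eq_true] at h
      have := h i.val (List.mem_range.mpr i.2)
      simp only [Bool.or_eq_true, Nat.beq_eq] at this
      exact this.resolve_left fun h => hne (Fin.ext h)
    have hrep : ∀ (ts : List (ℕ × ℕ × ℕ)) (R : ℕ), (∀ t ∈ ts, t ∈ orbitSteps) →
        (∀ j : Fin 396, bit R j.val = true → f j ≠ f 0) →
        ∀ j : Fin 396, bit (reached R ts) j.val = true → f j ≠ f 0 := by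
      intro ts
      induction ts with
      | nil => intro R _ hR' j hj; exact hR' j hj
      | cons t ts ih =>
        intro R hts hR' j hj
        refine ih _ (fun u hu => hts u (List.mem_cons_of_mem t hu)) ?_ j hj
        intro l hbl
        cases hb : bit R t.2.1
        · rw [hb] at hbl
          exact hR' l hbl
        rw [hb, cond_true, bit_eq] at hbl
        change Nat.testBit (R ||| 1 <<< t.1) l.val = true at hbl
        simp only [Nat.testBit_or, Nat.one_shiftLeft, Nat.testBit_two_pow, Bool.or_eq_true,
          decide_eq_true_eq] at hbl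
        rcases hbl with hbl | hbl
        · exact hR' l (by rw [bit_eq]; exact hbl)
        · have hok' := List.all_eq_true.mp orbitSteps_spec t (hts t List.mem_cons_self)
          simp only [decide_eq_true_eq] at hok'
          obtain ⟨ha, hx, hx4, hT⟩ := hok'
          have hl : l = tablePerm ⟨t.2.2, hx⟩ ⟨t.2.1, ha⟩ := Fin.ext (hbl.symm.trans hT.symm)
          intro hfl
          refine hR' ⟨t.2.1, ha⟩ hb ?_
          rw [← hstep ⟨t.2.2, hx⟩ ⟨t.2.1, ha⟩, ← hl, hfl, hf0, MulAction.Quotient.smul_coe,
            smul_eq_mul, mul_one, QuotientGroup.eq, mul_one]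
          refine inv_mem ?_
          show F.gl (2 * t.2.2) ∈ _
          generalize t.2.2 = z at hx hx4
          interval_cases z <;> first | exact absurd rfl hx4 | exact ⟨_, rfl⟩
    refine hrep orbitSteps repBits (fun _ h => h) ?_ i hbit hi
    intro j hj hfj
    have hmem : ∃ k < 9, (orbitReps.getD k (0, [])).1 = j.val := by
      have : ∀ l < 396, bit repBits l = true → ∃ k < 9, (orbitReps.getD k (0, [])).1 = l := by
        decide +kernel
      exact this j.val j.2 hj
    obtain ⟨k, hk, hkj⟩ := hmem
    have hp := orbitPaths_ok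
    simp only [List.all_eq_true, List.mem_range] at hp
    have hu := Cert.mem_of_reads F.gl_iv F.gl_eps hR hW hok (hp k hk)
    rw [crOf_zero, one_mul, hkj] at hu
    rw [hf0] at hfj
    have hcj : c j.val ∈ F.ι.range := by simpa using QuotientGroup.eq.mp hfj
    have hu' : prodw F.gl (orbitReps.getD k (0, [])).2 ∈ F.ι.range := by
      simpa [c, mul_assoc] using mul_mem hu hcj
    have hW' : ∀ w ∈ subs [stepOne 13, stepTwo 15, (orbitReps.getD k (0, [])).2],
        prodw F.gl w ∈ F.ι.range := by
      intro w hw
      simp only [subs, List.mem_append, List.mem_cons, List.not_mem_nil, or_false] at hw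
      rcases hw with hw | hw | hw | hw
      · exact hW w (List.mem_append_left _ (by simpa using hw))
      · exact hW w (List.mem_append_right _ (by simp [hw]))
      · exact hW w (List.mem_append_right _ (by simp [hw]))
      · exact hw ▸ hu'
    refine F.not_collapses hR hW' ?_
    interval_cases k
    exacts [orbit_collapse_0, orbit_collapse_1, orbit_collapse_2, orbit_collapse_3, orbit_collapse_4,
      orbit_collapse_5, orbit_collapse_6, orbit_collapse_7, orbit_collapse_8]
  have hinj : Function.Injective f := by
    have key : ∀ n, ∀ i j : Fin 396, ext spanRank i.val ≤ n → f i = f j → i = j := by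
      intro n
      induction n with
      | zero =>
        intro i j hn hij
        by_cases h0 : i.val = 0
        · obtain rfl : i = 0 := Fin.ext h0
          exact (hinj0 j hij.symm).symm
        · have := (spanCheck_spec i.2 h0).2.2.1
          omega
      | succ n ih =>
        intro i j hn hij
        by_cases h0 : i.val = 0
        · obtain rfl : i = 0 := Fin.ext h0
          exact (hinj0 j hij.symm).symm
        · obtain ⟨ha, hx, hr, hT⟩ := spanCheck_spec i.2 h0
          set x : Fin 6 := ⟨ext spanLet i.val, hx⟩
          set a : Fin 396 := ⟨ext spanPar i.val, ha⟩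
          have hi : tablePerm x a = i := Fin.ext hT
          have h1 : f a = f ((tablePerm x).symm j) := by
            rw [← hstep x a, ← hstep x ((tablePerm x).symm j), hi, Equiv.apply_symm_apply, hij]
          have := ih a _ (by show ext spanRank (ext spanPar i.val) ≤ n; omega) h1
          rw [← hi, this, Equiv.apply_symm_apply]
    exact fun i j h => key _ i j le_rfl h
  have hindex : Nat.card (G ⧸ F.ι.range) = 396 := by
    have h := Subgroup.card_eq_card_quotient_mul_card_subgroup F.ι.range
    rw [F.card_range, hcard] at h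
    omega
  have hbij : Function.Bijective f := by
    rw [Nat.bijective_iff_injective_and_card]
    exact ⟨hinj, by rw [Nat.card_fin, hindex]⟩
  let e : Fin 396 ≃ G ⧸ F.ι.range := Equiv.ofBijective f hbij
  let Φ : G →* Equiv.Perm (Fin 396) :=
    e.symm.permCongrHom.toMonoidHom.comp (MulAction.toPermHom G (G ⧸ F.ι.range))
  have hΦ : ∀ (y : G) (i : Fin 396), e (Φ y i) = y • e i := fun y i => by
    simp [Φ, Equiv.permCongrHom, Equiv.permCongr_apply]
  have hgen : Subgroup.closure (Set.range L) = ⊤ := by
    rw [eq_top_iff]
    intro y _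
    obtain ⟨i, hi⟩ := hbij.2 ((y : G) : G ⧸ F.ι.range)
    have hall : ∀ i : Fin 396, ∃ z ∈ Subgroup.closure (Set.range L),
        f i = (z : G ⧸ F.ι.range) := by
      suffices ∀ n, ∀ i : Fin 396, ext spanRank i.val ≤ n → ∃ z ∈ Subgroup.closure (Set.range L),
          f i = (z : G ⧸ F.ι.range) from fun i => this _ i le_rfl
      intro n
      induction n with
      | zero =>
        intro i hn
        by_cases h0 : i.val = 0
        · obtain rfl : i = 0 := Fin.ext h0
          exact ⟨1, one_mem _, hf0⟩
        · have := (spanCheck_spec i.2 h0).2.2.1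
          omega
      | succ n ih =>
        intro i hn
        by_cases h0 : i.val = 0
        · obtain rfl : i = 0 := Fin.ext h0
          exact ⟨1, one_mem _, hf0⟩
        · obtain ⟨ha, hx, hr, hT⟩ := spanCheck_spec i.2 h0
          obtain ⟨z, hz, hfz⟩ := ih ⟨_, ha⟩ (by show ext spanRank (ext spanPar i.val) ≤ n; omega)
          set x : Fin 6 := ⟨ext spanLet i.val, hx⟩
          have hi : tablePerm x ⟨_, ha⟩ = i := Fin.ext hT
          refine ⟨(L x)⁻¹ * z, mul_mem (inv_mem (Subgroup.subset_closure ⟨x, rfl⟩)) hz, ?_⟩
          have := hstep x ⟨_, ha⟩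
          rw [hi, hfz] at this
          rw [← smul_eq_mul, ← MulAction.Quotient.smul_coe, ← this, inv_smul_smul]
    obtain ⟨z, hz, hfz⟩ := hall i
    rw [hfz, QuotientGroup.eq] at hi
    have := mul_mem hz (hrange hi)
    rwa [mul_inv_cancel_left] at this
  have hker : Function.Injective Φ := by
    rcases IsSimpleGroup.eq_bot_or_eq_top_of_normal _ (inferInstance : Φ.ker.Normal) with h | h
    · exact (MonoidHom.ker_eq_bot_iff Φ).mp h
    · exfalso
      have h1 : Φ F.g = 1 := MonoidHom.mem_ker.mp (h ▸ Subgroup.mem_top _)
      have h2 := hΦ F.g 0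
      rw [h1, Equiv.Perm.one_apply] at h2
      change f 0 = F.g • f 0 at h2
      rw [hf0, MulAction.Quotient.smul_coe, smul_eq_mul, mul_one, QuotientGroup.eq] at h2
      simp only [inv_one, one_mul] at h2
      exact F.g_notMem h2
  have hΦL : ∀ x, Φ (L x) = (tablePerm x)⁻¹ := by
    intro x
    ext i : 1
    apply e.injective
    rw [hΦ]
    show L x • f i = f ((tablePerm x).symm i)
    conv_lhs => rw [← (tablePerm x).apply_symm_apply i]
    exact hstep x _
  have himg : Φ.range = tableGroup := by
    rw [MonoidHom.range_eq_map, ← hgen, MonoidHom.map_closure, ← Set.range_comp]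
    have hcomp : (⇑Φ ∘ L) = fun x => (tablePerm x)⁻¹ := funext hΦL
    rw [hcomp]
    rfl
  exact ⟨(MonoidHom.ofInjective hker).trans (MulEquiv.subgroupCongr himg)⟩

end Frame

end

end CfsgLib.MTwelveUnique
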