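import Cfsg.Agent.MTwelveUnique.Frame
import Cfsg.Agent.MTwelveUnique.Data.Loop
import Cfsg.Agent.MTwelveUnique.Data.Hits
import Cfsg.Agent.MTwelveUnique.Data.StepOneA
import Cfsg.Agent.MTwelveUnique.Data.StepOneB
import Cfsg.Agent.MTwelveUnique.Data.StepOneC
import Cfsg.Agent.MTwelveUnique.Data.StepTwoA
import Cfsg.Agent.MTwelveUnique.Data.StepTwoB
import Cfsg.Agent.MTwelveUnique.Data.StepTwoC

set_option autoImplicit false

/-!
In a configuration the loop word takes one of two conjugate values and two further elements of the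
centralizer are determined.
-/

namespace CfsgLib.MTwelveUnique

open CfsgLib.CosetEnum

namespace Frame

variable {G : Type*} [Group G] (F : Frame G)

/-- A checked derivation in a configuration. -/
theorem mem_of_proves {R W : List (List ℕ)} (hR : ∀ w ∈ R, prodw F.gl w = 1)
    (hW : ∀ w ∈ W, prodw F.gl w ∈ F.ι.range) {w : List ℕ} (h : Proves R W w) :
    prodw F.gl w ∈ F.ι.range := by
  obtain ⟨C, S, hok, hr⟩ := h
  exact Cert.prodw_mem F.gl_iv F.gl_eps hR hW hok hr

theorem g_notMem : F.g ∉ F.ι.range := by
  intro h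
  rw [F.mem_range_iff] at h
  have h1 := F.conj_gen (mw, mp) (by simp [gGen])
  dsimp only at h1
  rw [mul_assoc, ← h, inv_mul_cancel_left] at h1
  exact mp_ne_mw (F.inj h1).symm

theorem not_collapses {R W : List (List ℕ)} (hR : ∀ w ∈ R, prodw F.gl w = 1)
    (hW : ∀ w ∈ W, prodw F.gl w ∈ F.ι.range) : ¬ Collapses R W := by
  rintro (h | h)
  · have := F.mem_of_proves hR hW h
    simp [prodw, gl] at this
    exact F.g_notMem (by simpa using this)
  · have hq := F.mem_of_proves hR hW h
    simp only [prodw, List.map_cons, List.map_nil, List.prod_cons, List.prod_nil, mul_one] at hq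
    change F.g * (F.ι mq * F.g⁻¹) ∈ F.ι.range at hq
    let K : Subgroup Mdl := F.ι.range.comap ((MulAut.conj F.g).toMonoidHom.comp F.ι)
    have hK : ∀ m, F.g * F.ι m * F.g⁻¹ ∈ F.ι.range → m ∈ K := fun m hm => hm
    have hpair : ∀ ab ∈ gGen, ab.2 ∈ K := by
      intro ab hab
      refine hK _ ?_
      rw [← F.conj_gen ab hab]
      have : F.g * (F.g⁻¹ * F.ι ab.1 * F.g) * F.g⁻¹ = F.ι ab.1 := by group
      rw [this]
      exact ⟨_, rfl⟩
    have hp : mp ∈ K := hpair (mw, mp) (by simp [gGen])
    have hwp : mw * mp ∈ K := hpair (mp, mw * mp) (by simp [gGen])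
    have hrs : mr * ms ∈ K := hpair (mr * ms, mr * ms) (by simp [gGen])
    have hpr : mp * mr ∈ K := hpair (mp * mr, mp * mr) (by simp [gGen])
    have hw : mw ∈ K := by simpa using mul_mem hwp (inv_mem hp)
    have hr : mr ∈ K := by simpa using mul_mem (inv_mem hp) hpr
    have hs : ms ∈ K := by simpa using mul_mem (inv_mem hr) hrs
    have hq' : mq ∈ K := hK _ (by simpa [mul_assoc] using hq)
    have htop : ∀ m, m ∈ K := fun m => (Subgroup.closure_le K).2 (by
      intro x hx
      simp only [Set.mem_insert_iff, Set.mem_singleton_iff] at hx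
      rcases hx with rfl | rfl | rfl | rfl | rfl <;> assumption) (closure_letters m)
    have hcomm : ∀ m, mp * m = m * mp := by
      intro m
      apply F.inj
      have h1 : F.g * F.ι m * F.g⁻¹ ∈ F.ι.range := htop m
      rw [F.mem_range_iff] at h1
      have h2 := F.conj_gen (mw, mp) (by simp [gGen])
      dsimp only at h2
      rw [map_mul, map_mul, ← h2]
      calc F.g⁻¹ * F.ι mw * F.g * F.ι m
          = F.g⁻¹ * (F.ι mw * (F.g * F.ι m * F.g⁻¹)) * F.g := by group
        _ = F.g⁻¹ * (F.g * F.ι m * F.g⁻¹ * F.ι mw) * F.g := by rw [h1]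
        _ = F.ι m * (F.g⁻¹ * F.ι mw * F.g) := by group
    exact mpq_ne (hcomm mq)

/-- The value of the loop word. -/
theorem exists_loop : ∃ j < 8, prodw F.gl loopWord = F.ι (wordM (loopVals.getD j [])) := by
  have hdef := loop_defined
  simp only [List.all_eq_true] at hdef
  have himg : ∀ a ∈ [mp, mr, mw], ∃ b, conjWord loopWord a = some b ∧
      (prodw F.gl loopWord)⁻¹ * F.ι a * prodw F.gl loopWord = F.ι b := fun a ha => by
    obtain ⟨b, hb⟩ := Option.isSome_iff_exists.mp (hdef a ha)
    exact ⟨b, hb, F.conjWord_sound _ hb⟩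
  obtain ⟨b, hb, hbeq⟩ := himg mw (by simp)
  have hbw : b = mw := by
    have : conjWord loopWord mw = some mw := by decide +kernel
    exact Option.some.inj (hb.symm.trans this)
  subst hbw
  have hmem : prodw F.gl loopWord ∈ F.ι.range := by
    rw [F.mem_range_iff]
    rw [mul_assoc, inv_mul_eq_iff_eq_mul] at hbeq
    exact hbeq.symm
  obtain ⟨k, hk⟩ := hmem
  obtain ⟨j, hj, hjk⟩ := loop_candidates k (by
    rw [List.all_eq_true]
    intro a ha
    obtain ⟨c, hc, hce⟩ := himg a ha
    rw [← hk, ← map_inv, ← map_mul, ← map_mul] at hce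
    simp [hc, F.inj hce])
  exact ⟨j, hj, by rw [← hk, hjk]⟩

theorem prodw_loopVal {j : ℕ} (hj : j < 8) :
    prodw F.gl (invW (loopVals.getD j [])) = (F.ι (wordM (loopVals.getD j [])))⁻¹ := by
  rw [F.prodw_invW _ (by interval_cases j <;> decide +kernel), F.prodw_model]
  intro x hx
  interval_cases j <;> simp [loopVals] at hx <;> omega

theorem conj_letters :
    F.g⁻¹ * F.ι mw * F.g = F.ι mp ∧ F.g⁻¹ * F.ι mp * F.g = F.ι mw * F.ι mp ∧
    F.g⁻¹ * (F.ι mr * F.ι ms) * F.g = F.ι mr * F.ι ms ∧
    F.g⁻¹ * (F.ι mp * F.ι mr) * F.g = F.ι mp * F.ι mr := by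
  refine ⟨F.conj_gen (mw, mp) (by simp [gGen]), ?_, ?_, ?_⟩
  · simpa using F.conj_gen (mp, mw * mp) (by simp [gGen])
  · simpa using F.conj_gen (mr * ms, mr * ms) (by simp [gGen])
  · simpa using F.conj_gen (mp * mr, mp * mr) (by simp [gGen])

theorem prodw_baseRels : ∀ r ∈ baseRels, prodw F.gl r = 1 := by
  intro r hr
  by_cases hg : (∀ x ∈ r, x ≠ 8 ∧ x ≠ 9)
  · have hm : ∀ r ∈ baseRels, (∀ x ∈ r, x ≠ 8 ∧ x ≠ 9) → wordM r = 1 := by decide +kernel
    rw [F.prodw_model r hg, hm r hr hg, map_one]
  · have h5 : r ∈ baseRels.drop 15 := by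
      have : ∀ r ∈ baseRels, r ∈ baseRels.drop 15 ∨ ∀ x ∈ r, x ≠ 8 ∧ x ≠ 9 := by decide +kernel
      exact (this r hr).resolve_right hg
    obtain ⟨c1, c2, c3, c4⟩ := F.conj_letters
    have hp : F.ι mp * F.ι mp = 1 := by rw [← map_mul, ← map_one F.ι]; congr 1; decide +kernel
    have hr' : F.ι mr * F.ι mr = 1 := by rw [← map_mul, ← map_one F.ι]; congr 1; decide +kernel
    have hs : F.ι ms * F.ι ms = 1 := by rw [← map_mul, ← map_one F.ι]; congr 1; decide +kernel
    simp [baseRels] at h5
    rcases h5 with rfl | rfl | rfl | rfl | rfl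
    · have := F.cube
      simp [prodw, gl, pow_succ, mul_assoc] at this ⊢
      exact this
    · simp only [prodw, List.map_cons, List.map_nil, List.prod_cons, List.prod_nil, mul_one]
      calc _ = (F.g⁻¹ * F.ι mw * F.g) * F.ι mp := by simp [gl, letM, mul_assoc]
        _ = 1 := by rw [c1, hp]
    · simp only [prodw, List.map_cons, List.map_nil, List.prod_cons, List.prod_nil, mul_one]
      calc _ = (F.g⁻¹ * F.ι mp * F.g) * (F.ι mw * F.ι mp) := by simp [gl, letM, mul_assoc]
        _ = 1 := by
          rw [c2, ← map_mul, ← map_mul, ← map_one F.ι]; congr 1; decide +kernel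
    · simp only [prodw, List.map_cons, List.map_nil, List.prod_cons, List.prod_nil, mul_one]
      calc _ = (F.g⁻¹ * (F.ι mr * F.ι ms) * F.g) * F.ι ms * F.ι mr := by simp [gl, letM, mul_assoc]
        _ = 1 := by rw [c3, mul_assoc (F.ι mr), hs, mul_one, hr']
    · simp only [prodw, List.map_cons, List.map_nil, List.prod_cons, List.prod_nil, mul_one]
      calc _ = (F.g⁻¹ * (F.ι mp * F.ι mr) * F.g) * F.ι mr * F.ι mp := by simp [gl, letM, mul_assoc]
        _ = 1 := by rw [c4, mul_assoc (F.ι mp), hr', mul_one, hp]

theorem prodw_relsOf {j : ℕ} (hj : j < 8)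
    (hl : prodw F.gl loopWord = F.ι (wordM (loopVals.getD j []))) :
    ∀ r ∈ relsOf (loopVals.getD j []), prodw F.gl r = 1 := by
  intro r hr
  simp only [relsOf, List.mem_append, List.mem_cons] at hr
  rcases hr with hr | rfl | hr
  · exact F.prodw_baseRels r hr
  · rw [prodw_append, hl, F.prodw_loopVal hj, mul_inv_cancel]
  · have hx : ∀ r ∈ extraRels, (∀ x ∈ r, x ≠ 8 ∧ x ≠ 9) ∧ wordM r = 1 := by decide +kernel
    rw [F.prodw_model r (hx r hr).1, (hx r hr).2, map_one]

theorem prodw_subs {l : List (List ℕ)} (hl : ∀ w ∈ l, prodw F.gl w ∈ F.ι.range) :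
    ∀ w ∈ subs l, prodw F.gl w ∈ F.ι.range := by
  intro w hw
  rcases List.mem_append.mp hw with h | h
  · have hx : ∀ r ∈ ([[0], [2], [4], [6], [10]] : List (List ℕ)), ∀ x ∈ r, x ≠ 8 ∧ x ≠ 9 := by decide
    exact ⟨_, (F.prodw_model w (hx w h)).symm⟩
  · exact hl w h

theorem prodw_subs_nil : ∀ w ∈ subs [], prodw F.gl w ∈ F.ι.range := F.prodw_subs (by simp)

/-- Only two values of the loop word remain. -/
theorem loop_zero_or_four : prodw F.gl loopWord = F.ι (wordM (loopVals.getD 0 [])) ∨
    prodw F.gl loopWord = F.ι (wordM (loopVals.getD 4 [])) := by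
  obtain ⟨j, hj, hl⟩ := F.exists_loop
  have hR := F.prodw_relsOf hj hl
  interval_cases j
  · exact .inl hl
  · exact absurd loop_collapse_1 (F.not_collapses hR F.prodw_subs_nil)
  · exact absurd loop_collapse_2 (F.not_collapses hR F.prodw_subs_nil)
  · exact absurd loop_collapse_3 (F.not_collapses hR F.prodw_subs_nil)
  · exact .inr hl
  · exact absurd loop_collapse_5 (F.not_collapses hR F.prodw_subs_nil)
  · exact absurd loop_collapse_6 (F.not_collapses hR F.prodw_subs_nil)
  · exact absurd loop_collapse_7 (F.not_collapses hR F.prodw_subs_nil)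

/-- From a fixed coset to a new element of the centralizer. -/
theorem exists_step {u x v : List ℕ} (hu : u.all goodLetter = true) (hv : v.all goodLetter = true)
    (hx : ∀ y ∈ x, y ≠ 8 ∧ y ≠ 9) (hvx : conjWord v mw = some (wordM x))
    (hm : prodw F.gl (u ++ x ++ invW u) ∈ F.ι.range) :
    ∃ j < 36, prodw F.gl (classWords.getD j [] ++ u ++ invW v) ∈ F.ι.range := by
  rw [prodw_append, prodw_append, F.prodw_invW u hu, F.prodw_model x hx,
    ← F.conjWord_sound v hvx] at hm
  obtain ⟨m, hm⟩ := hm
  have hconj : IsConj (F.ι mw) (F.ι m) := by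
    rw [isConj_iff]
    exact ⟨prodw F.gl u * (prodw F.gl v)⁻¹, by rw [hm]; group⟩
  obtain ⟨j, hj, hjm⟩ := inClass_covered m (F.inClass_of_isConj m hconj)
  refine ⟨j, hj, ?_⟩
  have h1 := F.conjWord_sound _ hjm
  rw [hm] at h1
  rw [prodw_append, prodw_append, F.prodw_invW v hv, F.mem_range_iff]
  generalize prodw F.gl (classWords.getD j []) = a at h1 ⊢
  generalize prodw F.gl u = U at h1 ⊢
  generalize prodw F.gl v = V at h1 ⊢
  calc a * U * V⁻¹ * F.ι mw
      = a * (U * (V⁻¹ * F.ι mw * V) * U⁻¹) * U * V⁻¹ := by group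
    _ = a * (a⁻¹ * F.ι mw * a) * U * V⁻¹ := by rw [h1]
    _ = F.ι mw * (a * U * V⁻¹) := by group

/-- Both further elements lie in the centralizer. -/
theorem steps_mem (hl : prodw F.gl loopWord = F.ι (wordM (loopVals.getD 0 []))) :
    (∀ r ∈ rels, prodw F.gl r = 1) ∧
      ∀ w ∈ subs [stepOne 13, stepTwo 15], prodw F.gl w ∈ F.ι.range := by
  have hR : ∀ r ∈ rels, prodw F.gl r = 1 := F.prodw_relsOf (by norm_num) hl
  obtain ⟨j, hj, hj1⟩ := F.exists_step (u := hitU₀) (x := hitX₀) (v := hitV₀)
    (by decide +kernel) (by decide +kernel) (by decide +kernel) hitV₀_spec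
    (F.mem_of_proves hR F.prodw_subs_nil hit₀)
  have hW1 : ∀ w ∈ subs [stepOne j], prodw F.gl w ∈ F.ι.range := F.prodw_subs (by
    intro w hw
    rw [List.mem_singleton] at hw
    subst hw
    exact hj1)
  have hj13 : j = 13 := by
    by_contra hne
    refine F.not_collapses hR hW1 ?_
    interval_cases j <;> first
      | exact absurd rfl hne
      | exact step_one_collapse_0 | exact step_one_collapse_1 | exact step_one_collapse_2
      | exact step_one_collapse_3 | exact step_one_collapse_4 | exact step_one_collapse_5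
      | exact step_one_collapse_6 | exact step_one_collapse_7 | exact step_one_collapse_8
      | exact step_one_collapse_9 | exact step_one_collapse_10 | exact step_one_collapse_11
      | exact step_one_collapse_12 | exact step_one_collapse_14 | exact step_one_collapse_15
      | exact step_one_collapse_16 | exact step_one_collapse_17 | exact step_one_collapse_18
      | exact step_one_collapse_19 | exact step_one_collapse_20 | exact step_one_collapse_21
      | exact step_one_collapse_22 | exact step_one_collapse_23 | exact step_one_collapse_24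
      | exact step_one_collapse_25 | exact step_one_collapse_26 | exact step_one_collapse_27
      | exact step_one_collapse_28 | exact step_one_collapse_29 | exact step_one_collapse_30
      | exact step_one_collapse_31 | exact step_one_collapse_32 | exact step_one_collapse_33
      | exact step_one_collapse_34 | exact step_one_collapse_35
  subst hj13
  obtain ⟨k, hk, hk2⟩ := F.exists_step (u := hitU₁) (x := hitX₁) (v := hitV₁)
    (by decide +kernel) (by decide +kernel) (by decide +kernel) hitV₁_spec
    (F.mem_of_proves hR hW1 hit₁)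
  have hW2 : ∀ w ∈ subs [stepOne 13, stepTwo k], prodw F.gl w ∈ F.ι.range := F.prodw_subs (by
    intro w hw
    simp only [List.mem_cons, List.not_mem_nil, or_false] at hw
    rcases hw with rfl | rfl
    · exact hj1
    · exact hk2)
  have hk15 : k = 15 := by
    by_contra hne
    refine F.not_collapses hR hW2 ?_
    interval_cases k <;> first
      | exact absurd rfl hne
      | exact step_two_collapse_0 | exact step_two_collapse_1 | exact step_two_collapse_2
      | exact step_two_collapse_3 | exact step_two_collapse_4 | exact step_two_collapse_5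
      | exact step_two_collapse_6 | exact step_two_collapse_7 | exact step_two_collapse_8
      | exact step_two_collapse_9 | exact step_two_collapse_10 | exact step_two_collapse_11
      | exact step_two_collapse_12 | exact step_two_collapse_13 | exact step_two_collapse_14
      | exact step_two_collapse_16 | exact step_two_collapse_17 | exact step_two_collapse_18
      | exact step_two_collapse_19 | exact step_two_collapse_20 | exact step_two_collapse_21
      | exact step_two_collapse_22 | exact step_two_collapse_23 | exact step_two_collapse_24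
      | exact step_two_collapse_25 | exact step_two_collapse_26 | exact step_two_collapse_27
      | exact step_two_collapse_28 | exact step_two_collapse_29 | exact step_two_collapse_30
      | exact step_two_collapse_31 | exact step_two_collapse_32 | exact step_two_collapse_33
      | exact step_two_collapse_34 | exact step_two_collapse_35
  subst hk15
  exact ⟨hR, hW2⟩

end Frame

end CfsgLib.MTwelveUnique
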