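import Cfsg.Agent.MTwelveUnique.FiveB

/-!
The action of a subgroup on the Sylow 5-subgroups inside it.
-/

set_option autoImplicit false

open scoped Pointwise
open MulAction

namespace CfsgLib.MTwelveUnique

open CfsgLib.MElevenUnique (Cg Ng Cs fixCard mem_Cg mem_Cs Cs_le_Ng inCard inCard_spec)

variable {G : Type*} [Group G]

/-- The Sylow 5-subgroups inside `L`. -/
def SylIn (L : Subgroup G) := {R : Sylow 5 G // (R : Subgroup G) ≤ L}

theorem smul_sylow_le {p : ℕ} {L : Subgroup G} {R : Sylow p G} (hR : (R : Subgroup G) ≤ L) {l : G}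
    (hl : l ∈ L) : ((l • R : Sylow p G) : Subgroup G) ≤ L := by
  intro z hz
  rw [Sylow.coe_subgroup_smul, Subgroup.mem_pointwise_smul_iff_inv_smul_mem, ← map_inv] at hz
  simp only [MulAut.smul_def, MulAut.conj_apply, inv_inv] at hz
  have := L.mul_mem (L.mul_mem hl (hR hz)) (L.inv_mem hl)
  simpa [mul_assoc] using this

instance instActionSylIn (L : Subgroup G) : MulAction L (SylIn L) where
  smul l R := ⟨(l : G) • R.1, smul_sylow_le R.2 l.2⟩
  one_smul R := Subtype.ext (one_smul G R.1)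
  mul_smul a b R := Subtype.ext (mul_smul (a : G) (b : G) R.1)

theorem smul_sylIn_val {L : Subgroup G} (l : L) (R : SylIn L) : (l • R).1 = (l : G) • R.1 := rfl

instance [Finite G] (L : Subgroup G) : Finite (SylIn L) := by unfold SylIn; infer_instance

theorem card_sylIn (L : Subgroup G) : Nat.card (SylIn L) = Nat.card {R : Sylow 5 G // (R : Subgroup G) ≤ L} := rfl

section

variable [Finite G] [Fact (Nat.Prime 5)] (hall : ∀ R : Sylow 5 G, Nat.card (R : Subgroup G) = 5)
  {L : Subgroup G}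
include hall

/-- An element fixing all the Sylow 5-subgroups inside `L` centralises them. -/
theorem mem_Cs_of_fix_all (h1 : inCard 5 L ≠ 1) {x : G}
    (hfix : ∀ R : Sylow 5 G, (R : Subgroup G) ≤ L → x ∈ Ng (R : Subgroup G)) {R : Sylow 5 G}
    (hR : (R : Subgroup G) ≤ L) : x ∈ Cs (R : Subgroup G) := by
  obtain ⟨R', hR', hne⟩ : ∃ R' : Sylow 5 G, (R' : Subgroup G) ≤ L ∧ R' ≠ R := by
    by_contra hc
    push Not at hc
    apply h1
    rw [Nat.card_eq_one_iff_unique]
    exact ⟨⟨fun a b => Subtype.ext ((hc a.1 a.2).trans (hc b.1 b.2).symm)⟩, ⟨⟨R, hR⟩⟩⟩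
  rw [mem_Cs]
  intro a ha
  set c := a⁻¹ * x * a * x⁻¹ with hc
  have hcR : c ∈ (R : Subgroup G) := by
    rw [show c = a⁻¹ * (x * a * x⁻¹) by rw [hc]; group]
    exact mul_mem (inv_mem ha) (conj_mem_of_mem_Ng (hfix R hR) ha)
  have hcN : c ∈ Ng (R' : Subgroup G) := by
    refine mul_mem ?_ (inv_mem (hfix R' hR'))
    rw [← MElevenUnique.smul_sylow_eq_iff, ← smul_smul, ← smul_smul,
      MElevenUnique.smul_sylow_eq_iff.2 (hfix _ (smul_sylow_le hR' (hR ha))), inv_smul_smul]
  have hc1 : c = 1 := by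
    by_contra hne1
    have h' := MElevenUnique.mem_sylow_of_normalizes (k := 1)
      (by rw [pow_one]; exact Small.orderOf_eq_of_mem_prime (hall R) hcR hne1) hcN
    exact hne (Sylow.ext ((Small.eq_zpowers_of_mem_prime (hall R') h' hne1).symm.trans
      (Small.eq_zpowers_of_mem_prime (hall R) hcR hne1)))
  rw [hc, mul_inv_eq_one] at hc1
  calc a * x = a * (a⁻¹ * x * a) := by rw [hc1]
    _ = x * a := by group

/-- A 2-element centralising one of six Sylow 5-subgroups of a group centralises all six. -/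
theorem mem_Cs_of_six {Q Q' : Sylow 5 G} (hQ : (Q : Subgroup G) ≤ L) (hQ' : (Q' : Subgroup G) ≤ L)
    (h6 : inCard 5 L = 6) {w : G} (hwL : w ∈ L) (hwQ : w ∈ Cs (Q : Subgroup G)) {k : ℕ}
    (hk : orderOf w ∣ 2 ^ k) : w ∈ Cs (Q' : Subgroup G) :=
  mem_Cs_of_fix_all hall (by omega)
    (fun _ hR => mem_Ng_of_six hall hQ hR h6 hwL hwQ (orderOf_dvd_iff_pow_eq_one.1 hk)) hQ'

theorem mem_Cs_of_toPerm_eq_one (h1 : inCard 5 L ≠ 1) {x : L}
    (hx : toPermHom L (SylIn L) x = 1) {R : Sylow 5 G} (hR : (R : Subgroup G) ≤ L) :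
    (x : G) ∈ Cs (R : Subgroup G) :=
  mem_Cs_of_fix_all hall h1 (fun R hR => MElevenUnique.smul_sylow_eq_iff.1
    (congrArg Subtype.val (congrArg (fun σ : Equiv.Perm (SylIn L) => σ ⟨R, hR⟩) hx))) hR

omit hall in
theorem toPerm_eq_one_of_Cs {x : L}
    (hx : ∀ R : Sylow 5 G, (R : Subgroup G) ≤ L → (x : G) ∈ Cs (R : Subgroup G)) :
    toPermHom L (SylIn L) x = 1 :=
  Equiv.ext fun R => Subtype.ext (MElevenUnique.smul_sylow_eq_iff.2 (Cs_le_Ng _ (hx R.1 R.2)))

omit hall in
/-- An element whose order does not divide that of the normalisers fixes no point. -/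
theorem fixCard_eq_zero {n : ℕ} (hN : ∀ R : Sylow 5 G, (R : Subgroup G) ≤ L →
    Nat.card ↥(L ⊓ Ng (R : Subgroup G)) = n) {y : L} (hy : ¬ orderOf (y : G) ∣ n) :
    fixCard (SylIn L) y = 0 := by
  rw [fixCard, Nat.card_eq_zero]
  left
  refine ⟨fun c => hy ?_⟩
  rw [← hN c.1.1 c.1.2]
  exact Subgroup.orderOf_dvd_natCard _ ⟨y.2, MElevenUnique.smul_sylow_eq_iff.1 (congrArg Subtype.val c.2)⟩

omit hall in
/-- On six points an even involution and a fixed-point-free element of order three do not commute. -/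
theorem toPerm_eq_one_of_commute (h6 : inCard 5 L = 6)
    (heven : ∀ σ : L, ∀ [Fintype (SylIn L)] [DecidableEq (SylIn L)],
      Equiv.Perm.sign (toPermHom L (SylIn L) σ) = 1)
    {y : L} (hy : y ^ 3 = 1) (hfy : fixCard (SylIn L) y = 0) {x : L} (hc : Commute x y) {k : ℕ}
    (hx : x ^ 2 ^ k = 1) : toPermHom L (SylIn L) x = 1 := by
  classical
  haveI := Fact.mk Nat.prime_three
  haveI := Fintype.ofFinite (SylIn L)
  by_contra hne
  set f := toPermHom L (SylIn L)
  have hd : orderOf (f x) ∣ 2 ^ k := by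
    rw [orderOf_dvd_iff_pow_eq_one, ← map_pow, hx, map_one]
  obtain ⟨j, -, hj⟩ := (Nat.dvd_prime_pow Nat.prime_two).1 hd
  have hj0 : j ≠ 0 := fun e => hne (orderOf_eq_one_iff.1 (by rw [hj, e, pow_zero]))
  set z := x ^ 2 ^ (j - 1) with hz
  have hσ : orderOf (f z) = 2 := by
    rw [hz, map_pow, orderOf_pow, hj, Nat.gcd_eq_right (pow_dvd_pow 2 (by omega)),
      Nat.pow_div (by omega) two_pos, show j - (j - 1) = 1 by omega, pow_one]
  have h1 := MElevenUnique.fix_modEq_inter (X := SylIn L) (hc.pow_left (2 ^ (j - 1))) hy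
  have h2 : Nat.card {a : SylIn L // z • a = a ∧ y • a = a} = 0 := by
    have := MElevenUnique.inter_le_fix_right (X := SylIn L) z y
    omega
  rw [← hz, h2] at h1
  have hsupp : (f z).support.card + fixCard (SylIn L) z = 6 := by
    rw [← h6, show inCard 5 L = Nat.card (SylIn L) from rfl, fixCard, Nat.card_eq_fintype_card,
      Nat.card_eq_fintype_card,
      add_comm, ← Finset.card_compl_add_card (f z).support]
    congr 1
    rw [Fintype.card_of_subtype]
    intro a
    rw [Finset.mem_compl, Equiv.Perm.mem_support, not_not]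
    rfl
  have hsign := heven z
  rw [Small.sign_of_sq_eq_one hσ] at hsign
  have hpos : 2 ≤ (f z).support.card := by
    have h := Equiv.Perm.card_support_le_one (f := f z)
    have hne1 : f z ≠ 1 := fun e => by rw [e, orderOf_one] at hσ; norm_num at hσ
    by_contra hlt
    exact hne1 (h.1 (by omega))
  have he : Even ((f z).support.card / 2) := by
    by_contra h
    rw [Nat.not_even_iff_odd] at h
    rw [h.neg_one_pow] at hsign
    exact absurd hsign (by decide)
  obtain ⟨r, hr⟩ := he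
  have hr1 : r ≤ 1 := by omega
  rcases Nat.le_one_iff_eq_zero_or_eq_one.1 hr1 with rfl | rfl <;> omega

end

end CfsgLib.MTwelveUnique
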