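import Cfsg.Agent.MTwelveUnique.Tools

/-!
Sylow subgroups inside subgroups, and their normalisers.
-/

set_option autoImplicit false

open scoped Pointwise
open MulAction

namespace CfsgLib.MTwelveUnique

open CfsgLib.MElevenUnique (Cg Ng Cs)

variable {G : Type*} [Group G] [Finite G]

theorem le_Ng_of_all_mem {q a : ℕ} [Fact q.Prime] {A C N : Subgroup G} (hAC : A ≤ C) (hA : Nat.card A = q ^ a)
    (hN : N ≤ Ng C) (hall : ∀ x ∈ C, ∀ k, orderOf x ∣ q ^ k → x ∈ A) : N ≤ Ng A := by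
  intro n hn
  refine mem_Ng_of_map_le ?_
  rintro _ ⟨x, hx, rfl⟩
  refine hall _ (conj_mem_of_mem_Ng (hN hn) (hAC hx)) a ?_
  show orderOf (n * x * n⁻¹) ∣ _
  rw [orderOf_conj', ← hA]
  exact Subgroup.orderOf_dvd_natCard A hx

theorem card_sylow_le {q a : ℕ} [Fact q.Prime] {L : Subgroup G} (R : Sylow q L) (hdvd : q ^ a ∣ Nat.card L)
    (hnd : ¬ q ^ (a + 1) ∣ Nat.card L) : Nat.card (R : Subgroup L) = q ^ a := by
  rw [R.card_eq_multiplicity]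
  congr 1
  have h1 := ((Fact.out : q.Prime).pow_dvd_iff_le_factorization Nat.card_pos.ne').1 hdvd
  by_contra hne
  exact hnd (((Fact.out : q.Prime).pow_dvd_iff_le_factorization Nat.card_pos.ne').2 (by omega))

/-- A `q`-subgroup of `L` lies in a Sylow `q`-subgroup of `L`. -/
theorem exists_sylow_le {q b : ℕ} [Fact q.Prime] {K L : Subgroup G} (hKL : K ≤ L) (hK : IsPGroup q K)
    (hdvd : q ^ b ∣ Nat.card L) (hnd : ¬ q ^ (b + 1) ∣ Nat.card L) :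
    ∃ R : Subgroup G, K ≤ R ∧ R ≤ L ∧ Nat.card R = q ^ b := by
  obtain ⟨R, hR⟩ := (hK.comap_of_injective L.subtype L.subtype_injective).exists_le_sylow
  refine ⟨(R : Subgroup L).map L.subtype, fun x hx => ⟨⟨x, hKL hx⟩, hR hx, rfl⟩,
    Subgroup.map_subtype_le _, ?_⟩
  rw [Subgroup.card_subtype]
  exact card_sylow_le R hdvd hnd

/-- A unique Sylow `q`-subgroup of `L`. -/
theorem unique_of_sylow_one {q a : ℕ} [Fact q.Prime] {L : Subgroup G} (R : Sylow q L)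
    (h1 : Nat.card (Sylow q L) = 1) (hR : Nat.card (R : Subgroup L) = q ^ a)
    (hnd : ¬ q ^ (a + 1) ∣ Nat.card L) :
    ∃ A : Subgroup G, A ≤ L ∧ Nat.card A = q ^ a ∧ L ≤ Ng A ∧
      ∀ x ∈ L, ∀ k, orderOf x ∣ q ^ k → x ∈ A := by
  haveI := (Nat.card_eq_one_iff_unique.1 h1).1
  haveI : (R : Subgroup L).Normal := Sylow.normal_of_subsingleton R
  have hAc : Nat.card ((R : Subgroup L).map L.subtype) = q ^ a := by rw [Subgroup.card_subtype, hR]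
  have hn : L ≤ Ng ((R : Subgroup L).map L.subtype) := by
    intro l hl
    refine mem_Ng_of_map_le ?_
    rintro _ ⟨_, ⟨m, hm, rfl⟩, rfl⟩
    exact ⟨⟨l, hl⟩ * m * (⟨l, hl⟩ : L)⁻¹,
      (inferInstance : (R : Subgroup L).Normal).conj_mem m hm (⟨l, hl⟩ : L), rfl⟩
  exact ⟨_, Subgroup.map_subtype_le _, hAc, hn,
    fun x hx k hk => mem_of_normal_sylow (Subgroup.map_subtype_le _) hn hAc hnd hx hk⟩

theorem exists_unique_sylow {q a m : ℕ} [Fact q.Prime] {L : Subgroup G} (hL : Nat.card L = q ^ a * m)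
    (hm : ¬ q ∣ m) (hd : ∀ d ∈ Nat.divisors m, d % q = 1 → d = 1) :
    ∃ A : Subgroup G, A ≤ L ∧ Nat.card A = q ^ a ∧ L ≤ Ng A ∧
      ∀ x ∈ L, ∀ k, orderOf x ∣ q ^ k → x ∈ A := by
  obtain ⟨R⟩ : Nonempty (Sylow q L) := inferInstance
  have hnd : ¬ q ^ (a + 1) ∣ Nat.card L := by
    rintro ⟨c, hc⟩
    rw [hL, pow_succ, mul_assoc] at hc
    exact hm ⟨c, Nat.eq_of_mul_eq_mul_left (pow_pos (Fact.out : q.Prime).pos a) hc⟩
  exact unique_of_sylow_one R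
    (hd _ (Nat.mem_divisors.2 ⟨Small.card_sylow_dvd hL hm, fun h => hm (h ▸ dvd_zero q)⟩)
      (Small.card_sylow_mod q)) (Small.card_sylow_eq hL hm R) hnd

theorem exists_normalizing_not_mem {q : ℕ} [Fact q.Prime] {R T : Subgroup G} (hT : IsPGroup q T)
    (hRT : R ≤ T) (hne : R ≠ T) : ∃ t ∈ T, t ∉ R ∧ t ∈ Ng R := by
  haveI : Group.IsNilpotent T := hT.isNilpotent
  have hlt : R.subgroupOf T < ⊤ := lt_top_iff_ne_top.2 fun h =>
    hne (le_antisymm hRT (Subgroup.subgroupOf_eq_top.1 h))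
  obtain ⟨t, htN, htR⟩ := SetLike.exists_of_lt (normalizerCondition_of_isNilpotent (R.subgroupOf T) hlt)
  refine ⟨t, t.2, fun h => htR h, mem_Ng_of_map_le ?_⟩
  rintro _ ⟨h, hh, rfl⟩
  exact conj_mem_of_mem_Ng (H := R.subgroupOf T) htN (a := ⟨h, hRT hh⟩) hh

omit [Finite G] in
theorem le_Ng_map_conj {K R : Subgroup G} {t : G} (hRK : R ≤ Ng K) (ht : t ∈ Ng R) :
    R ≤ Ng (K.map (MulAut.conj t).toMonoidHom) := by
  intro r hr
  have hr' := hRK (conj_mem_of_mem_Ng' ht hr)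
  rw [Subgroup.mem_normalizer_iff] at hr' ⊢
  intro a
  rw [mem_map_conj, mem_map_conj]
  have h := hr' (t⁻¹ * a * t)
  rw [show t⁻¹ * r * t * (t⁻¹ * a * t) * (t⁻¹ * r * t)⁻¹ = t⁻¹ * (r * a * r⁻¹) * t by group] at h
  exact h

omit [Finite G] in
theorem le_Ng_inf {A B R : Subgroup G} (hA : R ≤ Ng A) (hB : R ≤ Ng B) : R ≤ Ng (A ⊓ B) := by
  intro r hr
  have h1 := hA hr
  have h2 := hB hr
  rw [Subgroup.mem_normalizer_iff] at h1 h2 ⊢
  intro a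
  exact ⟨fun h => ⟨(h1 a).1 h.1, (h2 a).1 h.2⟩, fun h => ⟨(h1 a).2 h.1, (h2 a).2 h.2⟩⟩

theorem two_dvd_of_ne_bot {K : Subgroup G} (hK : IsPGroup 2 K) (h : K ≠ ⊥) : 2 ∣ Nat.card K := by
  haveI := Fact.mk Nat.prime_two
  haveI : Nontrivial K := K.nontrivial_iff_ne_bot.2 h
  obtain ⟨n, hn, he⟩ := hK.nontrivial_iff_card.1 inferInstance
  rw [he]; exact dvd_pow_self 2 hn.ne'

end CfsgLib.MTwelveUnique
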