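import Cfsg.Agent.MElevenUnique.Tools
import Cfsg.Agent.GraphSimple.Tools
import Cfsg.Agent.Coprime.Generation
import Cfsg.Agent.Small.NormalizerFusion
import Cfsg.Agent.Small.SimpleTools
import Cfsg.Agent.Small.SylowPrime

/-!
Generic tools for the local analysis of a simple group of order 95040: complements inside subgroups,
invariant Sylow subgroups, normal Sylow subgroups of normalisers, transfer.
-/

set_option autoImplicit false

open scoped Pointwise
open MulAction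

namespace CfsgLib.MTwelveUnique

open CfsgLib.MElevenUnique (Cg Ng Cs mem_Cg mem_Cs Cs_le_Ng inCard inCard_spec)

variable {G : Type*} [Group G]

theorem mem_normal_of_coprime {N : Subgroup G} [N.Normal] {x : G}
    (h : (orderOf x).Coprime N.index) : x ∈ N := by
  rw [← QuotientGroup.eq_one_iff, ← orderOf_eq_one_iff]
  refine Nat.eq_one_of_dvd_coprimes h (orderOf_map_dvd (QuotientGroup.mk' N) x) ?_
  rw [Subgroup.index_eq_card]
  exact orderOf_dvd_natCard _

theorem card_subgroupOf {H L : Subgroup G} (h : H ≤ L) : Nat.card (H.subgroupOf L) = Nat.card H :=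
  Nat.card_congr (Subgroup.subgroupOfEquivOfLe h).toEquiv

theorem normal_subgroupOf {H L : Subgroup G} (h : H ≤ L) (hn : L ≤ Ng H) : (H.subgroupOf L).Normal :=
  (Subgroup.normal_subgroupOf_iff_le_normalizer h).2 hn

theorem smul_mk_eq_iff {H : Subgroup G} {x g : G} : x • (g : G ⧸ H) = g ↔ g⁻¹ * x * g ∈ H := by
  show ((x * g : G) : G ⧸ H) = g ↔ _
  rw [eq_comm, QuotientGroup.eq, mul_assoc]

theorem orderOf_conj' (g x : G) : orderOf (g * x * g⁻¹) = orderOf x :=
  orderOf_injective (MulAut.conj g).toMonoidHom (MulAut.conj g).injective x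

theorem mem_map_conj {H : Subgroup G} {g x : G} :
    x ∈ H.map (MulAut.conj g).toMonoidHom ↔ g⁻¹ * x * g ∈ H := by
  constructor
  · rintro ⟨y, hy, rfl⟩
    simpa [mul_assoc] using hy
  · exact fun h => ⟨_, h, by simp [mul_assoc]⟩

theorem card_map_conj (H : Subgroup G) (g : G) :
    Nat.card (H.map (MulAut.conj g).toMonoidHom : Subgroup G) = Nat.card H :=
  MElevenUnique.card_conj_smul g

theorem mem_Ng_of_map_le [Finite G] {H : Subgroup G} {g : G}
    (h : H.map (MulAut.conj g).toMonoidHom ≤ H) : g ∈ Ng H := by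
  have he := Subgroup.eq_of_le_of_card_ge h (card_map_conj H g).ge
  rw [Subgroup.mem_normalizer_iff]
  intro a
  constructor
  · intro ha
    exact h ⟨a, ha, rfl⟩
  · intro ha
    have ha' : g * a * g⁻¹ ∈ H.map (MulAut.conj g).toMonoidHom := he.symm ▸ ha
    obtain ⟨b, hb, hb'⟩ := ha'
    have : b = a := (MulAut.conj g).injective hb'
    exact this ▸ hb

theorem conj_mem_of_mem_Ng {H : Subgroup G} {g a : G} (hg : g ∈ Ng H) (ha : a ∈ H) : g * a * g⁻¹ ∈ H :=
  (Subgroup.mem_normalizer_iff.1 hg a).1 ha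

theorem conj_mem_of_mem_Ng' {H : Subgroup G} {g a : G} (hg : g ∈ Ng H) (ha : a ∈ H) : g⁻¹ * a * g ∈ H := by
  simpa using conj_mem_of_mem_Ng (inv_mem hg) ha

/-- Two large subgroups of a group meet. -/
theorem inf_ne_bot_of_card [Finite G] {A B H : Subgroup G} (hA : A ≤ H) (hB : B ≤ H)
    (h : Nat.card H < Nat.card A * Nat.card B) : A ⊓ B ≠ ⊥ := by
  intro he
  rw [← Nat.card_prod] at h
  refine (Nat.card_le_card_of_injective
    (fun ab : A × B => (⟨ab.1 * ab.2, H.mul_mem (hA ab.1.2) (hB ab.2.2)⟩ : H)) ?_).not_gt h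
  rintro ⟨a, b⟩ ⟨a', b'⟩ e
  have e' : (a : G) * b = a' * b' := congrArg Subtype.val e
  have h1 : (a' : G)⁻¹ * a = b' * (b : G)⁻¹ := by
    rw [eq_mul_inv_iff_mul_eq, mul_assoc, e', inv_mul_cancel_left]
  have h2 : (a' : G)⁻¹ * a ∈ A ⊓ B :=
    ⟨A.mul_mem (A.inv_mem a'.2) a.2, h1 ▸ B.mul_mem b'.2 (B.inv_mem b.2)⟩
  rw [he, Subgroup.mem_bot] at h2
  have ha : a = a' := Subtype.ext (inv_mul_eq_one.1 h2).symm
  rw [h2, eq_comm, mul_inv_eq_one] at h1
  exact Prod.ext ha (Subtype.ext h1.symm)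

theorem exists_ne_one_of_ne_bot {A : Subgroup G} (h : A ≠ ⊥) : ∃ a ∈ A, a ≠ 1 := by
  by_contra hc
  push Not at hc
  exact h ((Subgroup.eq_bot_iff_forall A).2 hc)

section Finite

variable [Finite G]

theorem exists_sylow_mem {p : ℕ} [Fact p.Prime] {y : G} (hy : orderOf y = p) :
    ∃ P : Sylow p G, y ∈ (P : Subgroup G) := by
  obtain ⟨P, hP⟩ := (IsPGroup.of_card (n := 1) (by rw [Nat.card_zpowers, hy, pow_one]) :
    IsPGroup p (Subgroup.zpowers y)).exists_le_sylow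
  exact ⟨P, hP (Subgroup.mem_zpowers y)⟩

theorem complement_aux {p a : ℕ} [Fact p.Prime] (L : Subgroup G) (P : Sylow p L)
    (hP : Nat.card (P : Subgroup L) = p ^ a)
    (hNC : Subgroup.normalizer ((P : Subgroup L) : Set L) ≤ Subgroup.centralizer ((P : Subgroup L) : Set L)) :
    ∃ M : Subgroup G, M ≤ L ∧ L ≤ Ng M ∧ Nat.card M * p ^ a = Nat.card L ∧ ¬ p ∣ Nat.card M ∧
      ∀ x ∈ L, ¬ p ∣ orderOf x → x ∈ M := by
  obtain ⟨M₀, hM₀, hcard, hdvd⟩ : ∃ M₀ : Subgroup L, M₀.Normal ∧ Nat.card M₀ * p ^ a = Nat.card L ∧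
      ¬ p ∣ Nat.card M₀ := by
    refine ⟨_, MonoidHom.normal_ker (MonoidHom.transferSylow P hNC), ?_,
      MonoidHom.not_dvd_card_ker_transferSylow P hNC⟩
    rw [← hP]
    exact (MonoidHom.ker_transferSylow_isComplement' P hNC).card_mul_card
  haveI := hM₀
  refine ⟨M₀.map L.subtype, Subgroup.map_subtype_le _, ?_, ?_, ?_, ?_⟩
  · intro l hl
    refine mem_Ng_of_map_le ?_
    rintro _ ⟨_, ⟨m, hm, rfl⟩, rfl⟩
    exact ⟨⟨l, hl⟩ * m * (⟨l, hl⟩ : L)⁻¹, hM₀.conj_mem m hm (⟨l, hl⟩ : L), rfl⟩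
  · rw [Subgroup.card_subtype]; exact hcard
  · rw [Subgroup.card_subtype]; exact hdvd
  · intro x hx hnd
    have hi : M₀.index = p ^ a := by
      have h1 := M₀.index_mul_card
      rw [← hcard, mul_comm] at h1
      exact Nat.eq_of_mul_eq_mul_left Nat.card_pos h1
    refine ⟨⟨x, hx⟩, mem_normal_of_coprime ?_, rfl⟩
    rw [hi, ← Subgroup.orderOf_coe]
    exact Nat.Coprime.pow_right a (((Fact.out : p.Prime).coprime_iff_not_dvd).2 hnd).symm

/-- Burnside's complement inside a subgroup. -/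
theorem exists_complement {p a : ℕ} [Fact p.Prime] {L H : Subgroup G} (hle : H ≤ L)
    (hcard : Nat.card H = p ^ a) (hnd : ¬ p ^ (a + 1) ∣ Nat.card L) (hN : L ⊓ Ng H ≤ Cs H) :
    ∃ M : Subgroup G, M ≤ L ∧ L ≤ Ng M ∧ Nat.card M * p ^ a = Nat.card L ∧ ¬ p ∣ Nat.card M ∧
      ∀ x ∈ L, ¬ p ∣ orderOf x → x ∈ M := by
  have hHK : Nat.card (H.subgroupOf L) = p ^ a := (card_subgroupOf hle).trans hcard
  have hnd' : ¬ p ∣ (H.subgroupOf L).index := by
    rintro ⟨c, hc⟩
    have h1 := (H.subgroupOf L).index_mul_card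
    rw [hHK, hc] at h1
    exact hnd ⟨c, by rw [← h1, pow_succ]; ring⟩
  refine complement_aux (a := a) L ((IsPGroup.of_card hHK).toSylow hnd') hHK ?_
  intro k hk y hy
  refine Subtype.ext (hN ⟨k.2, ?_⟩ y.1 hy)
  refine mem_Ng_of_map_le ?_
  rintro _ ⟨h, hh, rfl⟩
  exact conj_mem_of_mem_Ng (H := H.subgroupOf L) hk (a := ⟨h, hle hh⟩) hh

/-- A cyclic Sylow 2-subgroup has an odd complement. -/
theorem exists_odd_complement {a : ℕ} {L R : Subgroup G} (hle : R ≤ L) (hcyc : IsCyclic R)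
    (hR : Nat.card R = 2 ^ a) (ha : a ≠ 0) (hnd : ¬ 2 ^ (a + 1) ∣ Nat.card L) :
    ∃ M : Subgroup G, M ≤ L ∧ L ≤ Ng M ∧ Nat.card M * 2 ^ a = Nat.card L ∧ ¬ 2 ∣ Nat.card M ∧
      ∀ x ∈ L, ¬ 2 ∣ orderOf x → x ∈ M := by
  haveI := Fact.mk Nat.prime_two
  have hRL : Nat.card (R.subgroupOf L) = 2 ^ a := (card_subgroupOf hle).trans hR
  have hnd' : ¬ 2 ∣ (R.subgroupOf L).index := by
    rintro ⟨c, hc⟩
    have h1 := (R.subgroupOf L).index_mul_card
    rw [hRL, hc] at h1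
    exact hnd ⟨c, by rw [← h1, pow_succ]; ring⟩
  have hmin : (Nat.card L).minFac = 2 := by
    rw [Nat.minFac_eq_two_iff]
    exact ((dvd_pow_self 2 ha).trans (dvd_of_eq hRL.symm)).trans (Subgroup.card_subgroup_dvd_card _)
  refine complement_aux (a := a) L ((IsPGroup.of_card hRL).toSylow hnd') hRL ?_
  refine IsCyclic.normalizer_le_centralizer hmin ?_
  haveI := hcyc
  exact isCyclic_of_surjective (Subgroup.subgroupOfEquivOfLe hle).symm.toMonoidHom
    (Subgroup.subgroupOfEquivOfLe hle).symm.surjective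

/-- A group of twice odd order has a half containing the elements of odd order. -/
theorem exists_half {L : Subgroup G} (h : Nat.card L % 4 = 2) :
    ∃ M : Subgroup G, M ≤ L ∧ L ≤ Ng M ∧ Nat.card M * 2 = Nat.card L ∧
      ∀ x ∈ L, ¬ 2 ∣ orderOf x → x ∈ M := by
  obtain ⟨t, htL, ht⟩ := Small.Fusion.exists_orderOf (H := L) Nat.prime_two (by omega)
  obtain ⟨M, h1, h2, h3, -, h4⟩ := exists_odd_complement (a := 1) (L := L) (R := Subgroup.zpowers t)
    (Subgroup.zpowers_le.2 htL) inferInstance (by rw [Nat.card_zpowers, ht, pow_one]) one_ne_zero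
    (by norm_num; omega)
  exact ⟨M, h1, h2, by simpa using h3, h4⟩

/-- A group of prime order centralises some invariant Sylow subgroup of a coprime group. -/
theorem exists_centralised_sylow {p q b : ℕ} [Fact p.Prime] [Fact q.Prime] {H M : Subgroup G}
    (hH : Nat.card H = p) (hn : H ≤ Ng M) (hpM : ¬ p ∣ Nat.card M) (hqb : q ^ b ∣ Nat.card M)
    (hnd : ¬ q ^ (b + 1) ∣ Nat.card M)
    (hmod : ∀ d, d ∣ q ^ b → d % p = q ^ b % p → d = q ^ b) :
    ∃ R : Subgroup G, R ≤ M ∧ Nat.card R = q ^ b ∧ H ≤ Ng R ∧ R ≤ Cs H := by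
  haveI : IsCyclic H := isCyclic_of_prime_card hH
  have hsolv : Group.IsSolvable H := by
    letI := IsCyclic.commGroup (α := H)
    exact inferInstance
  obtain ⟨R, hR⟩ := Coprime.exists_invariant_sylow (A := H) (G := M) hn
    (hH ▸ ((Fact.out : p.Prime).coprime_iff_not_dvd).2 hpM) (Or.inl hsolv) q
  set R' := (R : Subgroup M).map M.subtype
  have hcard : Nat.card R' = q ^ b := by
    rw [Subgroup.card_subtype, R.card_eq_multiplicity]
    congr 1
    have h1 := ((Fact.out : q.Prime).pow_dvd_iff_le_factorization Nat.card_pos.ne').1 hqb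
    by_contra hne
    exact hnd (((Fact.out : q.Prime).pow_dvd_iff_le_factorization Nat.card_pos.ne').2 (by omega))
  refine ⟨R', Subgroup.map_subtype_le _, hcard, hR, GraphSimple.le_centralizer_of_mod (p := p)
    (IsPGroup.of_card (n := 1) (by rw [hH, pow_one])) hR ?_⟩
  rw [hcard]; exact hmod

/-- Elements of `q`-power order of a group lie in a normal Sylow `q`-subgroup. -/
theorem mem_of_normal_sylow {q a k : ℕ} [Fact q.Prime] {A H : Subgroup G} (hAH : A ≤ H) (hn : H ≤ Ng A)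
    (hA : Nat.card A = q ^ a) (hnd : ¬ q ^ (a + 1) ∣ Nat.card H) {x : G} (hx : x ∈ H)
    (hxo : orderOf x ∣ q ^ k) : x ∈ A := by
  haveI := normal_subgroupOf hAH hn
  have key : (⟨x, hx⟩ : H) ∈ A.subgroupOf H := by
    refine mem_normal_of_coprime (Nat.Coprime.of_dvd_left (a₂ := q ^ k) (by rwa [← Subgroup.orderOf_coe]) ?_)
    refine Nat.Coprime.pow_left k (((Fact.out : q.Prime).coprime_iff_not_dvd).2 ?_)
    rintro ⟨c, hc⟩
    have h1 := (A.subgroupOf H).index_mul_card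
    rw [card_subgroupOf hAH, hA, hc] at h1
    exact hnd ⟨c, by rw [← h1, pow_succ]; ring⟩
  exact key

theorem le_of_normal_sylow {q a : ℕ} [Fact q.Prime] {A H B : Subgroup G} (hAH : A ≤ H) (hn : H ≤ Ng A)
    (hA : Nat.card A = q ^ a) (hnd : ¬ q ^ (a + 1) ∣ Nat.card H) (hB : B ≤ H) (hBq : IsPGroup q B) :
    B ≤ A := fun x hx => by
  obtain ⟨k, hk⟩ := IsPGroup.iff_orderOf.1 hBq ⟨x, hx⟩
  exact mem_of_normal_sylow hAH hn hA hnd (hB hx) (k := k) (by rw [← hk, ← Subgroup.orderOf_coe])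

/-- A normal Sylow `q`-subgroup `A` of `N(P)` whose index is not `1` modulo `q` has a normaliser
larger than `N(P)`. -/
theorem card_normalizer_trick {p q a : ℕ} [Fact p.Prime] [Fact q.Prime] (P : Sylow p G)
    {A : Subgroup G} (hAH : A ≤ Ng (P : Subgroup G)) (hn : Ng (P : Subgroup G) ≤ Ng A)
    (hA : Nat.card A = q ^ a) (hnd : ¬ q ^ (a + 1) ∣ Nat.card (Ng (P : Subgroup G)))
    (hidx : Nat.card (Sylow p G) % q ≠ 1) :
    ∃ n, n % p = 1 ∧ n ≠ 1 ∧ Nat.card (Ng A) = n * Nat.card (Ng (P : Subgroup G)) := by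
  set H := Ng (P : Subgroup G)
  have hAq : IsPGroup q A := IsPGroup.of_card hA
  obtain ⟨g, hgH, hg⟩ : ∃ g : G, g ∉ H ∧ ∀ x ∈ A, g⁻¹ * x * g ∈ H := by
    by_contra hc
    push Not at hc
    apply hidx
    have h1 := hAq.card_modEq_card_fixedPoints (G ⧸ H)
    have h2 : Nat.card (fixedPoints A (G ⧸ H)) = 1 := by
      rw [Nat.card_eq_one_iff_unique]
      refine ⟨⟨fun c d => Subtype.ext ?_⟩, ⟨⟨((1 : G) : G ⧸ H), fun x =>
        smul_mk_eq_iff.2 (by simpa using hAH x.2)⟩⟩⟩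
      have hone : ∀ c : fixedPoints A (G ⧸ H), (c : G ⧸ H) = ((1 : G) : G ⧸ H) := by
        rintro ⟨c, hc'⟩
        induction c using QuotientGroup.induction_on with
        | _ g =>
          show (g : G ⧸ H) = _
          rw [eq_comm, QuotientGroup.eq, inv_one, one_mul]
          by_contra hgH
          obtain ⟨x, hxA, hx⟩ := hc g hgH
          exact hx (smul_mk_eq_iff.1 (hc' ⟨x, hxA⟩))
      rw [hone c, hone d]
    rw [P.card_eq_index_normalizer, Subgroup.index_eq_card]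
    rw [h2] at h1
    exact Eq.trans h1 (Nat.mod_eq_of_lt (Fact.out : q.Prime).one_lt)
  have hgA : g ∈ Ng A := by
    refine inv_inv g ▸ inv_mem (mem_Ng_of_map_le ?_)
    have hB : A.map (MulAut.conj g⁻¹).toMonoidHom ≤ H := by
      rintro _ ⟨x, hx, rfl⟩
      simpa using hg x hx
    exact le_of_normal_sylow hAH hn hA hnd hB (hAq.map _)
  have hPA : (P : Subgroup G) ≤ Ng A := Subgroup.le_normalizer.trans hn
  obtain ⟨h1, h2⟩ := inCard_spec P hPA
  rw [inf_eq_right.2 hn] at h2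
  refine ⟨inCard p (Ng A), h1, fun h => hgH ?_, h2⟩
  rw [h, one_mul] at h2
  rw [show H = Ng A from Subgroup.eq_of_le_of_card_ge hn (le_of_eq h2)]
  exact hgA

theorem transfer_eq_pow_of_key {H : Subgroup G} {A : Type*} [CommGroup A] (φ : H →* A) {s : G}
    (hs : s ∈ H) (key : ∀ (k : ℕ) (g : G) (h : g⁻¹ * s ^ k * g ∈ H),
      φ ⟨g⁻¹ * s ^ k * g, h⟩ = φ ⟨s, hs⟩ ^ k) :
    MonoidHom.transfer φ s = φ ⟨s, hs⟩ ^ H.index := by
  classical
  letI := H.fintypeQuotientOfFiniteIndex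
  rw [MonoidHom.transfer_eq_prod_quotient_orbitRel_zpowers_quot,
    Finset.prod_congr rfl (fun q _ => key _ _ _), Finset.prod_pow_eq_pow_sum,
    ← Subgroup.index_eq_sum_minimalPeriod]

end Finite

theorem hom_eq_one [IsSimpleGroup G] (hG : ¬ IsMulCommutative G) {A : Type*} [CommGroup A] (f : G →* A)
    (x : G) : f x = 1 := by
  rcases f.normal_ker.eq_bot_or_eq_top with h | h
  · exact absurd ⟨⟨fun a b => (MonoidHom.ker_eq_bot_iff f).1 h (by rw [map_mul, map_mul, mul_comm])⟩⟩ hG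
  · exact MonoidHom.mem_ker.1 (h ▸ Subgroup.mem_top x)

end CfsgLib.MTwelveUnique
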