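import Cfsg.Agent.MTwelveUnique.Checker

set_option autoImplicit false

/-!
Letters: `p q r s g w` are `0 2 4 6 8 10`, the next number stands for the inverse.
-/

namespace CfsgLib.MTwelveUnique

/-- Defining relations known before the loop relation. -/
def baseRels : List (List ℕ) :=
  [[0, 0], [2, 2], [4, 4], [6, 6], [0, 2, 0, 2, 0, 2], [2, 4, 2, 4, 2, 4], [4, 6, 4, 6, 4, 6], [0, 4, 0, 4], [0, 6, 0, 6], [2, 6, 2, 6], [10, 10], [10, 0, 10, 0], [10, 2, 10, 2], [10, 4, 10, 4], [10, 6, 10, 6], [8, 8, 8], [9, 10, 8, 0], [9, 0, 8, 10, 0], [9, 4, 6, 8, 6, 4], [9, 0, 4, 8, 4, 0]]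

/-- Further relations of `S₅`. -/
def extraRels : List (List ℕ) :=
  [[0, 2, 4, 0, 2, 4, 0, 2, 4, 0, 2, 4], [0, 2, 4, 6, 0, 2, 4, 6, 0, 2, 4, 6, 0, 2, 4, 6, 0, 2, 4, 6], [2, 4, 6, 2, 4, 6, 2, 4, 6, 2, 4, 6], [0, 4, 2, 0, 4, 2, 0, 4, 2, 0, 4, 2], [0, 4, 2, 6, 0, 4, 2, 6, 0, 4, 2, 6, 0, 4, 2, 6, 0, 4, 2, 6], [2, 4, 2, 6, 2, 4, 2, 6, 2, 4, 2, 6], [0, 2, 0, 4, 0, 2, 0, 4, 0, 2, 0, 4]]

/-- The loop word. -/
def loopWord : List ℕ := [9, 2, 0, 4, 2, 9, 2, 4, 0, 2, 9]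

/-- Inverse of a word in which all letters but `g` are involutions. -/
def invW (w : List ℕ) : List ℕ :=
  (w.map fun x => if x = 8 then 9 else if x = 9 then 8 else x).reverse

/-- Candidate values of the loop word. -/
def loopVals : List (List ℕ) :=
  [[2, 0, 4, 2], [0, 2, 0, 4, 2], [2, 0, 4, 2, 0], [2, 0, 4, 2, 10], [0, 2, 0, 4, 2, 0], [0, 2, 0, 4, 2, 10], [2, 0, 4, 2, 0, 10], [0, 2, 0, 4, 2, 0, 10]]

/-- Relations once the loop word has the value `k`. -/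
def relsOf (k : List ℕ) : List (List ℕ) := baseRels ++ (loopWord ++ invW k) :: extraRels

/-- Relations in the surviving case. -/
def rels : List (List ℕ) := relsOf [2, 0, 4, 2]

/-- Generators of the subgroup, together with further elements of it. -/
def subs (l : List (List ℕ)) : List (List ℕ) := [[0], [2], [4], [6], [10]] ++ l

/-- Words carrying `w` to the members of its class inside the centralizer. -/
def classWords : List (List ℕ) :=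
  [[], [8], [9], [8, 2], [8, 2, 0], [8, 2, 4], [8, 2, 0, 4], [8, 2, 4, 6], [8, 2, 0, 4, 2], [8, 2, 0, 4, 6], [8, 2, 0, 4, 2, 6], [8, 2, 0, 4, 2, 6, 4], [9, 2], [9, 2, 0], [9, 2, 4], [9, 2, 0, 4], [9, 2, 4, 6], [9, 2, 0, 4, 2], [9, 2, 0, 4, 6], [9, 2, 0, 4, 2, 6], [9, 2, 0, 4, 2, 6, 4], [8, 2, 0, 4, 2, 9], [8, 2, 0, 4, 2, 6, 9], [8, 2, 0, 4, 2, 6, 4, 9], [8, 2, 0, 4, 2, 9, 2], [8, 2, 0, 4, 2, 9, 2, 0], [8, 2, 0, 4, 2, 9, 2, 6], [8, 2, 0, 4, 2, 9, 2, 0, 6], [8, 2, 0, 4, 2, 9, 2, 6, 4], [8, 2, 0, 4, 2, 9, 6, 4, 2], [8, 2, 0, 4, 2, 9, 2, 0, 6, 4], [8, 2, 0, 4, 2, 9, 2, 6, 4, 2], [8, 2, 0, 4, 2, 9, 6, 4, 2, 0], [8, 2, 0, 4, 2, 9, 2, 0, 6, 4, 2], [8, 2, 0, 4, 2, 9, 2, 6, 4, 2, 0], [8, 2, 0, 4, 2, 9, 2, 0, 6, 4, 2, 0]]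

def hitU₀ : List ℕ := [9, 2, 8, 2, 8, 4, 2]
def hitX₀ : List ℕ := [0, 4, 6, 4, 10]
def hitV₀ : List ℕ := [8, 2, 0, 4, 2, 6, 9]
def hitU₁ : List ℕ := [9, 2, 0, 9, 2, 8, 2, 4, 2, 6, 8]
def hitX₁ : List ℕ := [4]
def hitV₁ : List ℕ := [8, 2, 0, 4, 2]

/-- First step: the candidate elements of the centralizer. -/
def stepOne (j : ℕ) : List ℕ := classWords.getD j [] ++ hitU₀ ++ invW hitV₀

/-- Second step: the candidate elements of the centralizer. -/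
def stepTwo (j : ℕ) : List ℕ := classWords.getD j [] ++ hitU₁ ++ invW hitV₁

/-- A checked derivation that a word lies in the subgroup. -/
def Proves (R W : List (List ℕ)) (w : List ℕ) : Prop :=
  ∃ C : Cert, ∃ S : ℕ, C.ok R W = true ∧ C.reads w 0 0 S = true

/-- Either outcome contradicts the structure of the configuration. -/
def Collapses (R W : List (List ℕ)) : Prop := Proves R W [8] ∨ Proves R W [8, 2, 9]

end CfsgLib.MTwelveUnique
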